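/-
Finite checks on the principal block at 11 of a simple group of order 95040.

Main results (namespace `Cfsg.Agent.Order95040`): `rows_complete`, `tenCheck_true`, `involCheck_true`,
`fiveCheck_true`, `oddCheck_true`.
-/
import Cfsg.Agent.EqLemmas

set_option autoImplicit false
set_option maxRecDepth 20000

namespace Cfsg.Agent.Order95040

/-- Four integers. -/
abbrev Q4 : Type := ℤ × ℤ × ℤ × ℤ

/-- The entries of a function on four indices. -/
def q4 (f : Fin 4 → ℤ) : Q4 := (f 0, f 1, f 2, f 3)

/-- A sum over two aligned quadruples. -/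
def sum2 (f : ℤ → ℤ → ℤ) (x v : Q4) : ℤ :=
  f x.1 v.1 + f x.2.1 v.2.1 + f x.2.2.1 v.2.2.1 + f x.2.2.2 v.2.2.2

/-- A sum over three aligned quadruples. -/
def sum3 (f : ℤ → ℤ → ℤ → ℤ) (x v w : Q4) : ℤ :=
  f x.1 v.1 w.1 + f x.2.1 v.2.1 w.2.1 + f x.2.2.1 v.2.2.1 w.2.2.1 + f x.2.2.2 v.2.2.2 w.2.2.2

/-- The signed degree of the exceptional characters. -/
def yOf (x : Q4) : ℤ := 1 + (x.1 + x.2.1 + x.2.2.1 + x.2.2.2)

/-- The value of the exceptional characters. -/
def veOf (u : ℤ) (x v : Q4) : ℤ := (yOf x).sign * (u + sum2 (fun s t => s.sign * t) x v)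

/-- The norm of the block part of a column. -/
def normOf (u : ℤ) (x v : Q4) : ℤ := u * u + sum2 (fun _ t => t * t) x v + 2 * (veOf u x v * veOf u x v)

/-- The part of the degree relation. -/
def dgOf (u : ℤ) (x v : Q4) : ℤ :=
  u + sum2 (fun s t => (s.natAbs : ℤ) * t) x v + 2 * ((yOf x).natAbs * veOf u x v)

/-- The squares of the degrees in the block. -/
def ssOf (x : Q4) : ℤ := 1 + sum2 (fun s _ => s * s) x x + 2 * (yOf x * yOf x)

/-- `|G|` times the class sum for two regular classes and an element of order 11. -/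
def tzOf (c u : ℤ) (x v w : Q4) : ℤ :=
  c * 95040 + sum3 (fun s p q => p * q * (95040 / s)) x v w
    - veOf u x v * veOf u x w * (95040 / yOf x)

/-- `|G|` times the class sum for two elements of order 11 and a regular class. -/
def sigOf (x v : Q4) (zz : ℤ) : ℤ :=
  95040 + sum2 (fun s t => t * (95040 / (s.natAbs : ℤ))) x v
    + zz * veOf 1 x v * (95040 / ((yOf x).natAbs : ℤ))

/-- A class multiplication constant is a natural number. -/
def fibOK (K t : ℤ) : Bool := decide (0 ≤ K * t) && decide (K * t % (95040 * 95040) = 0)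

/-- The conditions on a single value. -/
def okv (u q B K : ℤ) (five : Bool) (s v : ℤ) : Bool :=
  decide (v * v ≤ B) && decide ((v.natAbs : ℤ) < u * (s.natAbs : ℤ)) &&
  decide ((u * (s.natAbs : ℤ) - v) % q = 0) && decide (K * v % (s.natAbs : ℤ) = 0) &&
  (!five || decide (s % 5 ≠ 0) || decide (v = 0))

/-- The values satisfying `okv`, of absolute value at most `r`. -/
def cand (r : ℕ) (u q B K : ℤ) (five : Bool) (s : ℤ) : List ℤ :=
  ((List.range (2 * r + 1)).map fun i : ℕ => (i : ℤ) - (r : ℤ)).filter (okv u q B K five s)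

/-- Running through the candidate columns of a row. -/
def allCols (r : ℕ) (u q B K : ℤ) (five : Bool) (x : Q4) (P : Q4 → Bool) : Bool :=
  (cand r u q B K five x.1).all fun a => (cand r u q B K five x.2.1).all fun b =>
    (cand r u q B K five x.2.2.1).all fun c => (cand r u q B K five x.2.2.2).all fun d =>
      !(okv u q B K five (yOf x) (veOf u x (a, b, c, d)) && decide (normOf u x (a, b, c, d) ≤ B)) ||
        P (a, b, c, d)

/-- The possible rows. -/
def rows : List Q4 :=
  [(-120, -54, -32, 45), (-120, -54, 45, 144), (-120, -32, 12, 144), (-120, -10, -10, 144),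
    (-120, -10, 12, 45), (-120, -10, 12, 144), (-120, -10, 45, 144), (-120, 45, 45, 45),
    (-54, -54, -32, 144), (-54, -54, -10, 45), (-54, -54, -10, 144), (-54, -32, -32, 45),
    (-54, -32, -32, 144), (-54, -32, 45, 45), (-54, -10, 12, 45), (-54, -10, 45, 45),
    (-54, 12, 12, 45), (-32, -32, 12, 45), (-32, -32, 45, 45), (-32, -10, -10, 45),
    (-32, -10, 12, 45), (-32, 12, 12, 12), (-10, -10, -10, 45), (-10, -10, 12, 12),
    (-10, 12, 12, 12), (-10, 12, 12, 45)]

/-- The signed degrees of the row of M12. -/
def theRow : Q4 := (-120, -54, 45, 144)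

/-- The column of an involution with centraliser of order 240. -/
def tCol : Q4 := (0, 6, 5, 4)

/-- The column of an involution with centraliser of order 192. -/
def sCol : Q4 := (-8, 6, -3, 0)

/-- The column of an element of order 5. -/
def wCol : Q4 := (0, -1, 0, -1)

/-- The possible signed degrees. -/
def xCand : List ℤ := [-120, -54, -32, -10, 12, 45, 144]

/-- The conditions on a row. -/
def rowOK (x : Q4) : Bool :=
  decide (x.1 ≤ x.2.1) && decide (x.2.1 ≤ x.2.2.1) && decide (x.2.2.1 ≤ x.2.2.2) &&
  decide ((yOf x).natAbs ∣ 95040) && decide (ssOf x ≤ 95040)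

/-- All rows are listed. -/
def rowsCheck : Bool :=
  xCand.all fun a => xCand.all fun b => xCand.all fun c => xCand.all fun d =>
    !rowOK (a, b, c, d) || rows.contains (a, b, c, d)

theorem rowsCheck_true : rowsCheck = true := by decide +kernel

theorem xCand_pos : ∀ n : ℕ, n < 309 → n ∣ 95040 ∧ 2 ≤ n ∧ n % 11 = 1 → (n : ℤ) ∈ xCand := by
  decide +kernel

theorem xCand_neg : ∀ n : ℕ, n < 309 → n ∣ 95040 ∧ 2 ≤ n ∧ n % 11 = 10 → -(n : ℤ) ∈ xCand := by
  decide +kernel

/-- The conditions at an involution. -/
def involOK (C : ℤ) (x v : Q4) : Bool :=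
  decide (tzOf 1 1 x v v = 0) && fibOK (8640 * 8640) (sigOf x v (-5)) &&
  fibOK (8640 * 8640) (sigOf x v 6) &&
  decide (dgOf 1 x v * dgOf 1 x v ≤ (95040 - ssOf x) * (C - normOf 1 x v))

/-- The possible orders of centralisers of involutions commuting with an element of order 5. -/
def tenOrders : List ℤ :=
  [10, 20, 30, 40, 60, 80, 90, 120, 160, 180, 240, 270, 320, 360, 480, 540, 720, 960, 1080, 1440,
    1728 * 5, 2160, 2880, 4320]

/-- An involution commuting with an element of order 5. -/
def tenCheck : Bool :=
  rows.all fun x => tenOrders.all fun C => allCols 93 1 4 C (95040 / C) false x fun v =>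
    !involOK C x v || (decide (x = theRow) && decide (C = 240) && decide (v = tCol))

theorem tenCheck_true : tenCheck = true := by decide +kernel

/-- The possible orders of centralisers of involutions. -/
def evenOrders : List ℤ :=
  [2, 4, 6, 8, 10, 12, 16, 18, 20, 24, 30, 32, 36, 40, 48, 54, 60, 64, 72, 80, 90, 96, 108, 120, 144,
    160, 180, 192, 216, 240, 270, 288, 320, 360, 432, 480, 540, 576, 720, 864, 960, 1080, 1440, 1728,
    2160, 2880, 4320, 8640]

/-- An involution in the row of M12. -/
def involCheck : Bool :=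
  evenOrders.all fun C => allCols 93 1 4 C (95040 / C) false theRow fun v =>
    !involOK C theRow v || (decide (C = 240) && decide (v = tCol)) ||
      (decide (C = 192) && decide (v = sCol))

theorem involCheck_true : involCheck = true := by decide +kernel

/-- The possible even orders of centralisers of elements of order 5. -/
def fiveOrders : List ℤ := [2160, 4320, 360, 720, 270, 60, 120, 20, 10]

/-- An element of order 5 with even centraliser. -/
def fiveCheck : Bool :=
  fiveOrders.all fun C => allCols 93 1 5 C (95040 / C) true theRow fun v =>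
    !fibOK (396 * (95040 / C)) (tzOf 1 1 theRow tCol v) || (decide (C = 10) && decide (v = wCol))

theorem fiveCheck_true : fiveCheck = true := by decide +kernel

/-- Number of occurrences. -/
def occ (x : Q4) (s : ℤ) : ℕ := ([x.1, x.2.1, x.2.2.1, x.2.2.2].filter fun t => t == s).length

/-- Traces of rational values are even. -/
def evenOK (x t : Q4) : Bool :=
  decide (sum3 (fun s v o => bif decide (occ x s = 1) then v % 2 + 0 * o else 0) x t t = 0)

theorem tenOrders_complete : ∀ i < 7, ∀ j < 4,
    i = 0 ∨ ((2 ^ i * 3 ^ j * 5 : ℕ) : ℤ) ∈ tenOrders := by decide +kernel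

theorem evenOrders_complete : ∀ i < 7, ∀ j < 4, ∀ k < 2,
    i = 0 ∨ ((2 ^ i * 3 ^ j * 5 ^ k : ℕ) : ℤ) ∈ evenOrders := by decide +kernel

/-- An element of order 5 with centraliser of order 45 and one of order 3 centralising it. -/
def oddCheck : Bool :=
  rows.all fun x => allCols 9 2 5 90 2112 true x fun t =>
    !(evenOK x t && fibOK (2112 * 2112) (tzOf 4 2 x t t)) ||
      [540, 1080, 2160, 4320, 8640].all fun C =>
        allCols 186 2 3 (4 * C) (95040 / C) false x fun u =>
          !(evenOK x u && fibOK (95040 / C * 2112) (tzOf 4 2 x u t) &&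
            fibOK (95040 / C * (95040 / C)) (tzOf 4 2 x u u))

theorem oddCheck_true : oddCheck = true := by decide +kernel

end Cfsg.Agent.Order95040
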