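/-
A finite check on the column of an element of order 4.

Main results (namespace `Cfsg.Agent.Order95040`): `okg`, `fourCheck_true`, `sRestCheck_true`.
-/
import Cfsg.Agent.Lib.Order95040.Check

set_option autoImplicit false
set_option maxRecDepth 20000

namespace Cfsg.Agent.Order95040

/-- The conditions on a value `v` of an element of order 4 with value `s` at its square. -/
def okg (C d s v : ℤ) : Bool :=
  decide (v * v ≤ C) && decide (0 ≤ d + s + 2 * v) && decide (0 ≤ d + s - 2 * v) &&
    decide ((d + s - 2 * v) % 8 = 0) && decide (95040 / C * v % d = 0)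

/-- The values satisfying `okg`. -/
def candg (C d s : ℤ) : List ℤ :=
  ((List.range 27).map fun i : ℕ => (i : ℤ) - 13).filter (okg C d s)

/-- The possible orders of centralisers of square roots of an involution with centraliser of order 192. -/
def rootOrders : List ℤ := [16, 24, 32, 48, 64, 96, 192]

/-- The conditions on the block column. -/
def blockG (C : ℤ) (v : Q4) : Bool :=
  okg C 16 0 (veOf 1 theRow v) && decide (normOf 1 theRow v ≤ C) &&
    fibOK (95040 / C * 495) (tzOf 1 1 theRow v sCol) &&
    fibOK (95040 / C * 396) (tzOf 1 1 theRow v tCol) &&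
    fibOK (95040 / C * (95040 / C)) (tzOf 1 1 theRow v v)

/-- The values at the involution with centraliser of order 192 of the two characters of degree 11. -/
def sPairs : List (ℤ × ℤ) := [(3, 3), (-1, 7), (7, -1)]

/-- The conclusion about the characters outside the block. -/
def restG (C : ℤ) (v : Q4) : Bool :=
  sPairs.all fun q => (candg C 66 2).all fun a => (candg C 99 3).all fun b =>
    (candg C 176 0).all fun c =>
      !decide (11 * (12 * (a + c) + 8 * b) =
          -11 * (1 + sum2 (fun p r => p * r) tCol v + 8 * veOf 1 theRow v) - dgOf 1 theRow v) ||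
      (candg C 11 q.1).all fun p =>
        let p' := -(1 + sum2 (fun p r => p * r) wCol v + 2 * veOf 1 theRow v) - (a + c) + b - p
        !(okg C 11 q.2 p' &&
            decide (normOf 1 theRow v + a * a + b * b + c * c + p * p + p' * p' ≤ C)) ||
          (decide (15 ≤ 3 * q.1 + 2 * p) || decide (15 ≤ 3 * q.2 + 2 * p')) &&
            !decide (tzOf 1 1 theRow v sCol = 0)

/-- The element of order 4 has a character of degree 11 with many fixed points. -/
def fourCheck : Bool :=
  rootOrders.all fun C =>
    (candg C 120 (-8)).all fun a => (candg C 54 6).all fun b => (candg C 45 (-3)).all fun c =>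
      (candg C 144 0).all fun d =>
        !blockG C (a, b, c, d) || (decide (C = 192) && decide ((a, b, c, d) = sCol)) ||
          restG C (a, b, c, d)

theorem fourCheck_true : fourCheck = true := by decide +kernel

theorem mem_candg {C d s v : ℤ} (hC : C ≤ 192) (h : okg C d s v = true) : v ∈ candg C d s := by
  have hv : v * v ≤ C := by
    simp only [okg, Bool.and_eq_true, decide_eq_true_eq] at h; exact h.1.1.1.1
  have h1 : -13 ≤ v := by nlinarith
  have h2 : v ≤ 13 := by nlinarith
  exact List.mem_filter.mpr ⟨List.mem_map.mpr
    ⟨(v + 13).toNat, List.mem_range.mpr (by omega), by omega⟩, h⟩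

theorem fourCheck_sound {C : ℤ} (hmem : C ∈ rootOrders) {a b c d : ℤ} (ha : okg C 120 (-8) a = true)
    (hb : okg C 54 6 b = true) (hc : okg C 45 (-3) c = true) (hd : okg C 144 0 d = true)
    (hB : blockG C (a, b, c, d) = true) (hne : ¬ (C = 192 ∧ (a, b, c, d) = sCol)) :
    restG C (a, b, c, d) = true := by
  have hC : C ≤ 192 := by
    simp only [rootOrders, List.mem_cons, List.not_mem_nil, or_false] at hmem; omega
  have h := fourCheck_true
  simp only [fourCheck, List.all_eq_true] at h
  have h1 := h C hmem a (mem_candg hC ha) b (mem_candg hC hb) c (mem_candg hC hc) d (mem_candg hC hd)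
  simp only [hB, Bool.not_true, Bool.false_or, Bool.or_eq_true, Bool.and_eq_true, decide_eq_true_eq] at h1
  exact h1.resolve_left hne

theorem rootOrders_complete : ∀ C < 193, 192 % C = 0 → 16 ≤ C → ((C : ℕ) : ℤ) ∈ rootOrders := by
  decide +kernel

end Cfsg.Agent.Order95040
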