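/-
Tools for the local analysis of a simple group of order 95040.

Main results (namespace `Cfsg.Agent.Order95040`):
* `card_centralizer_perm`, `sign_conj_inv` : permutations of order 11 of at most 12 points;
* `smul_eq_of_commute`, `card_centralizer_dvd_eleven` : their consequences for actions;
* `card_modEq_commute`, `card_inf_normalizer_mul`, `mem_zpowers_of_unique`,
  `dvd_sylow_normalizer`, `nine_dvd_centralizer`.
-/
import Cfsg.Agent.Lib.SmallOrders.OrbitSign
import Cfsg.Agent.Lib.SmallOrders.Count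
import Mathlib.GroupTheory.Perm.Centralizer

set_option autoImplicit false

namespace Cfsg.Agent.Order95040

open Subgroup SmallOrders

instance fact_eleven : Fact (Nat.Prime 11) := ⟨by norm_num⟩

theorem exists_model_inversion : ∃ c τ : Equiv.Perm (Fin 12),
    orderOf c = 11 ∧ τ * c * τ⁻¹ = c⁻¹ ∧ Equiv.Perm.sign τ = -1 := by
  refine ⟨⟨fun i => if i.val = 11 then i else ⟨(i.val + 1) % 11, by omega⟩,
        fun i => if i.val = 11 then i else ⟨(i.val + 10) % 11, by omega⟩, by decide, by decide⟩,
      ⟨fun i => if i.val = 11 then i else ⟨(11 - i.val) % 11, by omega⟩,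
        fun i => if i.val = 11 then i else ⟨(11 - i.val) % 11, by omega⟩, by decide, by decide⟩,
      orderOf_eq_prime (by decide +kernel) (by decide +kernel), by decide +kernel, by decide +kernel⟩

section perm

variable {X : Type*} [Fintype X] [DecidableEq X]

theorem cycleType_eleven (hX : Fintype.card X ≤ 12) {α : Equiv.Perm X} (hα : orderOf α = 11) :
    α.cycleType = {11} := by
  obtain ⟨n, hn⟩ := Equiv.Perm.cycleType_prime_order (σ := α) (by rw [hα]; norm_num)
  rw [hα] at hn
  have h := α.sum_cycleType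
  have h2 := α.support.card_le_univ
  rw [hn, Multiset.sum_replicate, smul_eq_mul] at h
  have : n = 0 := by omega
  rw [hn, this]
  rfl

theorem card_centralizer_perm (hX : Fintype.card X ≤ 12) {α : Equiv.Perm X} (hα : orderOf α = 11) :
    Nat.card (centralizer ({α} : Set (Equiv.Perm X))) = 11 := by
  have hc := cycleType_eleven hX hα
  have h := Equiv.Perm.nat_card_centralizer α
  have h11 : 11 ≤ Fintype.card X := by
    have := α.sum_cycleType
    rw [hc] at this
    have := α.support.card_le_univ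
    simp at *
    omega
  rw [hc] at h
  rw [h]
  rcases (show Fintype.card X = 11 ∨ Fintype.card X = 12 by omega) with e | e <;> simp [e]

theorem mem_zpowers_of_commute (hX : Fintype.card X ≤ 12) {α σ : Equiv.Perm X}
    (hα : orderOf α = 11) (h : σ * α = α * σ) : σ ∈ zpowers α := by
  have he : zpowers α = centralizer ({α} : Set (Equiv.Perm X)) :=
    eq_of_le_of_card_ge (zpowers_le_centralizer α)
      (by rw [card_centralizer_perm hX hα, Nat.card_zpowers, hα])
  rw [he]
  exact mem_centralizer_singleton_iff.mpr h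

theorem sign_of_commute (hX : Fintype.card X ≤ 12) {α σ : Equiv.Perm X} (hα : orderOf α = 11)
    (h : σ * α = α * σ) : Equiv.Perm.sign σ = 1 := by
  refine sign_eq_one_of_pow_odd (p := 11) (by decide) σ (orderOf_dvd_iff_pow_eq_one.mp ?_)
  obtain ⟨i, rfl⟩ := mem_zpowers_iff.mp (mem_zpowers_of_commute hX hα h)
  exact hα ▸ orderOf_dvd_of_mem_zpowers (zpow_mem (mem_zpowers α) i)

theorem sign_conj_inv (hX : Fintype.card X = 12) {α σ : Equiv.Perm X} (hα : orderOf α = 11)
    (h : σ * α * σ⁻¹ = α⁻¹) : Equiv.Perm.sign σ = -1 := by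
  obtain ⟨c, τ, hc, hτc, hτ⟩ := exists_model_inversion
  let e : Fin 12 ≃ X := Fintype.equivOfCardEq (by simp [hX])
  let F := e.permCongrHom
  have hFc : orderOf (F c) = 11 := by
    rw [← hc]; exact orderOf_injective F.toMonoidHom F.injective c
  obtain ⟨π, hπ⟩ := isConj_iff.mp (Equiv.Perm.isConj_iff_cycleType_eq.mpr
    ((cycleType_eleven hX.le hFc).trans (cycleType_eleven hX.le hα).symm))
  set σ0 := π * F τ * π⁻¹ with hσ0
  have h0 : σ0 * α * σ0⁻¹ = α⁻¹ := by
    rw [hσ0, ← hπ]
    calc π * F τ * π⁻¹ * (π * F c * π⁻¹) * (π * F τ * π⁻¹)⁻¹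
        = π * F (τ * c * τ⁻¹) * π⁻¹ := by simp only [map_mul, map_inv]; group
      _ = (π * F c * π⁻¹)⁻¹ := by rw [hτc, map_inv]; group
  have hs0 : Equiv.Perm.sign σ0 = -1 := by
    rw [hσ0, map_mul, map_mul, map_inv,
      show Equiv.Perm.sign (F τ) = Equiv.Perm.sign τ from Equiv.Perm.sign_permCongr e τ, hτ]
    simp [mul_comm]
  have hcomm : (σ0⁻¹ * σ) * α = α * (σ0⁻¹ * σ) := by
    calc σ0⁻¹ * σ * α = σ0⁻¹ * (σ * α * σ⁻¹) * σ := by group
      _ = σ0⁻¹ * (σ0 * α * σ0⁻¹) * σ := by rw [h, h0]
      _ = α * (σ0⁻¹ * σ) := by group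
  have := sign_of_commute hX.le hα hcomm
  rw [map_mul, map_inv, hs0] at this
  rcases Int.units_eq_one_or (Equiv.Perm.sign σ) with e' | e' <;> rw [e'] at this ⊢
  exact absurd this (by decide)

end perm

variable {G : Type*} [Group G]

/-- An element commuting with an 11-cycle on at most 12 points and of order prime to 11 acts
trivially. -/
theorem smul_eq_of_commute {X : Type*} [MulAction G X] [Finite X] (hX : Nat.card X ≤ 12) {a g : G}
    (ha : orderOf a = 11) (hmove : ∃ Q : X, a • Q ≠ Q) (hc : g * a = a * g)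
    (hg : Nat.Coprime (orderOf g) 11) (Q : X) : g • Q = Q := by
  classical
  have := Fintype.ofFinite X
  rw [Nat.card_eq_fintype_card] at hX
  set φ := MulAction.toPermHom G X
  have hφa : orderOf (φ a) = 11 := by
    refine orderOf_eq_prime ?_ ?_
    · rw [← map_pow, ← ha, pow_orderOf_eq_one, map_one]
    · intro h1
      obtain ⟨R, hR⟩ := hmove
      exact hR (Equiv.Perm.ext_iff.mp h1 R)
  have h11 : orderOf (φ g) ∣ 11 := hφa ▸
    orderOf_dvd_of_mem_zpowers (mem_zpowers_of_commute hX hφa (by rw [← map_mul, hc, map_mul]))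
  have h1 : φ g = 1 := orderOf_eq_one_iff.mp
    (Nat.eq_one_of_dvd_coprimes hg (orderOf_map_dvd φ g) h11)
  exact Equiv.Perm.ext_iff.mp h1 Q

/-- With a proper subgroup of index at most 12, elements of order 11 are self-centralising. -/
theorem card_centralizer_dvd_eleven [Finite G] [IsSimpleGroup G] {H : Subgroup G} (hH : H ≠ ⊤)
    (hi : H.index ≤ 12) {a : G} (ha : orderOf a = 11) :
    Nat.card (centralizer ({a} : Set G)) ∣ 11 := by
  classical
  have := Fintype.ofFinite (G ⧸ H)
  have hX : Fintype.card (G ⧸ H) ≤ 12 := by rw [← Nat.card_eq_fintype_card]; exact hi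
  set φ := MulAction.toPermHom G (G ⧸ H)
  have hinj : Function.Injective φ := (MonoidHom.ker_eq_bot_iff φ).mp
    (by rw [← normalCore_eq_ker, normalCore_eq_bot hH])
  have hφa : orderOf (φ a) = 11 := by rw [orderOf_injective φ hinj, ha]
  have h := card_map_of_injective (K := centralizer ({a} : Set G)) (f := φ) hinj
  have hle : (centralizer ({a} : Set G)).map φ ≤ centralizer ({φ a} : Set _) := by
    rintro _ ⟨g, hg, rfl⟩
    exact mem_centralizer_singleton_iff.mpr
      (by rw [← map_mul, mem_centralizer_singleton_iff.mp hg, map_mul])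
  rw [← h, ← card_centralizer_perm hX hφa]
  exact card_dvd_of_le hle

/-- A `p`-element acting by conjugation on an invariant set. -/
theorem card_modEq_commute [Finite G] {p : ℕ} [Fact p.Prime] {w : G} (hw : orderOf w = p)
    (S : Set G) (hS : ∀ g ∈ S, w * g * w⁻¹ ∈ S) :
    Nat.card S ≡ Nat.card {g : G // g ∈ S ∧ w * g = g * w} [MOD p] := by
  classical
  have : Finite (ConjAct G) := Finite.of_equiv G ConjAct.toConjAct.toEquiv
  let T : Subgroup (ConjAct G) := zpowers (ConjAct.toConjAct w)
  have hT : IsPGroup p T := IsPGroup.of_card (n := 1)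
    (by rw [pow_one, Nat.card_zpowers]
        exact (orderOf_injective (ConjAct.toConjAct (G := G)).toMonoidHom
          (MulEquiv.injective _) w).trans hw)
  have hinv : ∀ u : T, ∀ g ∈ S, (u : ConjAct G) • g ∈ S := by
    rintro ⟨u, hu⟩ g hg
    obtain ⟨n, rfl⟩ := mem_powers_iff_mem_zpowers.mpr hu
    show ConjAct.toConjAct w ^ n • g ∈ S
    induction n with
    | zero => simpa using hg
    | succ n ih =>
      rw [pow_succ', mul_smul, ConjAct.toConjAct_smul]
      exact hS _ (ih (npow_mem_zpowers _ n))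
  let inst : MulAction T S :=
    { smul := fun u g => ⟨(u : ConjAct G) • (g : G), hinv u g g.2⟩
      one_smul := fun g => Subtype.ext (one_smul (ConjAct G) (g : G))
      mul_smul := fun u v g => Subtype.ext (mul_smul (u : ConjAct G) v (g : G)) }
  refine (hT.card_modEq_card_fixedPoints S).trans (Eq.subst (motive := fun n => n ≡ _ [MOD p])
    (Nat.card_congr ?_).symm rfl)
  exact
    { toFun := fun g => ⟨g.1, g.1.2, by
        have h : ConjAct.toConjAct w • (g.1 : G) = g.1 :=
          congrArg Subtype.val (g.2 ⟨_, mem_zpowers _⟩)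
        rw [ConjAct.toConjAct_smul] at h
        exact mul_inv_eq_iff_eq_mul.mp h⟩
      invFun := fun g => ⟨⟨g.1, g.2.1⟩, by
        rintro ⟨u, hu⟩
        refine Subtype.ext ?_
        have hm : u ∈ MulAction.stabilizer (ConjAct G) g.1 := by
          refine zpowers_le.mpr (MulAction.mem_stabilizer_iff.mpr ?_) hu
          rw [ConjAct.toConjAct_smul]
          exact mul_inv_eq_iff_eq_mul.mpr g.2.2
        exact hm⟩
      left_inv := fun g => rfl
      right_inv := fun g => rfl }

/-- The Sylow count inside a subgroup. -/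
theorem card_inf_normalizer_mul [Finite G] {p : ℕ} [Fact p.Prime] {a : G} (ha : orderOf a = p)
    (hp2 : ¬ p ^ 2 ∣ Nat.card G) (M : Subgroup G) (haM : a ∈ M) :
    ∃ m, Nat.card ↥(M ⊓ normalizer ((zpowers a : Subgroup G) : Set G)) * m = Nat.card M ∧
      m % p = 1 ∧ Nat.card (Sylow p M) = m := by
  set a' : M := ⟨a, haM⟩
  have ha' : orderOf a' = p := by rw [Subgroup.orderOf_mk, ha]
  have hfac : ∀ Q : Sylow p M, Nat.card (Q : Subgroup M) = p := by
    intro Q
    obtain ⟨k, hk⟩ := Q.isPGroup'.exists_card_eq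
    have h1 : Nat.card (Q : Subgroup M) ∣ Nat.card G :=
      (card_subgroup_dvd_card _).trans (card_subgroup_dvd_card M)
    have h2 : p ∣ Nat.card (Q : Subgroup M) :=
      Q.dvd_card_of_dvd_card (ha' ▸ orderOf_dvd_natCard a')
    rw [hk] at h1 h2 ⊢
    have hk0 : k ≠ 0 := fun h0 => (Fact.out : p.Prime).ne_one (by simpa [h0] using h2)
    have : k < 2 := by
      by_contra hk2
      exact hp2 ((pow_dvd_pow p (by omega)).trans h1)
    rw [show k = 1 by omega, pow_one]
  obtain ⟨P, hP⟩ := exists_sylow_eq_zpowers hfac ha'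
  refine ⟨_, ?_, Eq.trans (card_sylow_modEq_one p M) (Nat.one_mod_eq_one.mpr
    (Fact.out : p.Prime).ne_one), rfl⟩
  rw [← card_normalizer_mul_card_sylow P, hP]
  congr 1
  refine Nat.card_congr
    { toFun := fun g => ⟨⟨g.1, g.2.1⟩, ?_⟩
      invFun := fun g => ⟨g.1.1, g.1.2, ?_⟩
      left_inv := fun g => rfl
      right_inv := fun g => rfl }
  · rw [mem_normalizer_iff]
    intro u
    have h := mem_normalizer_iff.mp g.2.2 (u : G)
    simp only [mem_zpowers_iff] at h ⊢
    constructor
    · rintro ⟨i, hi⟩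
      obtain ⟨j, hj⟩ := h.mp ⟨i, by rw [← hi]; simp [a']⟩
      exact ⟨j, Subtype.ext (by simpa [a'] using hj)⟩
    · rintro ⟨i, hi⟩
      obtain ⟨j, hj⟩ := h.mpr ⟨i, by simpa [a'] using congrArg Subtype.val hi⟩
      exact ⟨j, Subtype.ext (by simpa [a'] using hj)⟩
  · refine mem_normalizer_fintype fun u hu => ?_
    obtain ⟨i, rfl⟩ := mem_zpowers_iff.mp hu
    have h := (mem_normalizer_iff.mp g.2 (a' ^ i)).mp (zpow_mem (mem_zpowers a') i)
    obtain ⟨j, hj⟩ := mem_zpowers_iff.mp h
    exact mem_zpowers_iff.mpr ⟨j, by simpa [a'] using congrArg Subtype.val hj⟩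

/-- With a single Sylow subgroup of prime order, elements of that order generate it. -/
theorem mem_zpowers_of_unique [Finite G] {q : ℕ} [Fact q.Prime]
    (hq : ∀ Q : Sylow q G, Nat.card (Q : Subgroup G) = q) (h1 : Nat.card (Sylow q G) = 1) {x y : G}
    (hx : orderOf x = q) (hy : orderOf y = q) : y ∈ zpowers x := by
  have := (Nat.card_eq_one_iff_unique.mp h1).1
  obtain ⟨Q, hQ⟩ := exists_sylow_eq_zpowers hq hx
  obtain ⟨R, hR⟩ := exists_sylow_eq_zpowers hq hy
  rw [← hQ, Subsingleton.elim Q R, hR]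
  exact mem_zpowers y

/-- A central element of prime order normalises every Sylow subgroup. -/
theorem dvd_sylow_normalizer [Finite G] {p q : ℕ} [Fact q.Prime] {a : G} (ha : orderOf a = p)
    (hc : ∀ g, g * a = a * g) (hpq : Nat.Coprime p q) (Q : Sylow q G) :
    p * Nat.card (Q : Subgroup G) ∣ Nat.card (normalizer ((Q : Subgroup G) : Set G)) := by
  have haN : a ∈ normalizer ((Q : Subgroup G) : Set G) :=
    mem_normalizer_fintype fun y hy => by rw [← hc y, mul_inv_cancel_right]; exact hy
  refine Nat.Coprime.mul_dvd_of_dvd_of_dvd ?_ (ha ▸ orderOf_dvd_natCard _ haN)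
    (card_dvd_of_le le_normalizer)
  obtain ⟨k, hk⟩ := Q.isPGroup'.exists_card_eq
  rw [hk]
  exact hpq.pow_right k

theorem nine_dvd_centralizer [Finite G] {m : ℕ} (h : Nat.card G = 3 ^ 3 * m) (hm : ¬ 3 ∣ m) {z : G}
    (hz : orderOf z = 3) : 9 ∣ Nat.card (centralizer ({z} : Set G)) := by
  obtain ⟨S, hS⟩ := (IsPGroup.of_card (n := 1) (show Nat.card (zpowers z) = 3 ^ 1 by
    rw [Nat.card_zpowers, hz, pow_one])).exists_le_sylow
  have hS27 : Nat.card (S : Subgroup G) = 3 ^ 3 := card_sylow_subgroup h hm S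
  have : Nontrivial (S : Subgroup G) := Finite.one_lt_card_iff_nontrivial.mp (by rw [hS27]; norm_num)
  set z' : (S : Subgroup G) := ⟨z, hS (mem_zpowers z)⟩
  have hz' : orderOf z' = 3 := by rw [Subgroup.orderOf_mk, hz]
  set C := centralizer ({z'} : Set (S : Subgroup G))
  have hle : C.map (S : Subgroup G).subtype ≤ centralizer ({z} : Set G) := by
    rintro _ ⟨g, hg, rfl⟩
    exact mem_centralizer_singleton_iff.mpr (congrArg Subtype.val (mem_centralizer_singleton_iff.mp hg))
  have hdvd := card_dvd_of_le hle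
  rw [card_map_of_injective (subtype_injective _)] at hdvd
  refine Dvd.dvd.trans ?_ hdvd
  obtain ⟨k, hk, hkC⟩ := (Nat.dvd_prime_pow Nat.prime_three).mp (hS27 ▸ C.card_subgroup_dvd_card)
  rw [hkC]
  suffices 2 ≤ k from pow_dvd_pow 3 this
  by_contra hk2
  have h3 : Nat.card C ≤ 3 := by
    rw [hkC]; exact le_trans (Nat.pow_le_pow_right (by norm_num) (by omega : k ≤ 1)) (by norm_num)
  have heq : zpowers z' = C := eq_of_le_of_card_ge (zpowers_le_centralizer z')
    (by rw [Nat.card_zpowers, hz']; exact h3)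
  have hcen : center (S : Subgroup G) ≤ zpowers z' := heq ▸ center_le_centralizer _
  have hne : center (S : Subgroup G) ≠ ⊥ :=
    (nontrivial_iff_ne_bot _).mp S.isPGroup'.center_nontrivial
  have hc3 : Nat.card (center (S : Subgroup G)) = 3 := by
    have h1 := card_dvd_of_le hcen
    rw [Nat.card_zpowers, hz'] at h1
    exact (Nat.prime_three.eq_one_or_self_of_dvd _ h1).resolve_left
      fun h1' => hne (eq_bot_of_card_eq _ h1')
  have hzc : z' ∈ center (S : Subgroup G) :=
    (eq_of_le_of_card_ge hcen (by rw [Nat.card_zpowers, hz', hc3])).symm ▸ mem_zpowers z'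
  have : C = ⊤ := eq_top_iff.mpr fun g _ =>
    mem_centralizer_singleton_iff.mpr (mem_center_iff.mp hzc g)
  rw [this, card_top, hS27] at h3
  norm_num at h3

end Cfsg.Agent.Order95040
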