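/-
Basic facts on the normaliser of a Sylow 11-subgroup in a simple group of order 95040.

Main results (namespace `Cfsg.Agent.Order95040`): `normalizer_data`, `index_gt_twelve`,
`inf_normalizer_data`, `no_three_normal`, `conj_mem_centralizer`, `center_trivial`.
-/
import Cfsg.Agent.Lib.Order95040.Tools
import Cfsg.Agent.Lib.Order7920.Local

set_option autoImplicit false

namespace Cfsg.Agent.Order95040

open Subgroup SmallOrders

variable {G : Type*} [Group G]

/-- The normaliser of the subgroup generated by `a`. -/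
abbrev nz (a : G) : Subgroup G := normalizer ((zpowers a : Subgroup G) : Set G)

theorem conj_mem_zpowers {a g : G} (hg : g ∈ nz a) : g * a * g⁻¹ ∈ zpowers a :=
  (mem_normalizer_iff.mp hg a).mp (mem_zpowers a)

theorem mem_nz [Finite G] {a g : G} (hg : g * a * g⁻¹ ∈ zpowers a) : g ∈ nz a := by
  refine mem_normalizer_fintype fun y hy => ?_
  obtain ⟨i, rfl⟩ := mem_zpowers_iff.mp hy
  rw [← conj_zpow]
  exact zpow_mem hg i

theorem self_mem_nz (a : G) : a ∈ nz a := le_normalizer (mem_zpowers a)

/-- The centraliser is invariant under the normaliser. -/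
theorem conj_mem_centralizer {a g x : G} (hg : g ∈ nz a)
    (hx : x ∈ centralizer ({a} : Set G)) : g * x * g⁻¹ ∈ centralizer ({a} : Set G) := by
  rw [mem_centralizer_singleton_iff]
  obtain ⟨i, hi⟩ := mem_zpowers_iff.mp
    ((mem_normalizer_iff.mp (inv_mem hg) a).mp (mem_zpowers a))
  have h1 : a = g * a ^ i * g⁻¹ := by rw [hi]; group
  have h2 : x * a ^ i = a ^ i * x :=
    (Commute.zpow_right (mem_centralizer_singleton_iff.mp hx) i).eq
  calc g * x * g⁻¹ * a = g * x * g⁻¹ * (g * a ^ i * g⁻¹) := by rw [← h1]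
    _ = g * (x * a ^ i) * g⁻¹ := by group
    _ = g * a ^ i * g⁻¹ * (g * x * g⁻¹) := by rw [h2]; group
    _ = a * (g * x * g⁻¹) := by rw [← h1]

theorem orderOf_conj (g x : G) : orderOf (g * x * g⁻¹) = orderOf x :=
  orderOf_injective (MulAut.conj g).toMonoidHom (MulEquiv.injective _) x

variable [Finite G]

theorem card_sylow_subgroup_eleven (h : Nat.card G = 95040) (P : Sylow 11 G) :
    Nat.card (P : Subgroup G) = 11 := by
  rw [card_sylow_subgroup (p := 11) (e := 1) (m := 8640) (by rw [h]; norm_num) (by norm_num) P, pow_one]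

variable [IsSimpleGroup G]

theorem not_comm (h : Nat.card G = 95040) : ¬ IsMulCommutative G :=
  not_isMulCommutative_of_card (by rw [h]; norm_num)

theorem center_trivial (h : Nat.card G = 95040) {x : G} (hx : centralizer ({x} : Set G) = ⊤) :
    x = 1 := by
  have hm : x ∈ center G := mem_center_iff.mpr fun g =>
    mem_centralizer_singleton_iff.mp (show g ∈ centralizer ({x} : Set G) by rw [hx]; exact mem_top g)
  rwa [center_eq_bot (not_comm h), mem_bot] at hm

theorem normalizer_data (h : Nat.card G = 95040) {a : G} (ha : orderOf a = 11) :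
    ∃ j c, 1 < j ∧ j ∣ 10 ∧ Nat.card (centralizer ({a} : Set G)) = 11 * c ∧
      Nat.card (centralizer ({a} : Set G)) * j = Nat.card (nz a) ∧
      centralizer ({a} : Set G) ≤ nz a ∧
      Nat.card (nz a) * Nat.card (Sylow 11 G) = 95040 ∧
      ∀ k, Nat.card (Sylow 11 G) = k * 11 + 1 → c ∣ Nat.card (alternatingGroup (Fin k)) := by
  obtain ⟨P, hP⟩ := exists_sylow_eq_zpowers (card_sylow_subgroup_eleven h) ha
  obtain ⟨j, hj1, hj10, hCj, h11, hle⟩ := exists_card_centralizer_mul (not_comm h) ha P hP
  have hN := card_normalizer_mul_card_sylow P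
  rw [hP] at hCj hle hN
  obtain ⟨c, hc⟩ := h11
  refine ⟨j, c, hj1, hj10, hc, hCj, hle, hN.trans h, fun k hk => ?_⟩
  obtain ⟨c', hc', hd⟩ := exists_card_centralizer_dvd (not_comm h) (p := 11) (by norm_num) ha
    (card_sylow_subgroup_eleven h) hk
  rwa [show c = c' by omega]

/-- When elements of order 11 are not self-centralising, proper subgroups are small. -/
theorem eq_top_of_card_ge (h : Nat.card G = 95040) {a : G} (ha : orderOf a = 11)
    (hC : ¬ Nat.card (centralizer ({a} : Set G)) ∣ 11) {H : Subgroup G}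
    (hH : 95040 ≤ 12 * Nat.card H) : H = ⊤ := by
  by_contra hne
  refine hC (card_centralizer_dvd_eleven hne ?_ ha)
  have h1 := H.card_mul_index
  rw [h] at h1
  by_contra hlt
  have : Nat.card H * 13 ≤ Nat.card H * H.index := Nat.mul_le_mul le_rfl (by omega)
  omega

theorem inf_normalizer_data (h : Nat.card G = 95040) {a : G} (ha : orderOf a = 11) {M : Subgroup G}
    (haM : a ∈ M) {d : ℕ} (hd : Nat.card ↥(M ⊓ nz a) = d) :
    ∃ m, d * m = Nat.card M ∧ m % 11 = 1 ∧ d * m ∣ 95040 ∧ Nat.card (Sylow 11 M) = m := by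
  obtain ⟨m, h1, h2, h3⟩ := card_inf_normalizer_mul (p := 11) ha (by rw [h]; norm_num) M haM
  rw [hd] at h1
  exact ⟨m, h1, h2, h1 ▸ h ▸ card_subgroup_dvd_card M, h3⟩

/-- With 144 Sylow 11-subgroups, `N(P)` normalises no subgroup of order 3. -/
theorem no_three_normal (h : Nat.card G = 95040) {a : G} (ha : orderOf a = 11)
    (hN : Nat.card (nz a) = 660) (hC : ¬ Nat.card (centralizer ({a} : Set G)) ∣ 11) {z : G}
    (hz : orderOf z = 3) (hle : nz a ≤ nz z) : False := by
  obtain ⟨m, hm, hm11, hdvd, -⟩ := inf_normalizer_data h ha (hle (self_mem_nz a))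
    (show Nat.card ↥(nz z ⊓ nz a) = 660 by rw [inf_eq_right.mpr hle, hN])
  have hm' : m ∣ 144 := Nat.dvd_of_mul_dvd_mul_left (show 0 < 660 by norm_num) hdvd
  have hcases : ∀ d < 145, d ∣ 144 → d % 11 = 1 → d = 1 ∨ 12 ≤ d := by decide +kernel
  rcases hcases m (Nat.lt_succ_of_le (Nat.le_of_dvd (by norm_num) hm')) hm' hm11 with rfl | h12
  · have h9 := nine_dvd_centralizer (m := 3520) (by rw [h]; norm_num) (by norm_num) hz
    have hCle : centralizer ({z} : Set G) ≤ nz z := fun g hg => mem_nz (by
      rw [mem_centralizer_singleton_iff] at hg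
      rw [hg, mul_inv_cancel_right]; exact mem_zpowers z)
    have := h9.trans (card_dvd_of_le hCle)
    omega
  · have htop : nz z = ⊤ := eq_top_of_card_ge h ha hC (by omega)
    have hn : (zpowers z).Normal := normalizer_eq_top_iff.mp htop
    rcases hn.eq_bot_or_eq_top with hb | ht
    · rw [zpowers_eq_bot] at hb
      rw [hb, orderOf_one] at hz
      omega
    · have := congrArg (fun K : Subgroup G => Nat.card K) ht
      simp only [Nat.card_zpowers, hz, card_top, h] at this
      omega

end Cfsg.Agent.Order95040
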