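/-
A simple group of order 95040 does not have 144 Sylow 11-subgroups.

Main results (namespace `Cfsg.Agent.Order95040`): `false_of_thirty`, `false_of_six`,
`false_of_twelve`.
-/
import Cfsg.Agent.Lib.Order95040.Basic

set_option autoImplicit false

namespace Cfsg.Agent.Order95040

open Subgroup SmallOrders

variable {G : Type*} [Group G] [Finite G]

/-- The centre contains `a` in the centraliser of `a`. -/
theorem centralizer_comm (a : G) (g : centralizer ({a} : Set G)) :
    g * (⟨a, SmallOrders.mem_centralizer_self a⟩ : centralizer ({a} : Set G)) =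
      ⟨a, SmallOrders.mem_centralizer_self a⟩ * g :=
  Subtype.ext (mem_centralizer_singleton_iff.mp g.2)

/-- Elements of prime order `q` of the subgroup, with `n_q` Sylow subgroups. -/
theorem card_elements {q e m : ℕ} [Fact q.Prime] {H : Subgroup G} (he : e = 1)
    (hH : Nat.card H = q ^ e * m) (hm : ¬ q ∣ m) :
    Nat.card {g : G // g ∈ H ∧ orderOf g = q} = Nat.card (Sylow q H) * (q - 1) := by
  subst he
  rw [← card_orderOf_eq_prime fun Q : Sylow q H => by rw [card_sylow_subgroup hH hm Q, pow_one]]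
  exact Nat.card_congr
    { toFun := fun g => ⟨⟨g.1, g.2.1⟩, by rw [Subgroup.orderOf_mk]; exact g.2.2⟩
      invFun := fun g => ⟨g.1.1, g.1.2, by rw [orderOf_coe]; exact g.2⟩
      left_inv := fun g => rfl
      right_inv := fun g => rfl }

/-- Sylow numbers of the centraliser of `a`. -/
theorem card_sylow_centralizer {a : G} (ha : orderOf a = 11) {q m : ℕ} [Fact q.Prime]
    (hH : Nat.card (centralizer ({a} : Set G)) = q * (11 * m)) (hm : ¬ q ∣ 11 * m) (hq : q ≠ 11) :
    Nat.card (Sylow q (centralizer ({a} : Set G))) ∣ m := by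
  obtain ⟨Q⟩ := (inferInstance : Nonempty (Sylow q (centralizer ({a} : Set G))))
  have hQ := card_sylow_subgroup (e := 1) (by rw [pow_one]; exact hH) hm Q
  rw [pow_one] at hQ
  have hd := dvd_sylow_normalizer
    (a := (⟨a, SmallOrders.mem_centralizer_self a⟩ : centralizer ({a} : Set G))) (p := 11)
    (by rw [Subgroup.orderOf_mk, ha]) (centralizer_comm a)
    ((Nat.coprime_primes (by norm_num) Fact.out).mpr hq.symm) Q
  rw [hQ] at hd
  obtain ⟨r, hr⟩ := hd
  have h1 := card_normalizer_mul_card_sylow Q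
  rw [hH, hr] at h1
  refine ⟨r, Nat.eq_of_mul_eq_mul_left (show 0 < 11 * q by have := (Fact.out : q.Prime).pos; omega) ?_⟩
  calc 11 * q * m = q * (11 * m) := by ring
    _ = _ := by rw [← h1]; ring

theorem mem_zpowers_of_centralizer {a : G} {q m : ℕ} [Fact q.Prime]
    (hH : Nat.card (centralizer ({a} : Set G)) = q * m) (hm : ¬ q ∣ m)
    (h1 : Nat.card (Sylow q (centralizer ({a} : Set G))) = 1) {x y : G}
    (hxa : x ∈ centralizer ({a} : Set G)) (hya : y ∈ centralizer ({a} : Set G))
    (hx : orderOf x = q) (hy : orderOf y = q) : y ∈ zpowers x := by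
  have := mem_zpowers_of_unique
    (fun Q => by rw [card_sylow_subgroup (e := 1) (by rw [pow_one]; exact hH) hm Q, pow_one]) h1
    (x := (⟨x, hxa⟩ : centralizer ({a} : Set G))) (y := ⟨y, hya⟩)
    (by rw [Subgroup.orderOf_mk, hx]) (by rw [Subgroup.orderOf_mk, hy])
  obtain ⟨i, hi⟩ := mem_zpowers_iff.mp this
  exact mem_zpowers_iff.mpr ⟨i, by simpa using congrArg Subtype.val hi⟩

variable [IsSimpleGroup G]

/-- A unique subgroup of order 3 in the centraliser of `a` is impossible. -/
theorem false_of_unique_three (h : Nat.card G = 95040) {a : G} (ha : orderOf a = 11)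
    (hN : Nat.card (nz a) = 660) {m : ℕ}
    (hC : Nat.card (centralizer ({a} : Set G)) = 3 * (11 * m)) (hm : ¬ 3 ∣ 11 * m)
    (h1 : Nat.card (Sylow 3 (centralizer ({a} : Set G))) = 1) : False := by
  obtain ⟨⟨z, hza⟩, hz⟩ := exists_prime_orderOf_dvd_card' 3
    (show 3 ∣ Nat.card (centralizer ({a} : Set G)) from hC ▸ dvd_mul_right 3 _)
  rw [Subgroup.orderOf_mk] at hz
  refine no_three_normal h ha hN ?_ hz fun g hg => mem_nz ?_
  · intro hd
    rcases (Nat.dvd_prime (by norm_num)).mp hd with e | e <;> omega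
  · exact mem_zpowers_of_centralizer hC hm h1 hza (conj_mem_centralizer hg hza) hz
      (by rw [orderOf_conj, hz])

theorem false_of_six (h : Nat.card G = 95040) {a : G} (ha : orderOf a = 11)
    (hN : Nat.card (nz a) = 660) (hC : Nat.card (centralizer ({a} : Set G)) = 66) : False := by
  have : Fact (Nat.Prime 3) := ⟨by norm_num⟩
  refine false_of_unique_three h ha hN (m := 2) (by omega) (by norm_num) ?_
  have hd := card_sylow_centralizer ha (q := 3) (m := 2) (by omega) (by norm_num) (by norm_num)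
  have hmod : Nat.card (Sylow 3 (centralizer ({a} : Set G))) % 3 = 1 := card_sylow_modEq_one 3 _
  have := Nat.le_of_dvd (by norm_num) hd
  omega

theorem false_of_thirty (h : Nat.card G = 95040) {a : G} (ha : orderOf a = 11)
    (hC : Nat.card (centralizer ({a} : Set G)) = 330) : False := by
  have : Fact (Nat.Prime 5) := ⟨by norm_num⟩
  have h5 : ∀ Q : Sylow 5 G, Nat.card (Q : Subgroup G) = 5 := fun Q => by
    rw [card_sylow_subgroup (p := 5) (e := 1) (m := 19008) (by rw [h]; norm_num) (by norm_num) Q, pow_one]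
  have hmod := card_modEq_commute ha {g : G | orderOf g = 5} (fun g hg => by
    show orderOf _ = 5
    rw [orderOf_conj]; exact hg)
  rw [show Nat.card {g : G | orderOf g = 5} = Nat.card (Sylow 5 G) * (5 - 1) from
    card_orderOf_eq_prime h5] at hmod
  rw [Nat.card_congr (α := {g : G // g ∈ {g : G | orderOf g = 5} ∧ a * g = g * a})
      (β := {g : G // g ∈ centralizer ({a} : Set G) ∧ orderOf g = 5})
    { toFun := fun g => ⟨g.1, mem_centralizer_singleton_iff.mpr g.2.2.symm, g.2.1⟩
      invFun := fun g => ⟨g.1, g.2.2, (mem_centralizer_singleton_iff.mp g.2.1).symm⟩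
      left_inv := fun g => rfl
      right_inv := fun g => rfl },
    card_elements (e := 1) (m := 66) rfl (by rw [hC]; norm_num) (by norm_num)] at hmod
  have hd := card_sylow_centralizer ha (q := 5) (m := 6) (by omega) (by norm_num) (by norm_num)
  have hc5 : Nat.card (Sylow 5 (centralizer ({a} : Set G))) % 5 = 1 := card_sylow_modEq_one 5 _
  have hc6 := Nat.le_of_dvd (by norm_num) hd
  obtain ⟨Q⟩ := (inferInstance : Nonempty (Sylow 5 G))
  have hdvd : Nat.card (Sylow 5 G) ∣ 19008 :=
    index_sylow (e := 1) (m := 19008) (by rw [h]; norm_num) (by norm_num) Q ▸ Q.card_dvd_index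
  have hG5 : Nat.card (Sylow 5 G) % 5 = 1 := card_sylow_modEq_one 5 G
  have hone := one_lt_card_sylow (not_comm h) (p := 5) (by rw [h]; norm_num)
  have hlist' : ∀ u < 140, ∀ r < 140, (19008 % (140 * u + r) ≠ 0) ∨ (140 * u + r) % 5 ≠ 1 ∨
      (4 * (140 * u + r) % 11 ≠ 4 ∧ 4 * (140 * u + r) % 11 ≠ 2) ∨
      140 * u + r = 1 ∨ 140 * u + r = 6 := by decide +kernel
  have hlist : ∀ d < 19009, d ∣ 19008 → d % 5 = 1 → (4 * d % 11 = 4 ∨ 4 * d % 11 = 2) →
      d = 1 ∨ d = 6 := fun d hd => by
    have := hlist' (d / 140) (by omega) (d % 140) (by omega)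
    rw [Nat.div_add_mod] at this
    intro hdv h5' h4'
    have := Nat.mod_eq_zero_of_dvd hdv
    omega
  rcases hlist _ (Nat.lt_succ_of_le (Nat.le_of_dvd (by norm_num) hdvd)) hdvd hG5
    (by unfold Nat.ModEq at hmod; rcases (show Nat.card (Sylow 5 (centralizer ({a} : Set G))) = 1 ∨
          Nat.card (Sylow 5 (centralizer ({a} : Set G))) = 6 by omega) with e | e <;>
        rw [e] at hmod <;> omega) with e | e
  · omega
  · have hne : normalizer ((Q : Subgroup G) : Set G) ≠ ⊤ :=
      normalizer_sylow_ne_top (not_comm h) (by rw [h]; norm_num) Q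
    refine hne (eq_top_of_card_ge h ha (by rw [hC]; norm_num) ?_)
    have h1 := card_normalizer_mul_card_sylow Q
    rw [e, h] at h1
    omega

/-- The three involutions of the Klein group in the centraliser of `a`. -/
theorem false_of_klein (h : Nat.card G = 95040) {a w z : G} (ha : orderOf a = 11)
    (hN : Nat.card (nz a) = 660) (hC : Nat.card (centralizer ({a} : Set G)) = 132)
    (hle : centralizer ({a} : Set G) ≤ nz a) (hw : orderOf w = 5) (hwN : w ∈ nz a)
    (hz : orderOf z = 3) (hza : z ∈ centralizer ({a} : Set G))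
    (hCz : ∀ x ∈ centralizer ({a} : Set G), x * z = z * x → orderOf x ∣ 33)
    {E : Subgroup G} (hE : Nat.card E = 4) (hEC : E ≤ centralizer ({a} : Set G))
    (h2 : ∀ x ∈ nz a, orderOf x ∣ 64 → x ∈ E) : False := by
  classical
  have := Fintype.ofFinite G
  have hnd : ¬ Nat.card (centralizer ({a} : Set G)) ∣ 11 := by rw [hC]; norm_num
  have hEdvd : ∀ x ∈ E, orderOf x ∣ 64 := fun x hx =>
    (hE ▸ orderOf_dvd_natCard E hx).trans (by norm_num)
  have hEN : nz a ≤ normalizer (E : Set G) := fun g hg =>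
    mem_normalizer_fintype fun x hx => h2 _
      (mul_mem (mul_mem hg (hle (hEC hx))) (inv_mem hg)) (by rw [orderOf_conj]; exact hEdvd x hx)
  have hzfree : ∀ x ∈ E, x * z = z * x → x = 1 := fun x hx hc => orderOf_eq_one_iff.mp
    (Nat.eq_one_of_dvd_coprimes (by norm_num : Nat.Coprime 64 33) (hEdvd x hx) (hCz x (hEC hx) hc))
  obtain ⟨⟨y0, hy0E⟩, hy0⟩ := exists_prime_orderOf_dvd_card' 2 (by rw [hE]; norm_num : 2 ∣ Nat.card E)
  rw [Subgroup.orderOf_mk] at hy0
  set T := (E : Set G).toFinset.erase 1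
  have hT : T.card = 3 := by
    rw [Finset.card_erase_of_mem (by simp [one_mem]), Set.toFinset_card]
    rw [← Nat.card_eq_fintype_card]
    show Nat.card E - 1 = 3
    rw [hE]
  have hmemT : ∀ x, x ∈ T ↔ x ≠ 1 ∧ x ∈ E := fun x => by simp [T]
  have hconjT : ∀ g ∈ nz a, ∀ x ∈ T, g * x * g⁻¹ ∈ T := fun g hg x hx => (hmemT _).mpr
    ⟨fun e => ((hmemT x).mp hx).1 (conj_eq_one_iff.mp e),
      (mem_normalizer_iff.mp (hEN hg) x).mp ((hmemT x).mp hx).2⟩
  -- all of them are involutions
  have hinv : ∀ x ∈ E, x ≠ 1 → orderOf x = 2 := by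
    intro x hx hx1
    have hz3 : z ^ 3 = 1 := hz ▸ pow_orderOf_eq_one z
    have hzN : z ∈ nz a := hle hza
    have hy1 : y0 ∈ T := (hmemT _).mpr ⟨fun e => by rw [e, orderOf_one] at hy0; omega, hy0E⟩
    have hy2 := hconjT z hzN y0 hy1
    have hy3 := hconjT z hzN _ hy2
    have hne : ∀ y ∈ T, z * y * z⁻¹ ≠ y := fun y hy e =>
      ((hmemT y).mp hy).1 (hzfree y ((hmemT y).mp hy).2 (mul_inv_eq_iff_eq_mul.mp e).symm)
    have hne2 : z * (z * y0 * z⁻¹) * z⁻¹ ≠ y0 := by
      intro e
      refine hne y0 hy1 ?_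
      calc z * y0 * z⁻¹ = z * (z * (z * y0 * z⁻¹) * z⁻¹) * z⁻¹ := by rw [e]
        _ = z ^ 3 * y0 * (z ^ 3)⁻¹ := by simp only [pow_succ, pow_zero, one_mul]; group
        _ = y0 := by rw [hz3]; group
    have hsub : ({y0, z * y0 * z⁻¹, z * (z * y0 * z⁻¹) * z⁻¹} : Finset G) = T := by
      refine Finset.eq_of_subset_of_card_le (by simp [Finset.insert_subset_iff, hy1, hy2, hy3]) ?_
      rw [hT]
      simp only [Finset.card_insert_of_notMem, Finset.mem_insert, Finset.mem_singleton,
        Finset.card_singleton, not_or, (hne y0 hy1).symm, hne2.symm, (hne _ hy2).symm,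
        not_false_eq_true, and_self, Nat.reduceAdd, le_refl]
    have hxT : x ∈ T := (hmemT x).mpr ⟨hx1, hx⟩
    rw [← hsub] at hxT
    simp only [Finset.mem_insert, Finset.mem_singleton] at hxT
    rcases hxT with rfl | rfl | rfl <;> simp only [orderOf_conj, hy0]
  have hcomm : IsMulCommutative E := IsPGroup.isMulCommutative_of_card_eq_prime_sq (p := 2) (by rw [hE]; norm_num)
  -- `w` centralises `E`
  have hwE : ∀ x ∈ E, w * x = x * w := by
    intro x hx
    rcases eq_or_ne x 1 with rfl | hx1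
    · simp
    have : Fact (Nat.Prime 5) := ⟨by norm_num⟩
    have hm := card_modEq_commute hw (T : Set G) (fun g hg => hconjT w hwN g hg)
    rw [Nat.card_coe_set_eq, Set.ncard_coe_finset, hT,
      Nat.card_congr (β := {g // g ∈ T.filter fun g => w * g = g * w})
        (Equiv.subtypeEquivRight fun g => by simp), Nat.card_eq_fintype_card, Fintype.card_coe] at hm
    have hf : (T.filter fun g => w * g = g * w) = T := by
      refine Finset.eq_of_subset_of_card_le (Finset.filter_subset _ _) ?_
      have := Finset.card_filter_le T fun g => w * g = g * w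
      unfold Nat.ModEq at hm
      omega
    have hxf : x ∈ T.filter fun g => w * g = g * w := hf.symm ▸ (hmemT x).mpr ⟨hx1, hx⟩
    exact (Finset.mem_filter.mp hxf).2
  -- the centraliser of an involution of `E` lies in the normaliser
  have key : ∀ y ∈ E, y ≠ 1 → Nat.card (centralizer ({y} : Set G)) = 220 ∧
      centralizer ({y} : Set G) ≤ nz a := by
    intro y hy hy1
    set M := centralizer ({y} : Set G)
    have hay : a ∈ M := mem_centralizer_singleton_iff.mpr
      (mem_centralizer_singleton_iff.mp (hEC hy)).symm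
    have hEM : E ≤ M := fun x hx => mem_centralizer_singleton_iff.mpr
      (congrArg Subtype.val (mul_comm' (⟨x, hx⟩ : E) ⟨y, hy⟩))
    have hcard : Nat.card ↥(M ⊓ nz a) = 220 := by
      have d4 : 4 ∣ Nat.card ↥(M ⊓ nz a) :=
        hE ▸ card_dvd_of_le (le_inf hEM (hEC.trans hle))
      have d11 : 11 ∣ Nat.card ↥(M ⊓ nz a) :=
        ha ▸ orderOf_dvd_natCard _ (show a ∈ M ⊓ nz a from ⟨hay, self_mem_nz a⟩)
      have d5 : 5 ∣ Nat.card ↥(M ⊓ nz a) := hw ▸ orderOf_dvd_natCard _
        (show w ∈ M ⊓ nz a from ⟨mem_centralizer_singleton_iff.mpr (hwE y hy), hwN⟩)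
      have d660 : Nat.card ↥(M ⊓ nz a) ∣ 660 :=
        hN ▸ card_dvd_of_le (inf_le_right : M ⊓ nz a ≤ nz a)
      have hne : Nat.card ↥(M ⊓ nz a) ≠ 660 := by
        intro e
        have heq : M ⊓ nz a = nz a := eq_of_le_of_card_ge inf_le_right (by rw [e, hN])
        have hzM : z ∈ M := (heq.symm ▸ hle hza : z ∈ M ⊓ nz a).1
        exact hy1 (hzfree y hy (mem_centralizer_singleton_iff.mp hzM).symm)
      have d220 : 220 ∣ Nat.card ↥(M ⊓ nz a) := Nat.Coprime.mul_dvd_of_dvd_of_dvd
        (by norm_num : Nat.Coprime 20 11) (Nat.Coprime.mul_dvd_of_dvd_of_dvd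
          (by norm_num : Nat.Coprime 4 5) d4 d5) d11
      obtain ⟨t, ht⟩ := d220
      rw [ht] at d660 hne ⊢
      have ht3 : t ∣ 3 := by
        refine Nat.dvd_of_mul_dvd_mul_left (show 0 < 220 by norm_num) ?_
        exact d660
      rcases (Nat.dvd_prime Nat.prime_three).mp ht3 with e | e <;> omega
    obtain ⟨m, hm, hm11, hdvd, hms⟩ := inf_normalizer_data h ha hay hcard
    have hm' : m ∣ 432 := Nat.dvd_of_mul_dvd_mul_left (show 0 < 220 by norm_num) hdvd
    have hcases : ∀ d < 433, d ∣ 432 → d % 11 = 1 → d = 1 ∨ d = 12 ∨ 36 ≤ d := by decide +kernel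
    rcases hcases m (Nat.lt_succ_of_le (Nat.le_of_dvd (by norm_num) hm')) hm' hm11 with
      rfl | rfl | h36
    · rw [mul_one] at hm
      exact ⟨hm.symm, (eq_of_le_of_card_ge (inf_le_left : M ⊓ nz a ≤ M)
        (by rw [hcard, ← hm])) ▸ inf_le_right⟩
    · exfalso
      -- `E` fixes the 12 Sylow subgroups of `C(y)`
      have hP : ∀ Q : Sylow 11 M, Nat.card (Q : Subgroup M) = 11 := fun Q => by
        rw [card_sylow_subgroup (e := 1) (m := 240) (by rw [← hm]; norm_num) (by norm_num) Q, pow_one]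
      obtain ⟨P, hPa⟩ := exists_sylow_eq_zpowers hP (g := (⟨a, hay⟩ : M))
        (by rw [Subgroup.orderOf_mk, ha])
      have hmove : ∃ Q : Sylow 11 M, (⟨a, hay⟩ : M) • Q ≠ Q := by
        by_contra! hall
        have hall' : ∀ Q : Sylow 11 M, Q = P := by
          intro Q
          have h1 : (⟨a, hay⟩ : M) ∈ (P : Subgroup M) ⊓ normalizer ((Q : Subgroup M) : Set M) :=
            ⟨hPa ▸ mem_zpowers _, Sylow.smul_eq_iff_mem_normalizer.mp (hall Q)⟩
          have h1 : (⟨a, hay⟩ : M) ∈ (P : Subgroup M) ⊓ (Q : Subgroup M) :=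
            (P.isPGroup'.inf_normalizer_sylow Q) ▸ h1
          refine (Sylow.ext (eq_of_le_of_card_ge ?_ (by rw [hP, hP]))).symm
          rw [hPa, zpowers_le]
          exact h1.2
        have := Finite.card_le_one_iff_subsingleton.mpr
          (⟨fun A B => (hall' A).trans (hall' B).symm⟩ : Subsingleton (Sylow 11 M))
        omega
      have hfixE : ∀ x (hx : x ∈ E) (Q : Sylow 11 M), (⟨x, hEM hx⟩ : M) • Q = Q := fun x hx Q =>
        smul_eq_of_commute hms.le (by rw [Subgroup.orderOf_mk, ha]) hmove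
          (Subtype.ext (mem_centralizer_singleton_iff.mp (hEC hx)))
          (by rw [Subgroup.orderOf_mk]
              exact Nat.Coprime.coprime_dvd_left (hEdvd x hx) (by norm_num)) Q
      have hME : M ≤ normalizer (E : Set G) := fun g hg => mem_normalizer_fintype fun x hx => by
        refine h2 _ ?_ (by rw [orderOf_conj]; exact hEdvd x hx)
        have hfix : (⟨g * x * g⁻¹, mul_mem (mul_mem hg (hEM hx)) (inv_mem hg)⟩ : M) • P = P := by
          rw [show (⟨g * x * g⁻¹, mul_mem (mul_mem hg (hEM hx)) (inv_mem hg)⟩ : M) =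
            ⟨g, hg⟩ * ⟨x, hEM hx⟩ * ⟨g, hg⟩⁻¹ from rfl, mul_smul, mul_smul,
            hfixE x hx, smul_inv_smul]
        have h1 := (mem_normalizer_iff.mp (Sylow.smul_eq_iff_mem_normalizer.mp hfix) ⟨a, hay⟩).mp
          (show (⟨a, hay⟩ : M) ∈ (P : Subgroup M) by rw [hPa]; exact mem_zpowers _)
        rw [show ((P : Subgroup M)) = zpowers _ from hPa, mem_zpowers_iff] at h1
        obtain ⟨i, hi⟩ := h1
        exact mem_nz (mem_zpowers_iff.mpr ⟨i, by simpa using congrArg Subtype.val hi⟩)
      have hcE : Nat.card ↥(normalizer (E : Set G) ⊓ nz a) = 660 := by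
        rw [inf_eq_right.mpr hEN, hN]
      obtain ⟨m', hm'', hm1, hd', -⟩ := inf_normalizer_data h ha (hEN (self_mem_nz a)) hcE
      have hge := Nat.le_of_dvd Nat.card_pos (card_dvd_of_le hME)
      have hm2 : m' ≠ 1 := by rintro rfl; rw [← hm, ← hm''] at hge; omega
      have hm144 : m' ∣ 144 := Nat.dvd_of_mul_dvd_mul_left (show 0 < 660 by norm_num) hd'
      have : 12 ≤ m' := by omega
      have htop := eq_top_of_card_ge h ha hnd (H := normalizer (E : Set G)) (by omega)
      rcases (normalizer_eq_top_iff.mp htop).eq_bot_or_eq_top with hb | ht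
      · rw [hb, card_bot] at hE; omega
      · rw [ht, card_top, h] at hE; omega
    · exfalso
      exact hy1 (center_trivial h (eq_top_of_card_ge h ha hnd (H := M) (by omega)))
  -- a central involution of a Sylow 2-subgroup containing `E`
  obtain ⟨S, hS⟩ := (IsPGroup.of_card (n := 2) (show Nat.card E = 2 ^ 2 by rw [hE]; norm_num)).exists_le_sylow
  have hS64 : Nat.card (S : Subgroup G) = 2 ^ 6 :=
    card_sylow_subgroup (m := 1485) (by rw [h]; norm_num) (by norm_num) S
  have : Nontrivial (S : Subgroup G) := Finite.one_lt_card_iff_nontrivial.mp (by rw [hS64]; norm_num)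
  have := S.isPGroup'.center_nontrivial
  obtain ⟨c, hc, hc1⟩ := (nontrivial_iff_exists_ne_one _).mp this
  have hy0ne : y0 ≠ 1 := fun e => by rw [e, orderOf_one] at hy0; omega
  have hc64 : orderOf (c : G) ∣ 64 := (orderOf_dvd_natCard _ c.2).trans (by rw [hS64]; norm_num)
  have hcM : (c : G) ∈ centralizer ({y0} : Set G) := mem_centralizer_singleton_iff.mpr
    (congrArg Subtype.val (mem_center_iff.mp hc ⟨y0, hS hy0E⟩)).symm
  have hcE : (c : G) ∈ E := h2 _ ((key y0 hy0E hy0ne).2 hcM) hc64
  have hScen : (S : Subgroup G) ≤ centralizer ({(c : G)} : Set G) := fun g hg =>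
    mem_centralizer_singleton_iff.mpr (congrArg Subtype.val (mem_center_iff.mp hc ⟨g, hg⟩))
  have := card_dvd_of_le hScen
  rw [hS64, (key _ hcE (fun e => hc1 (Subtype.ext e))).1] at this
  norm_num at this

theorem false_of_twelve (h : Nat.card G = 95040) {a : G} (ha : orderOf a = 11)
    (hN : Nat.card (nz a) = 660) (hC : Nat.card (centralizer ({a} : Set G)) = 132)
    (hle : centralizer ({a} : Set G) ≤ nz a) : False := by
  have : Fact (Nat.Prime 3) := ⟨by norm_num⟩
  have : Fact (Nat.Prime 5) := ⟨by norm_num⟩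
  set C := centralizer ({a} : Set G)
  have hd := card_sylow_centralizer ha (q := 3) (m := 4) (by omega) (by norm_num) (by norm_num)
  have hmod : Nat.card (Sylow 3 C) % 3 = 1 := card_sylow_modEq_one 3 _
  have hle4 := Nat.le_of_dvd (by norm_num) hd
  rcases (show Nat.card (Sylow 3 C) = 1 ∨ Nat.card (Sylow 3 C) = 4 by simp only [C] at *; omega) with h1 | h4
  · exact false_of_unique_three h ha hN (m := 4) (by omega) (by norm_num) h1
  obtain ⟨⟨w, hwN⟩, hw⟩ := exists_prime_orderOf_dvd_card' 5 (by rw [hN]; norm_num : 5 ∣ Nat.card (nz a))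
  rw [Subgroup.orderOf_mk] at hw
  have hm := card_modEq_commute hw {g : G | g ∈ C ∧ orderOf g = 3} (fun g hg =>
    ⟨conj_mem_centralizer hwN hg.1, by rw [orderOf_conj]; exact hg.2⟩)
  rw [show Nat.card {g : G | g ∈ C ∧ orderOf g = 3} = _ from
    card_elements (e := 1) (m := 44) rfl (by rw [hC]; norm_num) (by norm_num), h4] at hm
  obtain ⟨⟨z, ⟨hza, hz⟩, hwz⟩⟩ : Nonempty {g : G // g ∈ {g : G | g ∈ C ∧ orderOf g = 3} ∧ w * g = g * w} := by
    refine (Nat.card_pos_iff.mp ?_).1
    by_contra h0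
    rw [show Nat.card {g : G // g ∈ {g : G | g ∈ C ∧ orderOf g = 3} ∧ w * g = g * w} = 0 by omega] at hm
    simp [Nat.ModEq] at hm
  have hP : ∀ Q : Sylow 3 C, Nat.card (Q : Subgroup C) = 3 := fun Q => by
    rw [card_sylow_subgroup (e := 1) (m := 44) (by rw [hC]; norm_num) (by norm_num) Q, pow_one]
  set z' : C := ⟨z, hza⟩
  set a' : C := ⟨a, SmallOrders.mem_centralizer_self a⟩
  have hz' : orderOf z' = 3 := by rw [Subgroup.orderOf_mk, hz]
  obtain ⟨Q, hQ⟩ := exists_sylow_eq_zpowers hP hz'
  have hNQ : Nat.card (normalizer ((Q : Subgroup C) : Set C)) = 33 := by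
    have := card_normalizer_mul_card_sylow Q
    rw [h4, hC] at this
    omega
  have hCQ : normalizer ((Q : Subgroup C) : Set C) ≤ centralizer ((Q : Subgroup C) : Set C) := by
    rw [hQ, centralizer_zpowers]
    have hsub : centralizer ({z'} : Set C) ≤ normalizer ((zpowers z' : Subgroup C) : Set C) := by
      rw [← centralizer_zpowers]; exact centralizer_le_normalizer _
    refine (eq_of_le_of_card_ge hsub ?_).ge
    rw [hQ] at hNQ
    rw [hNQ]
    refine Nat.le_of_dvd Nat.card_pos (Nat.Coprime.mul_dvd_of_dvd_of_dvd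
      (by norm_num : Nat.Coprime 3 11) (hz' ▸ orderOf_dvd_natCard _ (SmallOrders.mem_centralizer_self z')) ?_)
    have ha' : orderOf a' = 11 := by rw [Subgroup.orderOf_mk, ha]
    exact ha' ▸ orderOf_dvd_natCard _
      (show a' ∈ centralizer ({z'} : Set C) from mem_centralizer_singleton_iff.mpr
        (centralizer_comm a z').symm)
  -- the normal 3-complement
  have hK := MonoidHom.ker_transferSylow_isComplement' Q hCQ
  set φ := MonoidHom.transferSylow Q hCQ
  have hK44 : Nat.card φ.ker = 44 := by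
    have := hK.card_mul
    rw [hP, hC] at this
    omega
  have hker : ∀ x : C, Nat.Coprime (orderOf x) 3 → x ∈ φ.ker := fun x hx => by
    rw [MonoidHom.mem_ker]
    refine orderOf_eq_one_iff.mp (Nat.eq_one_of_dvd_coprimes hx (orderOf_map_dvd φ x) ?_)
    exact (orderOf_dvd_natCard (φ x)).trans (dvd_of_eq (hP Q))
  have hak : a' ∈ φ.ker := hker a' (by rw [Subgroup.orderOf_mk, ha]; norm_num)
  have hT1 : ∀ T : Sylow 2 φ.ker, Nat.card (T : Subgroup φ.ker) = 4 := fun T => by
    rw [card_sylow_subgroup (e := 2) (m := 11) (by rw [hK44]; norm_num) (by norm_num) T]; norm_num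
  have hTu : Nat.card (Sylow 2 φ.ker) = 1 := by
    obtain ⟨T⟩ := (inferInstance : Nonempty (Sylow 2 φ.ker))
    have hd2 := dvd_sylow_normalizer (a := (⟨a', hak⟩ : φ.ker)) (p := 11)
      (by rw [Subgroup.orderOf_mk, Subgroup.orderOf_mk, ha])
      (fun g => Subtype.ext (centralizer_comm a g.1)) (by norm_num) T
    rw [hT1] at hd2
    have h1 := card_normalizer_mul_card_sylow T
    rw [hK44] at h1
    have h44 := Nat.le_of_dvd Nat.card_pos hd2
    have h44' := Nat.le_of_dvd Nat.card_pos
      (card_subgroup_dvd_card (normalizer ((T : Subgroup φ.ker) : Set φ.ker)))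
    rw [hK44] at h44'
    rw [le_antisymm h44' h44] at h1
    omega
  have := (Nat.card_eq_one_iff_unique.mp hTu).1
  obtain ⟨T⟩ := (inferInstance : Nonempty (Sylow 2 φ.ker))
  set E := ((T : Subgroup φ.ker).map φ.ker.subtype).map C.subtype
  have hE : Nat.card E = 4 := by
    rw [card_map_of_injective (subtype_injective _), card_map_of_injective (subtype_injective _), hT1]
  refine false_of_klein h ha hN hC hle hw hwN hz hza (fun x hx hc => ?_) hE (map_subtype_le _)
    fun x hx h64 => ?_
  · have : (⟨x, hx⟩ : C) ∈ centralizer ((Q : Subgroup C) : Set C) := by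
      rw [hQ, centralizer_zpowers]
      exact mem_centralizer_singleton_iff.mpr (Subtype.ext hc)
    have h1 := orderOf_dvd_natCard _ (centralizer_le_normalizer _ this)
    rw [hNQ, Subgroup.orderOf_mk] at h1
    exact h1
  · -- 2-elements of `N` lie in `C`
    have hxC : x ∈ C := by
      obtain ⟨k, hk11, hk, hk'⟩ := Order7920.exists_conj_eq_pow ha hx (conj_mem_zpowers hx)
      have hord := Order7920.conj_pow_iterate hk' (orderOf x)
      rw [pow_orderOf_eq_one, one_mul, inv_one, mul_one] at hord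
      nth_rewrite 1 [← pow_one a] at hord
      rw [pow_eq_pow_iff_modEq, ha] at hord
      obtain ⟨i, hi, hxi⟩ := (Nat.dvd_prime_pow Nat.prime_two).mp (show orderOf x ∣ 2 ^ 6 from h64)
      rw [hxi] at hord
      rw [hN] at hk
      have hd : ∀ i ≤ 6, ∀ k < 11, k ^ 660 % 11 = 1 → (1 : ℕ) % 11 = k ^ 2 ^ i % 11 → k = 1 ∨ k = 10 := by
        decide +kernel
      rcases hd i hi k hk11 hk hord with rfl | rfl
      · exact mem_centralizer_singleton_iff.mpr (mul_inv_eq_iff_eq_mul.mp (by rw [hk', pow_one]))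
      · exfalso
        -- `N / C` has order 5
        have hidx : (C.subgroupOf (nz a)).index = 5 := by
          have := (C.subgroupOf (nz a)).card_mul_index
          rw [Nat.card_congr (subgroupOfEquivOfLe hle).toEquiv, hC, hN] at this
          omega
        have : (C.subgroupOf (nz a)).Normal := ⟨fun u hu g => by
          rw [mem_subgroupOf] at hu ⊢
          exact conj_mem_centralizer g.2 hu⟩
        have h5' : (⟨x, hx⟩ : nz a) ^ 5 ∈ C.subgroupOf (nz a) := hidx ▸ pow_index_mem _ _
        rw [mem_subgroupOf] at h5'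
        have := Order7920.conj_pow_iterate hk' 5
        rw [show x ^ 5 * a * (x ^ 5)⁻¹ = a from
          mul_inv_eq_iff_eq_mul.mpr (mem_centralizer_singleton_iff.mp h5')] at this
        nth_rewrite 1 [← pow_one a] at this
        rw [pow_eq_pow_iff_modEq, ha] at this
        revert this
        decide +kernel
    set x' : C := ⟨x, hxC⟩
    have hx'k : x' ∈ φ.ker := hker x' (by
      rw [Subgroup.orderOf_mk]; exact Nat.Coprime.coprime_dvd_left h64 (by norm_num))
    obtain ⟨i, -, hxi⟩ := (Nat.dvd_prime_pow Nat.prime_two).mp (show orderOf x ∣ 2 ^ 6 from h64)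
    obtain ⟨R, hR⟩ := (IsPGroup.of_card (n := i) (show Nat.card (zpowers (⟨x', hx'k⟩ : φ.ker)) = 2 ^ i by
      rw [Nat.card_zpowers, Subgroup.orderOf_mk, Subgroup.orderOf_mk, hxi])).exists_le_sylow
    exact ⟨x', ⟨⟨x', hx'k⟩, Subsingleton.elim R T ▸ hR (mem_zpowers _), rfl⟩, rfl⟩

end Cfsg.Agent.Order95040
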