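/-
A simple group of order 95040 does not have 540 Sylow 11-subgroups.

Main results (namespace `Cfsg.Agent.Order95040`): `eq_normalizer_of_central`,
`false_of_eightyeight`.
-/
import Cfsg.Agent.Lib.Order95040.Case144
import Cfsg.Agent.Lib.PGroup.Basic

set_option autoImplicit false

namespace Cfsg.Agent.Order95040

open Subgroup SmallOrders

variable {G : Type*} [Group G] [Finite G] [IsSimpleGroup G]

/-- An involution commuting with `N` has centraliser `N`. -/
theorem eq_normalizer_of_central (h : Nat.card G = 95040) {a c : G} (ha : orderOf a = 11)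
    (hN : Nat.card (nz a) = 176) (hC : Nat.card (centralizer ({a} : Set G)) = 88)
    (hle : centralizer ({a} : Set G) ≤ nz a) (hc1 : c ≠ 1)
    (hc : ∀ g ∈ nz a, g * c = c * g) : centralizer ({c} : Set G) = nz a := by
  classical
  set M := centralizer ({c} : Set G)
  have hnd : ¬ Nat.card (centralizer ({a} : Set G)) ∣ 11 := by rw [hC]; norm_num
  have hNM : nz a ≤ M := fun g hg => mem_centralizer_singleton_iff.mpr (hc g hg)
  have hay : a ∈ M := hNM (self_mem_nz a)
  obtain ⟨m, hm, hm11, hdvd, hms⟩ := inf_normalizer_data h ha hay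
    (show Nat.card ↥(M ⊓ nz a) = 176 by rw [inf_eq_right.mpr hNM, hN])
  have hm' : m ∣ 540 := Nat.dvd_of_mul_dvd_mul_left (show 0 < 176 by norm_num) hdvd
  have hcases : ∀ d < 541, d ∣ 540 → d % 11 = 1 → d = 1 ∨ d = 12 ∨ 45 ≤ d := by decide +kernel
  rcases hcases m (Nat.lt_succ_of_le (Nat.le_of_dvd (by norm_num) hm')) hm' hm11 with
    rfl | rfl | h45
  · exact (eq_of_le_of_card_ge hNM (by rw [hN, ← hm])).symm
  swap
  · exact absurd (center_trivial h (eq_top_of_card_ge h ha hnd (H := M) (by omega))) hc1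
  exfalso
  -- `|C(c)| = 2112`: the action on the 12 Sylow 11-subgroups
  have := Fintype.ofFinite (Sylow 11 M)
  have hP : ∀ Q : Sylow 11 M, Nat.card (Q : Subgroup M) = 11 := fun Q => by
    rw [card_sylow_subgroup (e := 1) (m := 192) (by rw [← hm]; norm_num) (by norm_num) Q, pow_one]
  set a' : M := ⟨a, hay⟩
  have ha' : orderOf a' = 11 := by rw [Subgroup.orderOf_mk, ha]
  obtain ⟨P, hPa⟩ := exists_sylow_eq_zpowers hP ha'
  have hmove : ∃ Q : Sylow 11 M, a' • Q ≠ Q := by
    by_contra! hall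
    have hall' : ∀ Q : Sylow 11 M, Q = P := by
      intro Q
      have h1 : a' ∈ (P : Subgroup M) ⊓ normalizer ((Q : Subgroup M) : Set M) :=
        ⟨hPa ▸ mem_zpowers _, Sylow.smul_eq_iff_mem_normalizer.mp (hall Q)⟩
      have h2 : a' ∈ (P : Subgroup M) ⊓ (Q : Subgroup M) :=
        (P.isPGroup'.inf_normalizer_sylow Q) ▸ h1
      refine (Sylow.ext (eq_of_le_of_card_ge ?_ (by rw [hP, hP]))).symm
      rw [hPa, zpowers_le]
      exact h2.2
    have := Finite.card_le_one_iff_subsingleton.mpr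
      (⟨fun A B => (hall' A).trans (hall' B).symm⟩ : Subsingleton (Sylow 11 M))
    omega
  set ψ := MulAction.toPermHom M (Sylow 11 M)
  have hX : Fintype.card (Sylow 11 M) = 12 := by rw [← Nat.card_eq_fintype_card]; exact hms
  have hψa : orderOf (ψ a') = 11 := by
    refine orderOf_eq_prime ?_ ?_
    · rw [← map_pow, orderOf_dvd_iff_pow_eq_one.mp (dvd_of_eq ha'), map_one]
    · intro h1
      obtain ⟨R, hR⟩ := hmove
      exact hR (Equiv.Perm.ext_iff.mp h1 R)
  set χ : M →* ℤˣ := Equiv.Perm.sign.comp ψ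
  have hχC : ∀ g : M, (g : G) ∈ centralizer ({a} : Set G) → χ g = 1 := fun g hg =>
    sign_of_commute hX.le hψa (by
      rw [← map_mul, ← map_mul]
      exact congrArg ψ (Subtype.ext (mem_centralizer_singleton_iff.mp hg)))
  -- an inverting element is odd
  obtain ⟨s, hs, hsC⟩ := SetLike.not_le_iff_exists.mp
    (fun e => by have := card_dvd_of_le e; rw [hN, hC] at this; norm_num at this :
      ¬ nz a ≤ centralizer ({a} : Set G))
  obtain ⟨k, hk11, hk, hk'⟩ := Order7920.exists_conj_eq_pow ha hs (conj_mem_zpowers hs)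
  have hd : ∀ k < 11, k ^ 176 % 11 = 1 → k = 1 ∨ k = 10 := by decide +kernel
  rw [hN] at hk
  rcases hd k hk11 hk with rfl | rfl
  · exact hsC (mem_centralizer_singleton_iff.mpr (mul_inv_eq_iff_eq_mul.mp (by rw [hk', pow_one])))
  have hχs : χ ⟨s, hNM hs⟩ = -1 := sign_conj_inv hX hψa (by
    rw [← map_inv ψ a', ← map_mul, ← map_inv, ← map_mul]
    refine congrArg ψ (Subtype.ext ?_)
    show s * a * s⁻¹ = a⁻¹
    rw [hk']
    refine eq_inv_of_mul_eq_one_left ?_
    rw [← pow_succ, show 10 + 1 = orderOf a from ha.symm, pow_orderOf_eq_one])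
  set M0 := χ.ker.map M.subtype
  have hM0 : Nat.card M0 = 1056 := by
    have hr : χ.range = ⊤ := by
      rw [eq_top_iff]
      intro u _
      rcases Int.units_eq_one_or u with rfl | rfl
      · exact one_mem _
      · exact ⟨_, hχs⟩
    have h1 := χ.ker.card_mul_index
    rw [Subgroup.index_ker, hr, card_top, ← hm, show Nat.card ℤˣ = 2 by
      rw [Nat.card_eq_fintype_card]; rfl] at h1
    rw [card_map_of_injective (subtype_injective _)]
    omega
  have hCM0 : centralizer ({a} : Set G) ≤ M0 := fun g hg =>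
    ⟨⟨g, hNM (hle hg)⟩, hχC _ hg, rfl⟩
  have hinf : M0 ⊓ nz a = centralizer ({a} : Set G) := by
    refine le_antisymm ?_ (le_inf hCM0 hle)
    rintro g ⟨⟨g', hg', rfl⟩, hgN⟩
    by_contra hgC
    obtain ⟨j, hj11, hj, hj'⟩ := Order7920.exists_conj_eq_pow ha hgN (conj_mem_zpowers hgN)
    rw [hN] at hj
    rcases hd j hj11 hj with rfl | rfl
    · exact hgC (mem_centralizer_singleton_iff.mpr (mul_inv_eq_iff_eq_mul.mp (by rw [hj', pow_one])))
    have h1 : χ g' = -1 := sign_conj_inv hX hψa (by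
      rw [← map_inv ψ a', ← map_mul, ← map_inv, ← map_mul]
      refine congrArg ψ (Subtype.ext ?_)
      show (g' : G) * a * (g' : G)⁻¹ = a⁻¹
      rw [show (g' : G) * a * (g' : G)⁻¹ = a ^ 10 from hj']
      refine eq_inv_of_mul_eq_one_left ?_
      rw [← pow_succ, show 10 + 1 = orderOf a from ha.symm, pow_orderOf_eq_one])
    rw [MonoidHom.mem_ker.mp hg'] at h1
    exact absurd h1 (by decide)
  -- Burnside transfer in the even part
  have haM0 : a ∈ M0 := hCM0 (SmallOrders.mem_centralizer_self a)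
  set a0 : M0 := ⟨a, haM0⟩
  have ha0 : orderOf a0 = 11 := by rw [Subgroup.orderOf_mk, ha]
  obtain ⟨Q, hQ⟩ := exists_sylow_eq_zpowers (fun Q : Sylow 11 M0 => by
    rw [card_sylow_subgroup (e := 1) (m := 96) (by rw [hM0]; norm_num) (by norm_num) Q, pow_one]) ha0
  have hCQ : normalizer ((Q : Subgroup M0) : Set M0) ≤ centralizer ((Q : Subgroup M0) : Set M0) := by
    intro g hg
    rw [hQ, centralizer_zpowers, mem_centralizer_singleton_iff]
    have h1 := (mem_normalizer_iff.mp hg a0).mp (by rw [hQ]; exact mem_zpowers a0)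
    rw [show ((Q : Subgroup M0)) = zpowers a0 from hQ, mem_zpowers_iff] at h1
    obtain ⟨i, hi⟩ := h1
    have hgN : (g : G) ∈ M0 ⊓ nz a :=
      ⟨g.2, mem_nz (mem_zpowers_iff.mpr ⟨i, by simpa [a0] using congrArg Subtype.val hi⟩)⟩
    rw [hinf] at hgN
    exact Subtype.ext (mem_centralizer_singleton_iff.mp hgN)
  have hK := MonoidHom.ker_transferSylow_isComplement' Q hCQ
  set φ := MonoidHom.transferSylow Q hCQ
  have hK96 : Nat.card φ.ker = 96 := by
    have h1 := hK.card_mul_card
    rw [show Nat.card (Q : Subgroup M0) = 11 by rw [hQ, Nat.card_zpowers, ha0], hM0] at h1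
    omega
  set K := φ.ker.map M0.subtype
  have hK' : Nat.card K = 96 := by rw [card_map_of_injective (subtype_injective _), hK96]
  have : Fact (Nat.Prime 3) := ⟨by norm_num⟩
  have hmod := card_modEq_commute ha {g : G | g ∈ K ∧ orderOf g = 3} (fun g hg => by
    refine ⟨?_, by rw [orderOf_conj]; exact hg.2⟩
    obtain ⟨⟨g', hg', rfl⟩, -⟩ := hg
    exact ⟨a0 * g' * a0⁻¹, φ.normal_ker.conj_mem g' hg' a0, rfl⟩)
  rw [show Nat.card {g : G | g ∈ K ∧ orderOf g = 3} = _ from
    card_elements (e := 1) (m := 32) rfl (by rw [hK']; norm_num) (by norm_num)] at hmod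
  have h0 : Nat.card {g : G // g ∈ {g : G | g ∈ K ∧ orderOf g = 3} ∧ a * g = g * a} = 0 := by
    refine Nat.card_eq_zero.mpr (Or.inl ⟨?_⟩)
    rintro ⟨g, ⟨-, hg3⟩, hga⟩
    have := orderOf_dvd_natCard _ (mem_centralizer_singleton_iff.mpr hga.symm :
      g ∈ centralizer ({a} : Set G))
    rw [hg3, hC] at this
    norm_num at this
  rw [h0] at hmod
  obtain ⟨R⟩ := (inferInstance : Nonempty (Sylow 3 K))
  have hdvd3 : Nat.card (Sylow 3 K) ∣ 32 :=
    index_sylow (e := 1) (m := 32) (by rw [hK']; norm_num) (by norm_num) R ▸ R.card_dvd_index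
  have h11 : 11 ∣ Nat.card (Sylow 3 K) * 2 := Nat.modEq_zero_iff_dvd.mp hmod
  have := Nat.le_of_dvd (by norm_num)
    ((Nat.Coprime.dvd_mul_right (by norm_num : Nat.Coprime 11 2)).mp h11 |>.trans hdvd3)
  have := Nat.Coprime.dvd_of_dvd_mul_right (by norm_num : Nat.Coprime 11 2) h11
  have h32 := this.trans hdvd3
  norm_num at h32

theorem false_of_eightyeight (h : Nat.card G = 95040) {a : G} (ha : orderOf a = 11)
    (hN : Nat.card (nz a) = 176) (hC : Nat.card (centralizer ({a} : Set G)) = 88)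
    (hle : centralizer ({a} : Set G) ≤ nz a) : False := by
  classical
  set C := centralizer ({a} : Set G)
  -- a Sylow 2-subgroup `R` of `N` inside a Sylow 2-subgroup `S` of `G`
  obtain ⟨R0⟩ := (inferInstance : Nonempty (Sylow 2 (nz a)))
  set R := (R0 : Subgroup (nz a)).map (nz a).subtype
  have hR : Nat.card R = 16 := by
    rw [card_map_of_injective (subtype_injective _),
      card_sylow_subgroup (e := 4) (m := 11) (by rw [hN]; norm_num) (by norm_num) R0]
    norm_num
  have hRN : R ≤ nz a := map_subtype_le _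
  have hidx : (C.subgroupOf (nz a)).index = 2 := by
    have h1 := (C.subgroupOf (nz a)).card_mul_index
    rw [Nat.card_congr (subgroupOfEquivOfLe hle).toEquiv, hC, hN] at h1
    omega
  have hsq : ∀ g ∈ nz a, g * g ∈ C := fun g hg => by
    have h1 := sq_mem_of_index_two hidx (⟨g, hg⟩ : nz a)
    rw [mem_subgroupOf] at h1
    simpa [sq] using h1
  have hmul : ∀ g ∈ nz a, ∀ g' ∈ nz a, g ∉ C → g' ∉ C → g * g' ∈ C := fun g hg g' hg' h1 h2 => by
    have := mul_mem_iff_of_index_two (a := (⟨g, hg⟩ : nz a)) (b := ⟨g', hg'⟩) hidx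
    simp only [mem_subgroupOf, Subgroup.coe_mul] at this
    exact this.mpr (iff_of_false h1 h2)
  set V := R ⊓ C
  have hV8 : Nat.card V = 8 := by
    have hR' : (C.subgroupOf R).index ∣ 2 := by
      rw [← hidx]
      have : (C.subgroupOf (nz a)).Normal := normal_of_index_eq_two hidx
      show C.relIndex R ∣ _
      rw [← relIndex_subgroupOf hRN]
      exact relIndex_dvd_index_of_normal _ _
    have h1 := (C.subgroupOf R).card_mul_index
    have h2 : Nat.card (C.subgroupOf R) = Nat.card V := by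
      rw [← inf_subgroupOf_left, Nat.card_congr (subgroupOfEquivOfLe inf_le_left).toEquiv]
    rw [h2, hR] at h1
    have h8 : Nat.card V ∣ 88 := hC ▸ card_dvd_of_le inf_le_right
    rcases (Nat.dvd_prime Nat.prime_two).mp hR' with e | e <;> rw [e] at h1
    · rw [mul_one] at h1; rw [h1] at h8; norm_num at h8
    · omega
  have hcen : ∀ c ∈ V, (∀ g ∈ R, g * c = c * g) → ∀ g ∈ nz a, g * c = c * g := by
    intro c hc hcR
    have hle' : R ≤ centralizer ({c} : Set G) := fun g hg => mem_centralizer_singleton_iff.mpr (hcR g hg)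
    have hac : a ∈ centralizer ({c} : Set G) := mem_centralizer_singleton_iff.mpr
      (mem_centralizer_singleton_iff.mp hc.2).symm
    have h16 : 16 ∣ Nat.card ↥(centralizer ({c} : Set G) ⊓ nz a) := hR ▸ card_dvd_of_le (le_inf hle' hRN)
    have h11 : 11 ∣ Nat.card ↥(centralizer ({c} : Set G) ⊓ nz a) := ha ▸
      orderOf_dvd_natCard _ (show a ∈ centralizer ({c} : Set G) ⊓ nz a from ⟨hac, self_mem_nz a⟩)
    have heq : centralizer ({c} : Set G) ⊓ nz a = nz a := eq_of_le_of_card_ge inf_le_right (by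
      rw [hN]
      exact Nat.le_of_dvd Nat.card_pos
        (Nat.Coprime.mul_dvd_of_dvd_of_dvd (by norm_num : Nat.Coprime 16 11) h16 h11))
    intro g hg
    rw [← heq] at hg
    exact mem_centralizer_singleton_iff.mp hg.1
  -- an element of a larger 2-group normalising `R`
  have hR2 : IsPGroup 2 R := IsPGroup.of_card (n := 4) (by rw [hR]; norm_num)
  obtain ⟨S, hS⟩ := hR2.exists_le_sylow
  have hS64 : Nat.card (S : Subgroup G) = 2 ^ 6 :=
    card_sylow_subgroup (m := 1485) (by rw [h]; norm_num) (by norm_num) S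
  have hlt : R.subgroupOf (S : Subgroup G) < ⊤ := lt_top_iff_ne_top.mpr fun e => by
    have h1 := congrArg (fun K : Subgroup (S : Subgroup G) => Nat.card K) e
    simp only [Nat.card_congr (subgroupOfEquivOfLe hS).toEquiv, card_top, hR, hS64] at h1
    norm_num at h1
  have : Group.IsNilpotent (S : Subgroup G) := S.isPGroup'.isNilpotent
  obtain ⟨s', hs'N, hs'R⟩ := SetLike.exists_of_lt (normalizerCondition_of_isNilpotent _ hlt)
  rw [mem_subgroupOf] at hs'R
  set s : G := (s' : G)
  have hsR : ∀ g ∈ R, s * g * s⁻¹ ∈ R := fun g hg => by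
    have := (mem_normalizer_iff.mp hs'N ⟨g, hS hg⟩).mp hg
    rwa [mem_subgroupOf] at this
  have hsN : s ∉ nz a := by
    intro hsN
    have hsup : R ⊔ zpowers s ≤ (S : Subgroup G) ⊓ nz a :=
      sup_le (le_inf hS hRN) (zpowers_le.mpr ⟨s'.2, hsN⟩)
    obtain ⟨i, -, hi⟩ := (Nat.dvd_prime_pow Nat.prime_two).mp
      (hS64 ▸ card_dvd_of_le (inf_le_left : (S : Subgroup G) ⊓ nz a ≤ S))
    have h176 : 2 ^ i ∣ 16 := by
      have h1 : 2 ^ i ∣ 11 * 16 := by
        have := card_dvd_of_le (inf_le_right : (S : Subgroup G) ⊓ nz a ≤ nz a)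
        rw [hi, hN] at this; exact this
      exact (Nat.Coprime.pow_left i (by norm_num : Nat.Coprime 2 11)).dvd_of_dvd_mul_left h1
    have heq : R = (S : Subgroup G) ⊓ nz a := eq_of_le_of_card_ge (le_inf hS hRN)
      (by rw [hi, hR]; exact Nat.le_of_dvd (by norm_num) h176)
    exact hs'R (heq ▸ ⟨s'.2, hsN⟩)
  -- conjugates of central involutions leave `V`
  have key : ∀ c ∈ V, c ≠ 1 → (∀ g ∈ R, g * c = c * g) → s * c * s⁻¹ ∉ C := by
    intro c hc hc1 hcR hmem
    have hC1 := eq_normalizer_of_central h ha hN hC hle hc1 (hcen c hc hcR)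
    have hc'R : ∀ g ∈ R, g * (s * c * s⁻¹) = (s * c * s⁻¹) * g := by
      intro g hg
      have hg' : s⁻¹ * g * s ∈ R := by
        have h1 := (mem_normalizer_iff'.mp (inv_mem hs'N) ⟨g, hS hg⟩)
        have h2 : (⟨g, hS hg⟩ : (S : Subgroup G)) ∈ R.subgroupOf (S : Subgroup G) := hg
        have h3 : s'⁻¹ * ⟨g, hS hg⟩ * s' ∈ R.subgroupOf (S : Subgroup G) := by
          simpa using (mem_normalizer_iff.mp (inv_mem hs'N) ⟨g, hS hg⟩).mp h2
        simpa [mem_subgroupOf] using h3
      calc g * (s * c * s⁻¹) = s * ((s⁻¹ * g * s) * c) * s⁻¹ := by group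
        _ = s * (c * (s⁻¹ * g * s)) * s⁻¹ := by rw [hcR _ hg']
        _ = (s * c * s⁻¹) * g := by group
    have hc'V : s * c * s⁻¹ ∈ V := ⟨hsR c hc.1, hmem⟩
    have hC2 := eq_normalizer_of_central h ha hN hC hle
      (fun e => hc1 (conj_eq_one_iff.mp e)) (hcen _ hc'V hc'R)
    -- so `s` normalises `N`
    refine hsN (mem_nz ?_)
    have hsa : s * a * s⁻¹ ∈ nz a := by
      rw [← hC2, mem_centralizer_singleton_iff]
      have h1 : a * c = c * a := mem_centralizer_singleton_iff.mp (hC1.ge (self_mem_nz a))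
      calc s * a * s⁻¹ * (s * c * s⁻¹) = s * (a * c) * s⁻¹ := by group
        _ = s * (c * a) * s⁻¹ := by rw [h1]
        _ = _ := by group
    have hP : ∀ Q : Sylow 11 (nz a), Nat.card (Q : Subgroup (nz a)) = 11 := fun Q => by
      rw [card_sylow_subgroup (e := 1) (m := 16) (by rw [hN]; norm_num) (by norm_num) Q, pow_one]
    have hu : Nat.card (Sylow 11 (nz a)) = 1 := by
      obtain ⟨Q⟩ := (inferInstance : Nonempty (Sylow 11 (nz a)))
      have hd : Nat.card (Sylow 11 (nz a)) ∣ 16 :=
        index_sylow (e := 1) (m := 16) (by rw [hN]; norm_num) (by norm_num) Q ▸ Q.card_dvd_index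
      have hmod : Nat.card (Sylow 11 (nz a)) % 11 = 1 := card_sylow_modEq_one 11 _
      have := Nat.le_of_dvd (by norm_num) hd
      rcases (show Nat.card (Sylow 11 (nz a)) = 1 ∨ Nat.card (Sylow 11 (nz a)) = 12 by omega) with e | e
      · exact e
      · rw [e] at hd; norm_num at hd
    have := mem_zpowers_of_unique hP hu (x := (⟨a, self_mem_nz a⟩ : nz a)) (y := ⟨_, hsa⟩)
      (by rw [Subgroup.orderOf_mk, ha]) (by rw [Subgroup.orderOf_mk, orderOf_conj, ha])
    obtain ⟨i, hi⟩ := mem_zpowers_iff.mp this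
    exact mem_zpowers_iff.mpr ⟨i, by simpa using congrArg Subtype.val hi⟩
  have hV2 : IsPGroup 2 V := IsPGroup.of_card (n := 3) (by rw [hV8]; norm_num)
  by_cases hel : ∀ g ∈ V, g * g = 1
  · -- elementary abelian
    have hVcomm : ∀ u ∈ V, ∀ v ∈ V, u * v = v * u := fun u hu v hv => by
      have h1 := hel _ (mul_mem hu hv)
      have hu' : u⁻¹ = u := inv_eq_of_mul_eq_one_left (hel u hu)
      have hv' : v⁻¹ = v := inv_eq_of_mul_eq_one_left (hel v hv)
      calc u * v = (u * v)⁻¹ := (inv_eq_of_mul_eq_one_left h1).symm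
        _ = v * u := by rw [mul_inv_rev, hu', hv']
    have hRnotC : ∃ t ∈ R, t ∉ C := by
      by_contra! e
      have := card_dvd_of_le (show R ≤ C from e)
      rw [hR, hC] at this; norm_num at this
    have hnorm : ∀ g ∈ R, ∀ v ∈ V, g * v * g⁻¹ ∈ V := fun g hg v hv =>
      ⟨R.mul_mem (R.mul_mem hg hv.1) (R.inv_mem hg), conj_mem_centralizer (hRN hg) hv.2⟩
    have : Nontrivial R := Finite.one_lt_card_iff_nontrivial.mp (by rw [hR]; norm_num)
    -- a nontrivial fixed point of `R` in `V`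
    have hVn : (V.subgroupOf R).Normal := ⟨fun v hv g => by
      rw [mem_subgroupOf] at hv ⊢; exact hnorm g g.2 v hv⟩
    obtain ⟨c1, hc1m, hc1ne⟩ := (nontrivial_iff_exists_ne_one _).mp
      (Subgroup.nontrivial_iff_ne_bot _ |>.mpr (PGroup.inf_center_ne_bot hR2 (N := V.subgroupOf R) (by
        intro e
        have := Nat.card_congr (subgroupOfEquivOfLe (inf_le_left : V ≤ R)).toEquiv
        rw [e, card_bot, hV8] at this
        omega)))
    obtain ⟨hc1V, hc1Z⟩ := hc1m
    replace hc1V : (c1 : G) ∈ V := mem_subgroupOf.mp hc1V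
    have hc1R : ∀ g ∈ R, g * (c1 : G) = c1 * g := fun g hg =>
      congrArg Subtype.val (mem_center_iff.mp hc1Z ⟨g, hg⟩)
    have hc1' : (c1 : G) ≠ 1 := fun e => hc1ne (Subtype.ext e)
    -- the conjugate of `c1` together with `V` generates `R`, so all of `V` is central
    set t := s * (c1 : G) * s⁻¹
    have htC : t ∉ C := key _ hc1V hc1' hc1R
    have htR : t ∈ R := hsR _ c1.2
    have htcen : ∀ g ∈ R, g * t = t * g := by
      intro g hg
      have hg' : s⁻¹ * g * s ∈ R := by
        have h3 : s'⁻¹ * ⟨g, hS hg⟩ * s' ∈ R.subgroupOf (S : Subgroup G) := by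
          simpa using (mem_normalizer_iff.mp (inv_mem hs'N) ⟨g, hS hg⟩).mp
            (show (⟨g, hS hg⟩ : (S : Subgroup G)) ∈ R.subgroupOf (S : Subgroup G) from hg)
        simpa [mem_subgroupOf] using h3
      calc g * t = s * ((s⁻¹ * g * s) * c1) * s⁻¹ := by simp only [t]; group
        _ = s * (c1 * (s⁻¹ * g * s)) * s⁻¹ := by rw [hc1R _ hg']
        _ = t * g := by simp only [t]; group
    have hall : ∀ v ∈ V, ∀ g ∈ R, g * v = v * g := by
      intro v hv g hg
      by_cases hgC : g ∈ C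
      · exact hVcomm g ⟨hg, hgC⟩ v hv
      · have hgt : g * t ∈ V := ⟨mul_mem hg htR, hmul g (hRN hg) t (hRN htR) hgC htC⟩
        have h1 := hVcomm _ hgt v hv
        have h2 : v * t = t * v := htcen v hv.1
        calc g * v = g * t * v * t⁻¹ := by rw [mul_assoc g t v, ← h2]; group
          _ = v * (g * t) * t⁻¹ := by rw [h1]
          _ = v * g := by group
    obtain ⟨c2, hc2, hc21, hc22⟩ : ∃ c2 ∈ V, c2 ≠ 1 ∧ c2 ≠ (c1 : G) := by
      by_contra! e
      have hsub : (V : Set G) ⊆ {1, (c1 : G)} := fun x hx => by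
        rcases eq_or_ne x 1 with rfl | hx1
        · exact Or.inl rfl
        · exact Or.inr (e x hx hx1)
      have := (Set.ncard_le_ncard hsub).trans (Set.ncard_insert_le _ _)
      rw [Set.ncard_singleton, ← Nat.card_coe_set_eq] at this
      have h8 : Nat.card (V : Set G) = 8 := hV8
      omega
    have hc3 : (c1 : G) * c2 ∈ V := mul_mem hc1V hc2
    refine key _ hc3 (fun e => hc22 ?_) (hall _ hc3) ?_
    · have := hel _ hc1V
      rw [← e] at this
      exact (mul_left_cancel this).symm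
    · rw [show s * ((c1 : G) * c2) * s⁻¹ = (s * c1 * s⁻¹) * (s * c2 * s⁻¹) by group]
      exact hmul _ (hRN (hsR _ c1.2)) _ (hRN (hsR _ hc2.1)) htC (key _ hc2 hc21 (hall _ hc2))
  · -- the unique square of an element of order 4
    push Not at hel
    obtain ⟨g, hg, hgg⟩ := hel
    obtain ⟨x, hx, hx4⟩ : ∃ x ∈ V, orderOf x = 4 := by
      obtain ⟨i, hi, hgi⟩ := (Nat.dvd_prime_pow Nat.prime_two).mp
        (show orderOf g ∣ 2 ^ 3 by exact (orderOf_dvd_natCard V hg).trans (dvd_of_eq hV8))
      have hnot : ¬ orderOf g ∣ 2 := fun e => hgg (by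
        rw [← pow_two]; exact orderOf_dvd_iff_pow_eq_one.mp e)
      rcases (show i = 2 ∨ i = 3 by
        by_contra hi'
        exact hnot (hgi ▸ pow_dvd_pow 2 (show i ≤ 1 by omega) |>.trans (by norm_num))) with rfl | rfl
      · exact ⟨g, hg, by rw [hgi]; norm_num⟩
      · exact ⟨g * g, mul_mem hg hg, by
          rw [← pow_two, orderOf_pow' _ (by norm_num), hgi]; norm_num⟩
    have huniq : ∀ u ∈ V, orderOf u = 4 → u * u = x * x := by
      intro u hu hu4
      by_contra hne
      let f : Fin 4 × Fin 4 → V := fun p =>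
        ⟨u ^ (p.1 : ℕ) * x ^ (p.2 : ℕ), mul_mem (pow_mem hu _) (pow_mem hx _)⟩
      have hinter : ∀ i < 4, ∀ j < 4, u ^ i = x ^ j → i = 0 := by
        intro i hi j hj e
        have hu4' : u ^ 4 = 1 := hu4 ▸ pow_orderOf_eq_one u
        have hx4' : x ^ 4 = 1 := hx4 ▸ pow_orderOf_eq_one x
        have hu2 : u * u ≠ 1 := fun e2 => by
          have := orderOf_dvd_of_pow_eq_one (show u ^ 2 = 1 by rw [pow_two]; exact e2)
          rw [hu4] at this; norm_num at this
        have hx2 : x * x ≠ 1 := fun e2 => by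
          have := orderOf_dvd_of_pow_eq_one (show x ^ 2 = 1 by rw [pow_two]; exact e2)
          rw [hx4] at this; norm_num at this
        have sqv : ∀ y : G, y ^ 4 = 1 → ∀ j : ℕ, y ^ (2 * j) = if j % 2 = 0 then 1 else y * y :=
          fun y hy j => by
            rw [pow_eq_pow_mod _ hy]
            split_ifs with h0
            · rw [show 2 * j % 4 = 0 by omega, pow_zero]
            · rw [show 2 * j % 4 = 2 by omega, pow_two]
        have e2 : u ^ (2 * i) = x ^ (2 * j) := by rw [mul_comm 2, mul_comm 2, pow_mul, pow_mul, e]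
        rw [sqv u hu4', sqv x hx4'] at e2
        rcases (show i = 0 ∨ i = 2 ∨ i % 2 = 1 by omega) with h0 | h0 | h0
        · exact h0
        · exfalso
          subst h0
          rcases (show j = 0 ∨ j = 2 ∨ j % 2 = 1 by omega) with h1 | h1 | h1
          · subst h1; rw [pow_two, pow_zero] at e; exact hu2 e
          · subst h1; rw [pow_two, pow_two] at e; exact hne e
          · rw [if_pos (by norm_num), if_neg (by omega)] at e2; exact hx2 e2.symm
        · exfalso
          rw [if_neg (by omega)] at e2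
          split_ifs at e2
          · exact hu2 e2
          · exact hne e2
      have hf : Function.Injective f := by
        rintro ⟨i, j⟩ ⟨i', j'⟩ e
        have e' : u ^ (i : ℕ) * x ^ (j : ℕ) = u ^ (i' : ℕ) * x ^ (j' : ℕ) := congrArg Subtype.val e
        have hu4' : u ^ 4 = 1 := hu4 ▸ pow_orderOf_eq_one u
        have hx4' : x ^ 4 = 1 := hx4 ▸ pow_orderOf_eq_one x
        have e3 : u ^ (((i : ℕ) + 4 - i') % 4) = x ^ (((j' : ℕ) + 4 - j) % 4) := by
          rw [← pow_eq_pow_mod _ hu4', ← pow_eq_pow_mod _ hx4']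
          have h1 : u ^ (4 - (i' : ℕ)) * u ^ (i' : ℕ) = 1 := by rw [← pow_add, Nat.sub_add_cancel (by omega), hu4']
          have h2 : x ^ (j : ℕ) * x ^ (4 - (j : ℕ)) = 1 := by rw [← pow_add, show (j : ℕ) + (4 - j) = 4 by omega, hx4']
          calc u ^ ((i : ℕ) + 4 - i') = u ^ (4 - (i' : ℕ)) * u ^ (i : ℕ) * (x ^ (j : ℕ) * x ^ (4 - (j : ℕ))) := by
                rw [h2, mul_one, ← pow_add]; congr 1; omega
            _ = u ^ (4 - (i' : ℕ)) * (u ^ (i' : ℕ) * x ^ (j' : ℕ)) * x ^ (4 - (j : ℕ)) := by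
                rw [← e']; group
            _ = x ^ ((j' : ℕ) + 4 - j) := by
                rw [← mul_assoc, h1, one_mul, ← pow_add]; congr 1; omega
        have hi0 := hinter _ (Nat.mod_lt _ (by norm_num)) _ (Nat.mod_lt _ (by norm_num)) e3
        have hii : i = i' := Fin.ext (by omega)
        subst hii
        have hj := mul_left_cancel e'
        rw [pow_eq_pow_iff_modEq, hx4] at hj
        have := Nat.ModEq.eq_of_lt_of_lt hj j.2 j'.2
        exact Prod.ext rfl (Fin.ext this)
      have := Nat.card_le_card_of_injective f hf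
      rw [hV8, Nat.card_eq_fintype_card] at this
      simp at this
    have hzR : ∀ r ∈ R, r * (x * x) = (x * x) * r := fun r hr => by
      have h1 := huniq (r * x * r⁻¹) ⟨R.mul_mem (R.mul_mem hr hx.1) (R.inv_mem hr),
        conj_mem_centralizer (hRN hr) hx.2⟩ (by rw [orderOf_conj, hx4])
      calc r * (x * x) = (r * x * r⁻¹) * (r * x * r⁻¹) * r := by group
        _ = (x * x) * r := by rw [h1]
    refine key _ (mul_mem hx hx) (fun e => ?_) hzR ?_
    · have := hx4 ▸ orderOf_dvd_of_pow_eq_one (x := x) (n := 2) (by rw [pow_two]; exact e)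
      norm_num at this
    · rw [show s * (x * x) * s⁻¹ = (s * x * s⁻¹) * (s * x * s⁻¹) by group]
      exact hsq _ (hRN (hsR x hx.1))

end Cfsg.Agent.Order95040
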