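/-
The elements of order 11 of a simple group of order 95040.

Main results (namespace `Cfsg.Agent.Order95040`): `card_sylow_eleven`, `eleven_data`,
`card_centralizer_eleven`, `isConj_pow_eleven`, `not_isConj_inv_eleven`, `orderOf_dvd_eleven`.
-/
import Cfsg.Agent.Lib.Order95040.Case540

set_option autoImplicit false

namespace Cfsg.Agent.Order95040

open Subgroup SmallOrders

variable {G : Type*} [Group G] [Finite G] [IsSimpleGroup G]

theorem card_sylow_eleven (h : Nat.card G = 95040) {a : G} (ha : orderOf a = 11) :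
    Nat.card (Sylow 11 G) = 1728 ∧ Nat.card (centralizer ({a} : Set G)) = 11 ∧
      Nat.card (nz a) = 55 ∧ centralizer ({a} : Set G) ≤ nz a := by
  obtain ⟨j, c, hj1, hj10, hc, hCj, hle, hN, hk⟩ := normalizer_data h ha
  obtain ⟨P⟩ := (inferInstance : Nonempty (Sylow 11 G))
  have hdm : Nat.card (Sylow 11 G) ∣ 8640 :=
    index_sylow (e := 1) (m := 8640) (by rw [h]; norm_num) (by norm_num) P ▸ P.card_dvd_index
  have hmod : Nat.card (Sylow 11 G) % 11 = 1 := card_sylow_modEq_one 11 G
  have hone := one_lt_card_sylow (not_comm h) (p := 11) (by rw [h]; norm_num)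
  have hd : ∀ u < 93, ∀ r < 93, 8640 % (93 * u + r) ≠ 0 ∨ (93 * u + r) % 11 ≠ 1 ∨
      93 * u + r = 1 ∨ 93 * u + r = 12 ∨ 93 * u + r = 45 ∨ 93 * u + r = 144 ∨
      93 * u + r = 320 ∨ 93 * u + r = 540 ∨ 93 * u + r = 1728 := by decide +kernel
  have := hd (Nat.card (Sylow 11 G) / 93)
    (by have := Nat.le_of_dvd (by norm_num) hdm; omega) (Nat.card (Sylow 11 G) % 93) (by omega)
  rw [Nat.div_add_mod] at this
  have hmz := Nat.mod_eq_zero_of_dvd hdm
  have hj : j = 2 ∨ j = 5 ∨ j = 10 := by
    have := Nat.le_of_dvd (by norm_num) hj10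
    interval_cases j <;> simp_all
  rcases this with e | e | e | e | e | e | e | e | e
  · omega
  · omega
  · omega
  · -- 12
    have h1 := hk 1 e
    rw [show Nat.card (alternatingGroup (Fin 1)) = 1 from Nat.card_unique, Nat.dvd_one] at h1
    subst h1
    rw [e] at hN
    rcases hj with rfl | rfl | rfl <;> omega
  · have h1 := hk 4 e
    rw [show Nat.card (alternatingGroup (Fin 4)) = 12 by rw [card_alternatingGroup_fin]; rfl] at h1
    have := Nat.le_of_dvd (by norm_num) h1
    rw [e] at hN
    rcases hj with rfl | rfl | rfl <;> omega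
  · exfalso
    rw [e] at hN
    have hN' : Nat.card (nz a) = 660 := by omega
    rw [hN'] at hCj
    rcases hj with rfl | rfl | rfl
    · exact false_of_thirty h ha (by omega)
    · exact false_of_twelve h ha hN' (by omega) hle
    · exact false_of_six h ha hN' (by omega)
  · rw [e] at hN
    rcases hj with rfl | rfl | rfl <;> omega
  · exfalso
    rw [e] at hN
    rcases hj with rfl | rfl | rfl
    · exact false_of_eightyeight h ha (by omega) (by omega) hle
    · omega
    · omega
  · rw [e] at hN
    rcases hj with rfl | rfl | rfl <;> (refine ⟨e, ?_, ?_, hle⟩ <;> omega)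

theorem card_centralizer_eleven (h : Nat.card G = 95040) {a : G} (ha : orderOf a = 11) :
    Nat.card (centralizer ({a} : Set G)) = 11 :=
  (card_sylow_eleven h ha).2.1

theorem orderOf_dvd_eleven (h : Nat.card G = 95040) {a g : G} (ha : orderOf a = 11)
    (hc : g * a = a * g) : orderOf g ∣ 11 :=
  orderOf_dvd_of_centralizer (card_centralizer_eleven h ha) hc

theorem isConj_pow_eleven (h : Nat.card G = 95040) {a : G}
    (ha : orderOf a = 11) {k : ℕ} (hk : k = 1 ∨ k = 3 ∨ k = 4 ∨ k = 5 ∨ k = 9) :
    IsConj a (a ^ k) := by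
  obtain ⟨-, hC, hN, hle⟩ := card_sylow_eleven h ha
  refine Order7920.isConj_pow_of_card ha (j := 5) (fun g hg => conj_mem_zpowers hg) hle
    (by rw [hC, hN]) (by rw [hN]; decide +kernel) ?_ (by omega)
  rw [hN]
  rcases hk with rfl | rfl | rfl | rfl | rfl <;> decide +kernel

theorem not_isConj_inv_eleven (h : Nat.card G = 95040) {a : G} (ha : orderOf a = 11) :
    ¬ IsConj a a⁻¹ := by
  intro hc
  obtain ⟨g, hg⟩ := isConj_iff.mp hc
  obtain ⟨-, -, hN, -⟩ := card_sylow_eleven h ha
  have h10 : a⁻¹ = a ^ 10 := by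
    refine inv_eq_of_mul_eq_one_left ?_
    rw [← pow_succ, show 10 + 1 = orderOf a from ha.symm, pow_orderOf_eq_one]
  have hgN : g ∈ nz a := mem_nz (by rw [hg]; exact inv_mem (mem_zpowers a))
  have h' := Order7920.conj_pow_iterate (hg.trans h10) 55
  rw [show g ^ 55 = 1 by rw [← hN]; exact orderOf_dvd_iff_pow_eq_one.mp (orderOf_dvd_natCard _ hgN),
    one_mul, inv_one, mul_one] at h'
  have h'' : a ^ 1 = a ^ (10 ^ 55) := by rw [pow_one]; exact h'
  rw [pow_eq_pow_iff_modEq, ha] at h''
  revert h''
  decide +kernel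

/-- A subgroup of index at most 10 is the whole group. -/
theorem eq_top_of_index_le (h : Nat.card G = 95040) {H : Subgroup G} (hi : H.index ≤ 10) :
    H = ⊤ := by
  by_contra hne
  have hd := (two_mul_card_dvd_factorial_index (not_comm h) hne).trans
    (Nat.factorial_dvd_factorial hi)
  rw [h] at hd
  have h11 : 11 ∣ Nat.factorial 10 := (by norm_num : 11 ∣ 2 * 95040).trans hd
  revert h11
  decide +kernel

end Cfsg.Agent.Order95040
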