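/-
The elements of order 5 of a simple group of order 95040: local facts.

Main results (namespace `Cfsg.Agent.Order95040`): `five_cases`, `no_centralizer_135`,
`exists_three_of_45`, `not_isConj_sq_of_45`.
-/
import Cfsg.Agent.Lib.Order95040.Eleven
import Cfsg.Agent.Lib.Order95040.Check

set_option autoImplicit false

namespace Cfsg.Agent.Order95040

open Subgroup SmallOrders

instance fact_five : Fact (Nat.Prime 5) := ⟨by norm_num⟩

variable {G : Type*} [Group G] [Finite G]

theorem card_sylow_subgroup_five (h : Nat.card G = 95040) (P : Sylow 5 G) :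
    Nat.card (P : Subgroup G) = 5 := by
  rw [card_sylow_subgroup (p := 5) (e := 1) (m := 19008) (by rw [h]; norm_num) (by norm_num) P, pow_one]

/-- The subgroup of `q`-elements of `C(w)` when the order of `C(w)` is `5 q^e`. -/
theorem exists_core {w : G} (hw : orderOf w = 5) {q e : ℕ} [Fact q.Prime] (hq : q ≠ 5)
    (hC : Nat.card (centralizer ({w} : Set G)) = q ^ e * 5) :
    ∃ T : Subgroup G, Nat.card T = q ^ e ∧ T ≤ centralizer ({w} : Set G) ∧
      (∀ x ∈ centralizer ({w} : Set G), orderOf x ∣ q ^ e → x ∈ T) ∧ nz w ≤ normalizer (T : Set G) := by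
  have hqp : q.Prime := Fact.out
  set C := centralizer ({w} : Set G)
  have h5 : ¬ q ∣ 5 := fun hd => hq ((Nat.prime_dvd_prime_iff_eq hqp (by norm_num)).mp hd)
  obtain ⟨Q⟩ := (inferInstance : Nonempty (Sylow q C))
  have hQ : ∀ R : Sylow q C, Nat.card (R : Subgroup C) = q ^ e := card_sylow_subgroup hC h5
  have hu : Nat.card (Sylow q C) = 1 := by
    have hd := dvd_sylow_normalizer (a := (⟨w, SmallOrders.mem_centralizer_self w⟩ : C)) (p := 5)
      (by rw [Subgroup.orderOf_mk, hw])
      (fun g => Subtype.ext (mem_centralizer_singleton_iff.mp g.2))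
      ((Nat.coprime_primes (by norm_num) hqp).mpr hq.symm) Q
    rw [hQ] at hd
    have h1 := card_normalizer_mul_card_sylow Q
    rw [hC] at h1
    have h2 := Nat.le_antisymm (Nat.le_of_dvd (by
      have := pow_pos hqp.pos e; omega) (by
        have h3 := card_subgroup_dvd_card (normalizer ((Q : Subgroup C) : Set C))
        rw [hC] at h3
        rwa [mul_comm] at h3)) (Nat.le_of_dvd Nat.card_pos hd)
    rw [h2] at h1
    have := pow_pos hqp.pos e
    exact Nat.eq_of_mul_eq_mul_left (show 0 < 5 * q ^ e by omega)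
      (by rw [mul_one, h1, mul_comm])
  have := (Nat.card_eq_one_iff_unique.mp hu).1
  refine ⟨(Q : Subgroup C).map C.subtype, by rw [card_map_of_injective (subtype_injective _), hQ],
    map_subtype_le _, fun x hx hxo => ?_, ?_⟩
  · obtain ⟨i, -, hi⟩ := (Nat.dvd_prime_pow hqp).mp hxo
    obtain ⟨R, hR⟩ := (IsPGroup.of_card (n := i) (show Nat.card (zpowers (⟨x, hx⟩ : C)) = q ^ i by
      rw [Nat.card_zpowers, Subgroup.orderOf_mk, hi])).exists_le_sylow
    exact ⟨⟨x, hx⟩, Subsingleton.elim R Q ▸ hR (mem_zpowers _), rfl⟩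
  · intro g hg
    refine mem_normalizer_fintype fun x hx => ?_
    obtain ⟨x', hx', rfl⟩ := hx
    have hmem : g * (x' : G) * g⁻¹ ∈ C := conj_mem_centralizer hg x'.2
    obtain ⟨i, -, hi⟩ := (Nat.dvd_prime_pow hqp).mp
      (show orderOf x' ∣ q ^ e by
        have := orderOf_dvd_natCard _ hx'
        rwa [hQ] at this)
    obtain ⟨R, hR⟩ := (IsPGroup.of_card (n := i) (show Nat.card (zpowers (⟨_, hmem⟩ : C)) = q ^ i by
      rw [Nat.card_zpowers, Subgroup.orderOf_mk, orderOf_conj, orderOf_coe, hi])).exists_le_sylow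
    exact ⟨⟨_, hmem⟩, Subsingleton.elim R Q ▸ hR (mem_zpowers _), rfl⟩

variable [IsSimpleGroup G]

theorem not_eleven_dvd_centralizer (h : Nat.card G = 95040) {u : G} (hu : u ≠ 1)
    (hu11 : orderOf u ≠ 11) : ¬ 11 ∣ Nat.card (centralizer ({u} : Set G)) := fun hd => by
  obtain ⟨⟨b, hb⟩, hbo⟩ := exists_prime_orderOf_dvd_card' 11 hd
  rw [Subgroup.orderOf_mk] at hbo
  rcases (Nat.dvd_prime (by norm_num)).mp
    (orderOf_dvd_eleven h hbo (mem_centralizer_singleton_iff.mp hb).symm) with e | e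
  · exact hu (orderOf_eq_one_iff.mp e)
  · exact hu11 e

/-- A `3`-subgroup `T` has no element of order 11 in its normaliser when `|T| ≢ 1 (mod 11)`. -/
theorem not_eleven_dvd_normalizer (h : Nat.card G = 95040) {T : Subgroup G}
    (hT : Nat.card T % 11 ≠ 1) (hT3 : Nat.card T ∣ 27) :
    ¬ 11 ∣ Nat.card (normalizer (T : Set G)) := fun hd => by
  obtain ⟨⟨b, hb⟩, hbo⟩ := exists_prime_orderOf_dvd_card' 11 hd
  rw [Subgroup.orderOf_mk] at hbo
  have hm := card_modEq_commute hbo (T : Set G) (fun g hg => (mem_normalizer_iff.mp hb g).mp hg)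
  refine hT ?_
  rw [show Nat.card {g : G // g ∈ (T : Set G) ∧ b * g = g * b} = 1 from
    Nat.card_eq_one_iff_unique.mpr ⟨⟨fun x y => by
      have hx : ∀ z : {g : G // g ∈ (T : Set G) ∧ b * g = g * b}, (z : G) = 1 := fun z => by
        refine orderOf_eq_one_iff.mp (Nat.eq_one_of_dvd_coprimes (by norm_num : Nat.Coprime 27 11)
          ((orderOf_dvd_natCard T z.2.1).trans hT3) (orderOf_dvd_eleven h hbo z.2.2.symm))
      exact Subtype.ext ((hx x).trans (hx y).symm)⟩, ⟨⟨1, T.one_mem, by simp⟩⟩⟩] at hm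
  exact hm

/-- The cases for an element of order 5. -/
theorem five_cases (h : Nat.card G = 95040) {w : G} (hw : orderOf w = 5) :
    ∃ C j, Nat.card (centralizer ({w} : Set G)) = C ∧ Nat.card (nz w) = C * j ∧ (j = 2 ∨ j = 4) ∧
      centralizer ({w} : Set G) ≤ nz w ∧
      ((2 ∣ C ∧ (C : ℤ) ∈ fiveOrders) ∨ (C = 135 ∧ j = 4) ∨ (C = 45 ∧ j = 2)) := by
  obtain ⟨P, hP⟩ := exists_sylow_eq_zpowers (card_sylow_subgroup_five h) hw
  obtain ⟨j, hj1, hj4, hCj, -, hle⟩ := exists_card_centralizer_mul (not_comm h) hw P hP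
  rw [hP] at hCj hle
  have hj : j = 2 ∨ j = 4 := by
    have := Nat.le_of_dvd (by norm_num) hj4
    interval_cases j <;> simp_all
  refine ⟨_, j, rfl, hCj.symm, hj, hle, ?_⟩
  have hN := card_normalizer_mul_card_sylow P
  rw [hP, h] at hN
  obtain ⟨a, ha⟩ := exists_prime_orderOf_dvd_card' (G := G) 11 (by rw [h]; norm_num)
  have hm := card_modEq_commute ha {g : G | orderOf g = 5} (fun g hg => by
    show orderOf _ = 5
    rw [orderOf_conj]; exact hg)
  rw [show Nat.card {g : G | orderOf g = 5} = Nat.card (Sylow 5 G) * (5 - 1) from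
    card_orderOf_eq_prime (card_sylow_subgroup_five h),
    show Nat.card {g : G // g ∈ {g : G | orderOf g = 5} ∧ a * g = g * a} = 0 from
      Nat.card_eq_zero.mpr (Or.inl ⟨fun g => by
        have hd := orderOf_dvd_eleven h ha g.2.2.symm
        rw [show orderOf (g : G) = 5 from g.2.1] at hd
        norm_num at hd⟩)] at hm
  have h11 : 11 ∣ Nat.card (Sylow 5 G) :=
    (by norm_num : Nat.Coprime 11 4).dvd_of_dvd_mul_right (Nat.modEq_zero_iff_dvd.mp hm)
  obtain ⟨k, hk⟩ := h11
  have hdvd : Nat.card (Sylow 5 G) ∣ 19008 :=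
    index_sylow (e := 1) (m := 19008) (by rw [h]; norm_num) (by norm_num) P ▸ P.card_dvd_index
  have hk' : k ∣ 1728 := Nat.dvd_of_mul_dvd_mul_left (show 0 < 11 by norm_num) (hk ▸ hdvd)
  have hmod : Nat.card (Sylow 5 G) % 5 = 1 := card_sylow_modEq_one 5 G
  have hd : ∀ u < 42, ∀ r < 42, 1728 % (42 * u + r) ≠ 0 ∨ (11 * (42 * u + r)) % 5 ≠ 1 ∨
      42 * u + r = 1 ∨ 42 * u + r = 6 ∨ 42 * u + r = 16 ∨ 42 * u + r = 36 ∨ 42 * u + r = 96 ∨
      42 * u + r = 216 ∨ 42 * u + r = 576 := by decide +kernel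
  have hkle := Nat.le_of_dvd (by norm_num) hk'
  have hkz := Nat.mod_eq_zero_of_dvd hk'
  have hcases := hd (k / 42) (by omega) (k % 42) (by omega)
  rw [Nat.div_add_mod] at hcases
  rw [hk] at hN hmod
  rw [← hCj] at hN
  rcases hcases with e | e | e
  · exact absurd hkz e
  · exact absurd hmod e
  generalize Nat.card (centralizer ({w} : Set G)) = C at hN ⊢
  rcases hj with rfl | rfl <;> rcases e with rfl | rfl | rfl | rfl | rfl | rfl | rfl
  all_goals
    first
      | omega
      | (refine Or.inr ?_; omega)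
      | (refine Or.inl ⟨by omega, ?_⟩
         simp only [fiveOrders, List.mem_cons, List.not_mem_nil, or_false]; omega)

theorem no_centralizer_135 (h : Nat.card G = 95040) {w : G} (hw : orderOf w = 5)
    (hC : Nat.card (centralizer ({w} : Set G)) = 135) (hN : Nat.card (nz w) = 540) : False := by
  have : Fact (Nat.Prime 3) := ⟨Nat.prime_three⟩
  obtain ⟨T, hT, -, -, hTN⟩ := exists_core hw (q := 3) (e := 3) (by norm_num) (by rw [hC]; norm_num)
  set M := normalizer (T : Set G)
  obtain ⟨m, hm, hm5, -⟩ := card_inf_normalizer_mul (p := 5) hw (by rw [h]; norm_num) M (hTN (self_mem_nz w))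
  rw [show Nat.card ↥(M ⊓ normalizer ((zpowers w : Subgroup G) : Set G)) = 540 by
    rw [inf_eq_right.mpr hTN, hN]] at hm
  have h11 := not_eleven_dvd_normalizer h (T := T) (by rw [hT]; norm_num) (by rw [hT]; norm_num)
  rw [show Nat.card (normalizer (T : Set G)) = 540 * m from hm.symm] at h11
  have hdvd : 540 * m ∣ 540 * 176 := by
    rw [hm, show 540 * 176 = 95040 by norm_num, ← h]; exact card_subgroup_dvd_card M
  have hd : m ∣ 16 :=
    (Nat.Coprime.dvd_of_dvd_mul_left
      ((Nat.Prime.coprime_iff_not_dvd (by norm_num : Nat.Prime 11)).mpr fun e => h11 (e.mul_left _)).symm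
      (show m ∣ 11 * 16 from Nat.dvd_of_mul_dvd_mul_left (show 0 < 540 by norm_num) hdvd))
  obtain ⟨S, hS⟩ : ∃ S : Sylow 3 G, (S : Subgroup G) = T := by
    obtain ⟨S, hS⟩ := (IsPGroup.of_card (n := 3) hT).exists_le_sylow
    exact ⟨S, (eq_of_le_of_card_ge hS (by
      rw [hT, card_sylow_subgroup (p := 3) (e := 3) (m := 3520) (by rw [h]; norm_num) (by norm_num) S])).symm⟩
  have hn := card_normalizer_mul_card_sylow S
  rw [hS, show Nat.card (normalizer (T : Set G)) = 540 * m from hm.symm, h] at hn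
  have h3 : Nat.card (Sylow 3 G) % 3 = 1 := card_sylow_modEq_one 3 G
  have hcases : ∀ m < 17, m ∣ 16 → m % 5 = 1 → m = 1 ∨ m = 16 := by decide +kernel
  rcases hcases m (Nat.lt_succ_of_le (Nat.le_of_dvd (by norm_num) hd)) hd hm5 with rfl | rfl <;> omega

theorem exists_three_of_45 (h : Nat.card G = 95040) {w : G} (hw : orderOf w = 5)
    (hC : Nat.card (centralizer ({w} : Set G)) = 45) (hN : Nat.card (nz w) = 90)
    (hle : centralizer ({w} : Set G) ≤ nz w) :
    ∃ u : G, orderOf u = 3 ∧ 540 ∣ Nat.card (centralizer ({u} : Set G)) ∧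
      ¬ 11 ∣ Nat.card (centralizer ({u} : Set G)) := by
  have : Fact (Nat.Prime 3) := ⟨Nat.prime_three⟩
  obtain ⟨R, hR, hRC, hRmem, hRN⟩ := exists_core hw (q := 3) (e := 2) (by norm_num) (by rw [hC]; norm_num)
  set M := normalizer (R : Set G)
  obtain ⟨m, hm, hm5, hms⟩ := card_inf_normalizer_mul (p := 5) hw (by rw [h]; norm_num) M (hRN (self_mem_nz w))
  rw [show Nat.card ↥(M ⊓ normalizer ((zpowers w : Subgroup G) : Set G)) = 90 by
    rw [inf_eq_right.mpr hRN, hN]] at hm
  have h11 := not_eleven_dvd_normalizer h (T := R) (by rw [hR]; norm_num) (by rw [hR]; norm_num)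
  rw [show Nat.card (normalizer (R : Set G)) = 90 * m from hm.symm] at h11
  have h96 : m ∣ 96 :=
    (Nat.Coprime.dvd_of_dvd_mul_left
      ((Nat.Prime.coprime_iff_not_dvd (by norm_num : Nat.Prime 11)).mpr fun e => h11 (e.mul_left _)).symm
      (show m ∣ 11 * 96 from Nat.dvd_of_mul_dvd_mul_left (show 0 < 90 by norm_num) (by
        rw [hm, show 90 * (11 * 96) = 95040 by norm_num, ← h]; exact card_subgroup_dvd_card M)))
  -- a Sylow 3-subgroup normalises `R`
  obtain ⟨T, hT⟩ := (IsPGroup.of_card (n := 2) hR).exists_le_sylow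
  have hT27 : Nat.card (T : Subgroup G) = 27 :=
    card_sylow_subgroup (p := 3) (e := 3) (m := 3520) (by rw [h]; norm_num) (by norm_num) T
  have hTM : (T : Subgroup G) ≤ M := by
    have hidx : (R.subgroupOf (T : Subgroup G)).index = 3 := by
      have := (R.subgroupOf (T : Subgroup G)).card_mul_index
      rw [Nat.card_congr (subgroupOfEquivOfLe hT).toEquiv, hR, hT27] at this
      omega
    have hn : (R.subgroupOf (T : Subgroup G)).Normal :=
      normal_of_index_eq_minFac_card (by rw [hidx, hT27]; norm_num)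
    exact (normal_subgroupOf_iff_le_normalizer hT).mp hn
  have h27 : 27 ∣ 90 * m := hm ▸ hT27 ▸ card_dvd_of_le hTM
  have hm6 : m = 6 ∨ m = 96 := by
    have hcases : ∀ m < 97, m ∣ 96 → m % 5 = 1 → 27 ∣ 90 * m → m = 6 ∨ m = 96 := by decide +kernel
    exact hcases m (Nat.lt_succ_of_le (Nat.le_of_dvd (by norm_num) h96)) h96 hm5 h27
  -- `R` is centralised by `C(w)`
  have hRab : IsMulCommutative R :=
    IsPGroup.isMulCommutative_of_card_eq_prime_sq (p := 3) hR
  set D := centralizer (R : Set G)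
  have hwD : w ∈ D := mem_centralizer_iff.mpr fun x hx => mem_centralizer_singleton_iff.mp (hRC hx)
  have hRD : R ≤ D := fun x hx => mem_centralizer_iff.mpr fun y hy =>
    congrArg Subtype.val (mul_comm' (⟨y, hy⟩ : R) ⟨x, hx⟩)
  have hCD : centralizer ({w} : Set G) ≤ D := by
    have h45 : 45 ∣ Nat.card ↥(D ⊓ centralizer ({w} : Set G)) := Nat.Coprime.mul_dvd_of_dvd_of_dvd
      (by norm_num : Nat.Coprime 9 5) (by have h9 := card_dvd_of_le (le_inf hRD hRC); rw [hR] at h9; exact h9)
      (hw ▸ orderOf_dvd_natCard _ (show w ∈ D ⊓ centralizer ({w} : Set G) from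
        ⟨hwD, SmallOrders.mem_centralizer_self w⟩))
    exact (eq_of_le_of_card_ge inf_le_right (by rw [hC]; exact Nat.le_of_dvd Nat.card_pos h45)).ge.trans
      inf_le_left
  have hDM : D ≤ M := centralizer_le_normalizer _
  have hDn : ∀ g ∈ M, ∀ d ∈ D, g * d * g⁻¹ ∈ D := fun g hg d hd => mem_centralizer_iff.mpr fun x hx => by
    have hx' : g⁻¹ * x * g ∈ R := by
      simpa using (mem_normalizer_iff.mp (inv_mem hg) x).mp hx
    calc x * (g * d * g⁻¹) = g * ((g⁻¹ * x * g) * d) * g⁻¹ := by group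
      _ = g * (d * (g⁻¹ * x * g)) * g⁻¹ := by rw [mem_centralizer_iff.mp hd _ hx']
      _ = g * d * g⁻¹ * x := by group
  obtain ⟨d, hd⟩ : ∃ d, Nat.card ↥(D ⊓ nz w) = d := ⟨_, rfl⟩
  obtain ⟨m', hm', -, hms'⟩ := card_inf_normalizer_mul (p := 5) hw (by rw [h]; norm_num) D hwD
  rw [hd] at hm'
  have hM5 : ∀ H : Subgroup G, w ∈ H → ∀ Q : Sylow 5 H, Nat.card (Q : Subgroup H) = 5 := by
    intro H hwH Q
    obtain ⟨k, hk⟩ := Q.isPGroup'.exists_card_eq
    have h1 : Nat.card (Q : Subgroup H) ∣ Nat.card G :=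
      (card_subgroup_dvd_card _).trans (card_subgroup_dvd_card H)
    have h2 : 5 ∣ Nat.card (Q : Subgroup H) := Q.dvd_card_of_dvd_card (hw ▸ orderOf_dvd_natCard _ hwH)
    rw [hk, h] at h1
    rw [hk] at h2 ⊢
    have : k ≠ 0 := fun h0 => by rw [h0] at h2; norm_num at h2
    have : k < 2 := by
      by_contra hk2
      exact absurd ((pow_dvd_pow 5 (show 2 ≤ k by omega)).trans h1) (by norm_num)
    rw [show k = 1 by omega, pow_one]
  have heq : m' = m := by
    have e1 := card_orderOf_eq_prime (hM5 D hwD)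
    have e2 := card_orderOf_eq_prime (hM5 M (hRN (self_mem_nz w)))
    rw [hms'] at e1
    rw [hms] at e2
    have : Nat.card {g : D // orderOf g = 5} = Nat.card {g : M // orderOf g = 5} := by
      refine Nat.card_congr
        { toFun := fun g => ⟨⟨g.1, hDM g.1.2⟩, by rw [Subgroup.orderOf_mk, orderOf_coe]; exact g.2⟩
          invFun := fun g => ⟨⟨g.1, ?_⟩, by rw [Subgroup.orderOf_mk, orderOf_coe]; exact g.2⟩
          left_inv := fun g => rfl
          right_inv := fun g => rfl }
      obtain ⟨Q, hQ⟩ := exists_sylow_eq_zpowers (hM5 M (hRN (self_mem_nz w))) g.2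
      obtain ⟨P, hP⟩ := exists_sylow_eq_zpowers (hM5 M (hRN (self_mem_nz w)))
        (g := (⟨w, hRN (self_mem_nz w)⟩ : M)) (by rw [Subgroup.orderOf_mk, hw])
      obtain ⟨c, hc⟩ := MulAction.exists_smul_eq M P Q
      have h1 : (g.1 : M) ∈ ((c • P : Sylow 5 M) : Subgroup M) := by
        rw [hc, hQ]; exact mem_zpowers _
      rw [Sylow.coe_subgroup_smul, hP, mem_smul_pointwise_iff_exists] at h1
      obtain ⟨y, hy, hy'⟩ := h1
      obtain ⟨i, rfl⟩ := mem_zpowers_iff.mp hy
      rw [← hy']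
      show (c : G) * ((⟨w, _⟩ : M) ^ i : M) * (c : G)⁻¹ ∈ D
      simpa using hDn _ c.2 _ (zpow_mem hwD i)
    omega
  rw [heq] at hm'
  have hd45 : 45 ∣ d := hd ▸ hC ▸ card_dvd_of_le (le_inf hCD hle)
  have hd90 : d ∣ 90 := hd ▸ hN ▸ card_dvd_of_le inf_le_right
  have h540 : 540 ∣ Nat.card D := by
    rw [← hm']
    have hcases : ∀ d < 91, d ∣ 90 → 45 ∣ d → d = 45 ∨ d = 90 := by decide +kernel
    rcases hcases d (Nat.lt_succ_of_le (Nat.le_of_dvd (by norm_num) hd90)) hd90 hd45 with rfl | rfl <;>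
      rcases hm6 with rfl | rfl
    · exfalso
      -- a group of order 270 with six Sylow 5-subgroups
      obtain ⟨P, hP⟩ := exists_sylow_eq_zpowers (hM5 D hwD) (g := (⟨w, hwD⟩ : D))
        (by rw [Subgroup.orderOf_mk, hw])
      have heqC : D ⊓ nz w = centralizer ({w} : Set G) :=
        (eq_of_le_of_card_ge (le_inf hCD hle) (by rw [hd, hC])).symm
      have hCQ : normalizer ((P : Subgroup D) : Set D) ≤ centralizer ((P : Subgroup D) : Set D) := by
        intro g hg
        rw [hP, centralizer_zpowers, mem_centralizer_singleton_iff]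
        have h1 := (mem_normalizer_iff.mp hg ⟨w, hwD⟩).mp (by rw [hP]; exact mem_zpowers _)
        rw [show ((P : Subgroup D)) = zpowers _ from hP, mem_zpowers_iff] at h1
        obtain ⟨i, hi⟩ := h1
        have hgN : (g : G) ∈ D ⊓ nz w :=
          ⟨g.2, mem_nz (mem_zpowers_iff.mpr ⟨i, by simpa using congrArg Subtype.val hi⟩)⟩
        rw [heqC] at hgN
        exact Subtype.ext (mem_centralizer_singleton_iff.mp hgN)
      have hK := MonoidHom.ker_transferSylow_isComplement' P hCQ
      set φ := MonoidHom.transferSylow P hCQ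
      have hK54 : Nat.card φ.ker = 54 := by
        have h1 := hK.card_mul_card
        rw [hM5 D hwD, ← hm'] at h1
        omega
      have hn3 : Nat.card (Sylow 3 φ.ker) = 1 := by
        obtain ⟨Q⟩ := (inferInstance : Nonempty (Sylow 3 φ.ker))
        have hd2 : Nat.card (Sylow 3 φ.ker) ∣ 2 :=
          index_sylow (e := 3) (m := 2) (by rw [hK54]; norm_num) (by norm_num) Q ▸ Q.card_dvd_index
        have h3 : Nat.card (Sylow 3 φ.ker) % 3 = 1 := card_sylow_modEq_one 3 _
        have := Nat.le_of_dvd (by norm_num) hd2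
        omega
      have := (Nat.card_eq_one_iff_unique.mp hn3).1
      obtain ⟨Q⟩ := (inferInstance : Nonempty (Sylow 3 φ.ker))
      set T' := ((Q : Subgroup φ.ker).map φ.ker.subtype).map D.subtype
      have hT' : Nat.card T' = 27 := by
        rw [card_map_of_injective (subtype_injective _), card_map_of_injective (subtype_injective _),
          card_sylow_subgroup (e := 3) (m := 2) (by rw [hK54]; norm_num) (by norm_num) Q]
        norm_num
      have hT'mem : ∀ x ∈ D, orderOf x ∣ 27 → x ∈ T' := by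
        intro x hx hxo
        have hxk : (⟨x, hx⟩ : D) ∈ φ.ker := by
          rw [MonoidHom.mem_ker]
          refine orderOf_eq_one_iff.mp (Nat.eq_one_of_dvd_coprimes (by norm_num : Nat.Coprime 27 5) ?_ ?_)
          · exact ((orderOf_map_dvd φ _).trans (by rw [Subgroup.orderOf_mk])).trans hxo
          · exact (_root_.orderOf_dvd_natCard _).trans (dvd_of_eq (hM5 D hwD P))
        obtain ⟨i, -, hxi⟩ := (Nat.dvd_prime_pow Nat.prime_three).mp (show orderOf x ∣ 3 ^ 3 from hxo)
        obtain ⟨U, hU⟩ := (IsPGroup.of_card (n := i)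
          (show Nat.card (zpowers (⟨⟨x, hx⟩, hxk⟩ : φ.ker)) = 3 ^ i by
            rw [Nat.card_zpowers, Subgroup.orderOf_mk, Subgroup.orderOf_mk, hxi])).exists_le_sylow
        exact ⟨⟨x, hx⟩, ⟨⟨⟨x, hx⟩, hxk⟩, Subsingleton.elim U Q ▸ hU (mem_zpowers _), rfl⟩, rfl⟩
      have hinv : ∀ g ∈ (T' : Set G), w * g * w⁻¹ ∈ (T' : Set G) := fun g hg => by
        obtain ⟨g', -, rfl⟩ := id hg
        exact hT'mem _ (hDn w (hRN (self_mem_nz w)) _ g'.2) (by
          rw [orderOf_conj]; exact hT' ▸ orderOf_dvd_natCard T' hg)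
      have hmc := card_modEq_commute hw (T' : Set G) hinv
      rw [Nat.card_congr (α := {g : G // g ∈ (T' : Set G) ∧ w * g = g * w}) (β := R)
        { toFun := fun g => ⟨g.1, hRmem _ (mem_centralizer_singleton_iff.mpr g.2.2.symm) (by
            rcases (Nat.dvd_prime_pow Nat.prime_three).mp
              (show orderOf (g : G) ∣ 3 ^ 3 from (orderOf_dvd_natCard T' g.2.1).trans (dvd_of_eq hT')) with ⟨i, hi, e⟩
            rw [e]
            have h45 := orderOf_dvd_natCard _ (show (g : G) ∈ centralizer ({w} : Set G) from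
              mem_centralizer_singleton_iff.mpr g.2.2.symm)
            rw [e, hC] at h45
            refine pow_dvd_pow 3 ?_
            by_contra h3i
            rw [show i = 3 by omega] at h45
            norm_num at h45)⟩
          invFun := fun g => ⟨g.1, hT'mem _ (hRD g.2) ((orderOf_dvd_natCard R g.2).trans (by rw [hR]; norm_num)),
            (mem_centralizer_singleton_iff.mp (hRC g.2)).symm⟩
          left_inv := fun g => rfl
          right_inv := fun g => rfl }, hR] at hmc
      change Nat.card T' ≡ _ [MOD 5] at hmc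
      rw [hT'] at hmc
      exact absurd hmc (by decide)
    all_goals norm_num
  obtain ⟨⟨u, huR⟩, hu⟩ := exists_prime_orderOf_dvd_card' 3 (by rw [hR]; norm_num : 3 ∣ Nat.card R)
  rw [Subgroup.orderOf_mk] at hu
  refine ⟨u, hu, h540.trans (card_dvd_of_le ?_), not_eleven_dvd_centralizer h
    (fun e => by rw [e, orderOf_one] at hu; omega) (by omega)⟩
  exact fun g hg => mem_centralizer_singleton_iff.mpr (mem_centralizer_iff.mp hg u huR).symm

omit [IsSimpleGroup G] in
theorem not_isConj_sq_of_45 {w : G} (hw : orderOf w = 5)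
    (hN : Nat.card (nz w) = 90) : ¬ IsConj w (w ^ 2) ∧
      (Nat.card (centralizer ({w} : Set G)) = 45 → centralizer ({w} : Set G) ≤ nz w → IsConj w (w ^ 4)) := by
  refine ⟨fun hc => ?_, fun hC hle => ?_⟩
  · obtain ⟨g, hg⟩ := isConj_iff.mp hc
    have hgN : g ∈ nz w := mem_nz (by rw [hg]; exact pow_mem (mem_zpowers w) 2)
    have h' := Order7920.conj_pow_iterate hg 90
    rw [show g ^ 90 = 1 by rw [← hN]; exact orderOf_dvd_iff_pow_eq_one.mp (orderOf_dvd_natCard _ hgN),
      one_mul, inv_one, mul_one] at h'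
    have h'' : w ^ 1 = w ^ (2 ^ 90) := by rw [pow_one]; exact h'
    rw [pow_eq_pow_iff_modEq, hw] at h''
    revert h''
    decide +kernel
  · refine Order7920.isConj_pow_of_card hw (j := 2) (fun g hg => conj_mem_zpowers hg) hle
      (by rw [hC, hN]) (by rw [hN]; decide +kernel) (by rw [hN]; rfl) (by norm_num)

end Cfsg.Agent.Order95040
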