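/-
The principal block of a simple group of order 95040 at an element of order 11.

Main results (namespace `Cfsg.Agent.Order95040`): `Frame`, `exists_frame`, `Frame.sum_eq`,
`Frame.rest_zero`, `Frame.dvd_rest`, `Frame.powIrr_al`, `Frame.rest_sq`.
-/
import Cfsg.Agent.Lib.Order95040.Eleven
import Cfsg.Agent.Lib.Order7920.Column
import Cfsg.Agent.Lib.SmallOrders.BlockDegrees.BlockData
import Cfsg.Agent.Lib.GaloisPow.Twist

set_option autoImplicit false

open scoped ComplexConjugate

namespace Cfsg.Agent.Order95040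

open Cfsg Subgroup
open Order7920 (oneChar conjChar isChar dg_eq dg_conjChar)

variable {G : Type*} [Group G] [Finite G]

/-- The block of characters not vanishing at `a`: four signed degrees `x i`, and the signed
degree `y` of the exceptional pair. -/
structure Frame (a : G) where
  al : Fin 4 → IrrCharacter G
  e : IrrCharacter G
  x : Fin 4 → ℤ
  y : ℤ
  al_inj : Function.Injective al
  al_ne_one : ∀ i, al i ≠ oneChar G
  e_ne_one : e ≠ oneChar G
  ce_ne_one : conjChar e ≠ oneChar G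
  al_ne_e : ∀ i, al i ≠ e
  al_ne_ce : ∀ i, al i ≠ conjChar e
  e_ne_ce : e ≠ conjChar e
  deg : ∀ i, (x i).natAbs = charDegree (al i).1
  deg_e : y.natAbs = charDegree e.1
  x_mod : ∀ i, x i % 11 = 1
  x_two : ∀ i, 2 ≤ (x i).natAbs
  y_mod : y % 11 = 5
  x_mono : ∀ i j, i ≤ j → x i ≤ x j
  val : ∀ i, (al i).1 a = ((x i).sign : ℤ)
  val_e : e.1 a + conj (e.1 a) = -((y.sign : ℤ) : ℂ)
  norm_e : e.1 a * conj (e.1 a) = 3
  rel : ∀ g : G, ¬ 11 ∣ orderOf g →
    ((y.sign : ℤ) : ℂ) * e.1 g = 1 + ∑ i, ((x i).sign : ℂ) * (al i).1 g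
  e_real : ∀ g : G, ¬ 11 ∣ orderOf g → conj (e.1 g) = e.1 g
  rest_zero : ∀ χ : IrrCharacter G, χ ≠ oneChar G → (∀ i, χ ≠ al i) → χ ≠ e → χ ≠ conjChar e →
    χ.1 a = 0

theorem natCast_pos_of_charDegree (χ : IrrCharacter G) : 0 < charDegree χ.1 :=
  ClassCount.charDegree_pos χ

theorem exists_frame [IsSimpleGroup G] (h : Nat.card G = 95040) {a : G} (ha : orderOf a = 11) :
    Nonempty (Frame a) := by
  classical
  have := Fintype.ofFinite G
  have := Fintype.ofFinite (IrrCharacter G)
  obtain ⟨-, hC, hN, -⟩ := card_sylow_eleven h ha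
  obtain ⟨L, A, E, σ, ε, hS, hcK, hD⟩ := SmallOrders.BlockDegrees.exists_blockData (not_comm h)
    (p := 11) (c := 1) (e := 5) (lo := 2) (by norm_num) ha (by rw [h]; norm_num) (by rw [hC])
    (by rw [show normalizer (zpowers a : Set G) = nz a from rfl, hN]) (Or.inl le_rfl)
  have := Fintype.ofFinite (CyclicDefect.K a L)
  have hKs : Subsingleton (CyclicDefect.K a L) := (Nat.card_eq_one_iff_unique.mp hcK).1
  have hone1 : (SmallOrders.BlockDegrees.oneChar G) = oneChar G := rfl
  have hA : A.card = 4 := by have := hD.cardA; omega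
  have hE : E.card = 2 := by rw [hD.cardE]
  have hvalA : ∀ χ ∈ A, χ.1 a = σ χ := fun χ hχ => by simpa using hD.valA χ hχ 1
  have hvalE : ∑ χ ∈ E, χ.1 a = -(ε : ℂ) := by simpa using hD.valE 1
  have hrest : ∀ χ : IrrCharacter G, χ ≠ oneChar G → χ ∉ A → χ ∉ E → χ.1 a = 0 := by
    intro χ h1 h2 h3
    have := hD.other χ (hone1 ▸ h1) h2 h3
    rwa [Fintype.sum_subsingleton _ (1 : CyclicDefect.K a L), OneMemClass.coe_one,
      OneMemClass.coe_one, mul_one] at this
  -- a non-real character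
  have hinv : ∀ χ : IrrCharacter G, χ.1 a⁻¹ = conj (χ.1 a) :=
    fun χ => Char.IsCharacter.apply_inv (isChar χ) a
  obtain ⟨e, he⟩ : ∃ e : IrrCharacter G, conj (e.1 a) ≠ e.1 a := by
    by_contra! hall
    refine not_isConj_inv_eleven h ha ((Char.isConj_iff_irr _ _).mpr fun χ => ?_)
    rw [hinv, hall]
  have hσr : ∀ χ ∈ A, conj (χ.1 a) = χ.1 a := fun χ hχ => by rw [hvalA χ hχ, map_intCast]
  have memE : ∀ χ : IrrCharacter G, conj (χ.1 a) ≠ χ.1 a → χ ∈ E := fun χ hχ => by
    by_contra h3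
    by_cases h1 : χ = oneChar G
    · exact hχ (by rw [h1]; simp [Order7920.oneChar])
    by_cases h2 : χ ∈ A
    · exact hχ (hσr χ h2)
    exact hχ (by rw [hrest χ h1 h2 h3, map_zero])
  have heE : e ∈ E := memE e he
  have hce : conj ((conjChar e).1 a) ≠ (conjChar e).1 a := by
    simp [Order7920.conjChar]; exact fun h' => he h'.symm
  have hceE : conjChar e ∈ E := memE _ hce
  have hne : e ≠ conjChar e := fun h' => he (congrFun (congrArg Subtype.val h') a).symm
  have hEeq : E = {e, conjChar e} := (Finset.eq_of_subset_of_card_le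
    (Finset.insert_subset_iff.mpr ⟨heE, Finset.singleton_subset_iff.mpr hceE⟩)
    (by rw [hE, Finset.card_pair hne])).symm
  rw [hEeq, Finset.sum_pair hne] at hvalE
  -- the norm of the exceptional value
  have hsq : e.1 a * conj (e.1 a) = 3 := by
    have o1 : ∑ χ : IrrCharacter G, χ.1 a * conj (χ.1 a) = 11 := by
      rw [Char.column_orth a a, if_pos (IsConj.refl a), hC]; norm_num
    set B := insert (oneChar G) (A ∪ E)
    have hd : Disjoint A E := hD.disj
    have h1B : oneChar G ∉ A ∪ E := by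
      rw [Finset.mem_union, not_or]; exact ⟨hone1 ▸ hD.one_notA, hone1 ▸ hD.one_notE⟩
    have hsplit : ∑ χ : IrrCharacter G, χ.1 a * conj (χ.1 a) =
        ∑ χ ∈ B, χ.1 a * conj (χ.1 a) := (Finset.sum_subset (Finset.subset_univ _) fun χ _ hχ => by
      simp only [B, Finset.mem_insert, Finset.mem_union, not_or] at hχ
      rw [hrest χ hχ.1 hχ.2.1 hχ.2.2, zero_mul]).symm
    rw [hsplit, Finset.sum_insert h1B, Finset.sum_union hd, hEeq, Finset.sum_pair hne,
      Finset.sum_congr rfl (g := fun _ => (1 : ℂ)) (fun χ hχ => by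
        rw [hvalA χ hχ, map_intCast]
        rcases hD.sign χ hχ with e' | e' <;> rw [e'] <;> norm_num),
      Finset.sum_const, hA] at o1
    simp [Order7920.oneChar, Order7920.conjChar] at o1
    linear_combination o1 / 2
  -- enumerate `A`
  set X : IrrCharacter G → ℤ := fun χ => σ χ * (charDegree χ.1 : ℤ)
  let α0 : Fin 4 → IrrCharacter G := fun i => (A.equivFinOfCardEq hA).symm i
  let π := Tuple.sort (fun i => X (α0 i))
  let al : Fin 4 → IrrCharacter G := fun i => α0 (π i)
  have halA : ∀ i, al i ∈ A := fun i => ((A.equivFinOfCardEq hA).symm (π i)).2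
  have hsurj : ∀ χ ∈ A, ∃ i, al i = χ := fun χ hχ =>
    ⟨π.symm (A.equivFinOfCardEq hA ⟨χ, hχ⟩), by simp [al, α0]⟩
  have hal : Function.Injective al := fun i j e' =>
    π.injective ((A.equivFinOfCardEq hA).symm.injective (Subtype.ext e'))
  have hAsum : ∀ F : IrrCharacter G → ℂ, ∑ χ ∈ A, F χ = ∑ i, F (al i) := fun F => by
    refine (Finset.sum_bij (fun i _ => al i) (fun i _ => halA i) (fun i _ j _ e' => hal e')
      (fun χ hχ => ?_) (fun i _ => rfl)).symm
    obtain ⟨i, hi⟩ := hsurj χ hχ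
    exact ⟨i, Finset.mem_univ _, hi⟩
  have hsX : ∀ i, (X (al i)).sign = σ (al i) := fun i => by
    rcases hD.sign _ (halA i) with e' | e' <;>
      simp only [X, e', one_mul, neg_mul, Int.sign_neg, Int.sign_natCast_of_ne_zero
        (natCast_pos_of_charDegree (al i)).ne']
  have hsy : (ε * (charDegree e.1 : ℤ)).sign = ε := by
    rcases hD.signE with e' | e' <;>
      simp only [e', one_mul, neg_mul, Int.sign_neg, Int.sign_natCast_of_ne_zero
        (natCast_pos_of_charDegree e).ne']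
  refine ⟨{
    al := al, e := e, x := fun i => X (al i), y := ε * (charDegree e.1 : ℤ)
    al_inj := hal
    al_ne_one := fun i e' => (hone1 ▸ hD.one_notA) (e' ▸ halA i)
    e_ne_one := fun e' => (hone1 ▸ hD.one_notE) (e' ▸ heE)
    ce_ne_one := fun e' => (hone1 ▸ hD.one_notE) (e' ▸ hceE)
    al_ne_e := fun i e' => Finset.disjoint_left.mp hD.disj (halA i) (e' ▸ heE)
    al_ne_ce := fun i e' => Finset.disjoint_left.mp hD.disj (halA i) (e' ▸ hceE)
    e_ne_ce := hne
    deg := fun i => ?_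
    deg_e := ?_
    x_mod := fun i => (hD.degA _ (halA i)).2
    x_two := fun i => ?_
    y_mod := ?_
    x_mono := fun i j hij => Tuple.monotone_sort (fun i => X (α0 i)) hij
    val := fun i => by rw [hsX, hvalA _ (halA i)]
    val_e := ?_
    norm_e := hsq
    rel := fun g hg => ?_
    e_real := fun g hg => ?_
    rest_zero := fun χ h1 h2 h3 h4 => hrest χ h1 (fun hχ => ?_) ?_ }⟩
  · rcases hD.sign _ (halA i) with e' | e' <;> simp [X, e']
  · rcases hD.signE with e' | e' <;> simp [e']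
  · have := (hD.degA _ (halA i)).1
    rcases hD.sign _ (halA i) with e' | e' <;> simp [X, e'] <;> omega
  · exact (hD.degE e heE).2.trans (by norm_num)
  · rw [hsy]
    have : (conjChar e).1 a = conj (e.1 a) := rfl
    rw [this] at hvalE
    exact hvalE
  · rw [hsy, hD.rel g hg e heE, hAsum]
    simp only [hsX]
  · have h1 := hD.rel g hg e heE
    have h2 := hD.rel g hg _ hceE
    have hε : (ε : ℂ) ≠ 0 := by rcases hD.signE with e' | e' <;> rw [e'] <;> norm_num
    exact mul_left_cancel₀ hε (h2.trans h1.symm)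
  · obtain ⟨i, hi⟩ := hsurj χ hχ; exact h2 i hi.symm
  · rw [hEeq]; simp [h3, h4]

namespace Frame

variable {a : G} (F : Frame a)

theorem val_one (i : Fin 4) : (F.al i).1 1 = ((F.x i).natAbs : ℂ) := by rw [dg_eq, F.deg]

theorem val_e_one : F.e.1 1 = (F.y.natAbs : ℂ) := by rw [dg_eq, F.deg_e]

theorem y_eq : F.y = 1 + ∑ i, F.x i := by
  have h1 : ¬ 11 ∣ orderOf (1 : G) := by simp
  have h := F.rel 1 h1
  rw [F.val_e_one] at h
  simp only [F.val_one] at h
  have hz : F.y.sign * (F.y.natAbs : ℤ) = 1 + ∑ i, (F.x i).sign * ((F.x i).natAbs : ℤ) := by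
    have h' : ((F.y.sign * (F.y.natAbs : ℤ) : ℤ) : ℂ) =
        ((1 + ∑ i, (F.x i).sign * ((F.x i).natAbs : ℤ) : ℤ) : ℂ) := by
      simp only [Int.cast_mul, Int.cast_add, Int.cast_one, Int.cast_sum, Int.cast_natCast]; exact h
    exact Int.cast_injective h'
  simpa [Int.sign_mul_natAbs, Int.sign_mul_abs] using hz

open scoped Classical in
/-- The six characters of the block and the principal one. -/
noncomputable def blk : Finset (IrrCharacter G) :=
  insert (oneChar G) (insert F.e (insert (conjChar F.e) (Finset.univ.image F.al)))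

/-- The other characters. -/
noncomputable def rest : Finset (IrrCharacter G) :=
  haveI := Fintype.ofFinite (IrrCharacter G)
  haveI := Classical.decEq (IrrCharacter G)
  Finset.univ \ F.blk

theorem mem_rest {χ : IrrCharacter G} : χ ∈ F.rest ↔
    χ ≠ oneChar G ∧ (∀ i, χ ≠ F.al i) ∧ χ ≠ F.e ∧ χ ≠ conjChar F.e := by
  classical
  simp only [rest, blk, Finset.mem_sdiff, Finset.mem_univ, true_and, Finset.mem_insert,
    Finset.mem_image, not_or, not_exists]
  constructor
  · rintro ⟨h1, h2, h3, h4⟩; exact ⟨h1, fun i e => h4 i e.symm, h2, h3⟩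
  · rintro ⟨h1, h4, h2, h3⟩; exact ⟨h1, h2, h3, fun i e => h4 i e.symm⟩

theorem sum_eq {M : Type*} [AddCommMonoid M] [Fintype (IrrCharacter G)] (f : IrrCharacter G → M) :
    ∑ χ, f χ = f (oneChar G) + (f F.e + (f (conjChar F.e) + (∑ i, f (F.al i) + ∑ χ ∈ F.rest, f χ))) := by
  classical
  have hrest : F.rest = Finset.univ \ F.blk := by
    ext χ
    simp [mem_rest, blk, eq_comm]
    tauto
  rw [← Finset.sum_sdiff (Finset.subset_univ F.blk), hrest, add_comm]
  rw [blk, Finset.sum_insert (by simp [F.e_ne_one.symm, F.ce_ne_one.symm, F.al_ne_one]),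
    Finset.sum_insert (by simp [F.e_ne_ce, F.al_ne_e]),
    Finset.sum_insert (by simp [F.al_ne_ce]),
    Finset.sum_image fun i _ j _ e => F.al_inj e]
  simp only [add_assoc]

theorem rest_val {χ : IrrCharacter G} (hχ : χ ∈ F.rest) : χ.1 a = 0 := by
  obtain ⟨h1, h2, h3, h4⟩ := F.mem_rest.mp hχ
  exact F.rest_zero χ h1 h2 h3 h4

/-- A character not vanishing at `a` lies in the block. -/
theorem block_cases {χ : IrrCharacter G} (hχ : χ.1 a ≠ 0) :
    χ = oneChar G ∨ (∃ i, χ = F.al i) ∨ χ = F.e ∨ χ = conjChar F.e := by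
  by_contra h
  simp only [not_or, not_exists] at h
  exact hχ (F.rest_zero χ h.1 h.2.1 h.2.2.1 h.2.2.2)

theorem rest_sq (h : Nat.card G = 95040) :
    ∑ χ ∈ F.rest, (charDegree χ.1 : ℤ) ^ 2 = 95040 - 1 - ∑ i, F.x i ^ 2 - 2 * F.y ^ 2 := by
  classical
  have := Fintype.ofFinite G
  have := Fintype.ofFinite (IrrCharacter G)
  have h1 := Order7920.sum_dg_sq (G := G)
  rw [F.sum_eq, h, Order7920.dg_one, dg_conjChar, ← F.deg_e] at h1
  simp only [← F.deg, Int.natAbs_sq, Nat.cast_one, one_pow, Nat.cast_ofNat] at h1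
  linarith

theorem rel_sign (g : G) (hg : ¬ 11 ∣ orderOf g) :
    F.e.1 g = (F.y.sign : ℂ) * (1 + ∑ i, ((F.x i).sign : ℂ) * (F.al i).1 g) := by
  rw [← F.rel g hg, ← mul_assoc]
  have hy : F.y ≠ 0 := fun e => by
    have := F.y_mod; rw [e] at this; norm_num at this
  rcases lt_or_gt_of_ne hy with hy | hy
  · rw [Int.sign_eq_neg_one_of_neg hy]; norm_num
  · rw [Int.sign_eq_one_of_pos hy]; norm_num

end Frame

variable [IsSimpleGroup G]

theorem Frame.dvd_rest (h : Nat.card G = 95040) {a : G} (ha : orderOf a = 11) (F : Frame a)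
    {χ : IrrCharacter G} (hχ : χ ∈ F.rest) : 11 ∣ charDegree χ.1 := by
  classical
  have := Fintype.ofFinite (IrrCharacter G)
  have hg : a ^ 11 = 1 := orderOf_dvd_iff_pow_eq_one.mp (ha ▸ dvd_rfl)
  have h0 := F.rest_val hχ
  have hall : ∀ k ∈ Finset.range 11, k ≠ 0 → χ.1 (a ^ k) = χ.1 a := by
    intro k hk hk0
    rw [Finset.mem_range] at hk
    rw [h0]
    by_cases hpos : k = 1 ∨ k = 3 ∨ k = 4 ∨ k = 5 ∨ k = 9
    · rw [← (Char.isConj_iff_irr _ _).mp (isConj_pow_eleven h ha hpos) χ, h0]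
    · have e : a ^ k = (a ^ (11 - k))⁻¹ := eq_inv_of_mul_eq_one_left (by
        rw [← pow_add, show k + (11 - k) = orderOf a by omega, pow_orderOf_eq_one])
      rw [e, Char.IsCharacter.apply_inv (isChar χ),
        ← (Char.isConj_iff_irr _ _).mp (isConj_pow_eleven h ha (k := 11 - k) (by omega)) χ, h0, map_zero]
  obtain ⟨z, hz, hd⟩ := Order7920.val_rational (isChar χ) (dg_eq χ) (n := 11) (by norm_num) hg hall
  rw [h0] at hz
  have hz0 : z = 0 := by exact_mod_cast hz.symm
  rw [hz0, sub_zero] at hd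
  exact_mod_cast hd

omit [IsSimpleGroup G] in
/-- A block character whose signed degree occurs once is fixed by the Galois twists. -/
theorem Frame.powIrr_al {a : G} (F : Frame a) (i : Fin 4)
    (hu : ∀ j, F.x j = F.x i → j = i) {k : ℕ} (hk : k.Coprime (Nat.card G)) :
    GaloisPow.powIrr hk (F.al i) = F.al i := by
  obtain ⟨f, hf⟩ := GaloisPow.exists_galois G hk
  have hv : (GaloisPow.powIrr hk (F.al i)).1 a = ((F.x i).sign : ℤ) := by
    rw [GaloisPow.powIrr_apply, ← hf _ (isChar _), F.val, map_intCast]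
  have hd : charDegree (GaloisPow.powIrr hk (F.al i)).1 = (F.x i).natAbs := by
    simp [F.deg, charDegree, GaloisPow.powIrr_apply]
  have hx2 := F.x_two i
  have hs : (F.x i).sign ≠ 0 := by
    rw [Int.sign_eq_zero_iff_zero.ne]; omega
  rcases F.block_cases (χ := GaloisPow.powIrr hk (F.al i)) (by rw [hv]; exact_mod_cast hs) with
    e | ⟨j, e⟩ | e | e
  · rw [e, Order7920.dg_one] at hd; omega
  · rw [e, F.deg j |>.symm] at hd
    rw [e, F.val] at hv
    have hsj : (F.x j).sign = (F.x i).sign := by exact_mod_cast hv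
    have hxx : F.x j = F.x i := by
      rw [← Int.sign_mul_natAbs (F.x j), ← Int.sign_mul_natAbs (F.x i), hsj, hd]
    rw [e, hu j hxx]
  all_goals
    exfalso
    rw [e] at hd
    have hy := F.y_mod
    have hx := F.x_mod i
    first
      | (rw [← F.deg_e] at hd; omega)
      | (rw [dg_conjChar, ← F.deg_e] at hd; omega)

end Cfsg.Agent.Order95040
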