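/-
Columns of elements of order prime to 11 on the principal block at 11.

Main results (namespace `Cfsg.Agent.Order95040`): `Frame.HasCol`, `Frame.val_e_col`,
`Frame.norm_le`, `Frame.cs_le`, `Frame.fib_eq`, `Frame.sig_eq`, `Frame.fib_trace`, `Frame.sig_trace`,
`Frame.row_mem`.
-/
import Cfsg.Agent.Lib.Order95040.Block
import Cfsg.Agent.Lib.Order95040.Check
import Cfsg.Agent.Lib.SmallOrders.BlockDegrees.InvolutionValue
import Cfsg.Agent.Lib.Char.PRegular

set_option autoImplicit false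

open scoped ComplexConjugate

namespace Cfsg.Agent.Order95040

open Cfsg Subgroup
open Order7920 (oneChar conjChar isChar dg_eq dg_conjChar)

theorem sum2_q4 (f : ℤ → ℤ → ℤ) (x v : Fin 4 → ℤ) : sum2 f (q4 x) (q4 v) = ∑ i, f (x i) (v i) := by
  simp [sum2, q4, Fin.sum_univ_four]

theorem sum3_q4 (f : ℤ → ℤ → ℤ → ℤ) (x v w : Fin 4 → ℤ) :
    sum3 f (q4 x) (q4 v) (q4 w) = ∑ i, f (x i) (v i) (w i) := by
  simp [sum3, q4, Fin.sum_univ_four]

variable {G : Type*} [Group G] [Finite G]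

/-- The size of the class of `g`. -/
noncomputable def csize (g : G) : ℕ := Nat.card {u : G // IsConj g u}

theorem csize_mul (h : Nat.card G = 95040) (g : G) :
    csize g * Nat.card (centralizer ({g} : Set G)) = 95040 :=
  (ClassCount.card_class_mul_card_centralizer g).trans h

theorem csize_eq (h : Nat.card G = 95040) {g : G} {C : ℕ}
    (hC : Nat.card (centralizer ({g} : Set G)) = C) : (csize g : ℤ) = 95040 / (C : ℤ) := by
  have h1 := csize_mul h g
  rw [hC] at h1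
  have hC0 : 0 < C := hC ▸ Nat.card_pos
  symm
  refine Int.ediv_eq_of_eq_mul_left (by exact_mod_cast hC0.ne') ?_
  exact_mod_cast h1.symm

namespace Frame

variable {a : G} (F : Frame a)

theorem x_dvd (h : Nat.card G = 95040) (i : Fin 4) : (F.x i) ∣ (95040 : ℤ) := by
  rw [← Int.natAbs_dvd, F.deg]
  exact_mod_cast h ▸ ClassCount.degree_dvd_card (F.al i)

theorem y_dvd (h : Nat.card G = 95040) : F.y ∣ (95040 : ℤ) := by
  rw [← Int.natAbs_dvd, F.deg_e]
  exact_mod_cast h ▸ ClassCount.degree_dvd_card F.e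

theorem x_ne (i : Fin 4) : F.x i ≠ 0 := fun e => by
  have := F.x_two i; rw [e] at this; norm_num at this

theorem y_ne : F.y ≠ 0 := fun e => by have := F.y_mod; rw [e] at this; norm_num at this

/-- The signed degrees as a quadruple. -/
def row : Q4 := q4 F.x

theorem yOf_row : yOf F.row = F.y := by
  rw [F.y_eq, Fin.sum_univ_four]; simp [yOf, row, q4]

/-- The block values at `g` are the integers `v`. -/
def HasCol (g : G) (v : Fin 4 → ℤ) : Prop :=
  ¬ 11 ∣ orderOf g ∧ ∀ i, (F.al i).1 g = (v i : ℂ)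

theorem veOf_eq (u : ℤ) (v : Fin 4 → ℤ) :
    veOf u F.row (q4 v) = F.y.sign * (u + ∑ i, (F.x i).sign * v i) := by
  rw [veOf, F.yOf_row, row, sum2_q4]

theorem val_e_col {g : G} {v : Fin 4 → ℤ} (hv : F.HasCol g v) :
    F.e.1 g = (veOf 1 F.row (q4 v) : ℂ) := by
  rw [F.rel_sign g hv.1, F.veOf_eq]
  push_cast
  simp only [hv.2]

theorem val_ce_col {g : G} {v : Fin 4 → ℤ} (hv : F.HasCol g v) :
    (conjChar F.e).1 g = (veOf 1 F.row (q4 v) : ℂ) := by
  show conj (F.e.1 g) = _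
  rw [F.e_real g hv.1, F.val_e_col hv]

/-- The other characters carry the rest of the degree relation. -/
theorem rest_deg {g : G} (hg : g ≠ 1) {v : Fin 4 → ℤ} (hv : F.HasCol g v) :
    ∑ χ ∈ F.rest, (charDegree χ.1 : ℂ) * χ.1 g = -((dgOf 1 F.row (q4 v) : ℤ) : ℂ) := by
  classical
  have := Fintype.ofFinite G
  have := Fintype.ofFinite (IrrCharacter G)
  have h := Char.sum_degree_mul_apply (G := G) g
  rw [if_neg hg, F.sum_eq] at h
  simp only [dg_eq, dg_conjChar, F.val_e_col hv, F.val_ce_col hv, hv.2, ← F.deg_e, ← F.deg] at h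
  rw [dgOf, F.yOf_row]
  simp only [row, sum2_q4]
  push_cast
  simp only [Order7920.dg_one, Nat.cast_one] at h
  simp only [oneChar, Pi.one_apply, one_mul, Nat.cast_natAbs] at h
  push_cast at h
  simp only [row] at h
  linear_combination h

theorem rest_norm {g : G} {C : ℕ} (hC : Nat.card (centralizer ({g} : Set G)) = C) {v : Fin 4 → ℤ}
    (hv : F.HasCol g v) :
    ∑ χ ∈ F.rest, Complex.normSq (χ.1 g) = (C : ℝ) - ((normOf 1 F.row (q4 v) : ℤ) : ℝ) := by
  classical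
  have := Fintype.ofFinite (IrrCharacter G)
  have h := Char.column_orth g g
  rw [if_pos (IsConj.refl g), hC, F.sum_eq] at h
  simp only [F.val_e_col hv, F.val_ce_col hv, hv.2, map_intCast] at h
  have h' := congrArg Complex.re h
  simp only [Complex.add_re, Complex.re_sum, Complex.natCast_re, Complex.mul_conj, Complex.ofReal_re,
    ← Int.cast_mul, Complex.intCast_re] at h'
  rw [normOf]
  simp only [row, sum2_q4]
  push_cast at h' ⊢
  simp [oneChar] at h'
  simp only [row] at h'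
  linarith

theorem norm_le {g : G} {C : ℕ} (hC : Nat.card (centralizer ({g} : Set G)) = C) {v : Fin 4 → ℤ}
    (hv : F.HasCol g v) : normOf 1 F.row (q4 v) ≤ C := by
  have h := F.rest_norm hC hv
  have h0 : 0 ≤ ∑ χ ∈ F.rest, Complex.normSq (χ.1 g) :=
    Finset.sum_nonneg fun χ _ => Complex.normSq_nonneg _
  have : ((normOf 1 F.row (q4 v) : ℤ) : ℝ) ≤ ((C : ℤ) : ℝ) := by push_cast; linarith
  exact_mod_cast this

theorem ssOf_row : ssOf F.row = 1 + ∑ i, F.x i ^ 2 + 2 * F.y ^ 2 := by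
  rw [ssOf, F.yOf_row]
  simp only [row, sum2_q4, pow_two]

/-- Cauchy-Schwarz on the other characters. -/
theorem cs_le (h : Nat.card G = 95040) {g : G} (hg : g ≠ 1) {C : ℕ}
    (hC : Nat.card (centralizer ({g} : Set G)) = C) {v : Fin 4 → ℤ} (hv : F.HasCol g v) :
    dgOf 1 F.row (q4 v) * dgOf 1 F.row (q4 v) ≤
      (95040 - ssOf F.row) * ((C : ℤ) - normOf 1 F.row (q4 v)) := by
  have h1 := congrArg Complex.re (F.rest_deg hg hv)
  simp only [Complex.re_sum, Complex.neg_re, Complex.intCast_re, Complex.mul_re, Complex.natCast_re,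
    Complex.natCast_im, zero_mul, sub_zero] at h1
  have h2 := Finset.sum_mul_sq_le_sq_mul_sq F.rest (fun χ => (charDegree χ.1 : ℝ)) (fun χ => (χ.1 g).re)
  rw [h1, neg_sq] at h2
  have h3 : ∑ χ ∈ F.rest, (χ.1 g).re ^ 2 ≤ (C : ℝ) - ((normOf 1 F.row (q4 v) : ℤ) : ℝ) := by
    rw [← F.rest_norm hC hv]
    refine Finset.sum_le_sum fun χ _ => ?_
    rw [Complex.normSq_apply, pow_two]
    nlinarith [mul_self_nonneg (χ.1 g).im]
  have h4 : ∑ χ ∈ F.rest, (charDegree χ.1 : ℝ) ^ 2 = ((95040 - ssOf F.row : ℤ) : ℝ) := by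
    have := congrArg (fun z : ℤ => (z : ℝ)) (F.rest_sq h)
    rw [F.ssOf_row]
    push_cast at this ⊢
    linarith
  rw [h4] at h2
  have h0 : (0 : ℝ) ≤ ((95040 - ssOf F.row : ℤ) : ℝ) := h4 ▸ Finset.sum_nonneg fun χ _ => sq_nonneg _
  have h5 := h2.trans (mul_le_mul_of_nonneg_left h3 h0)
  have : ((dgOf 1 F.row (q4 v) * dgOf 1 F.row (q4 v) : ℤ) : ℝ) ≤
      (((95040 - ssOf F.row) * ((C : ℤ) - normOf 1 F.row (q4 v)) : ℤ) : ℝ) := by
    push_cast at h5 ⊢; nlinarith
  exact_mod_cast this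

theorem sign_div_natAbs (x : ℤ) (hx : x ≠ 0) :
    ((x.sign : ℤ) : ℂ) / ((x.natAbs : ℕ) : ℂ) = 1 / (x : ℂ) := by
  rcases lt_or_gt_of_ne hx with hn | hp
  · obtain ⟨n, rfl⟩ : ∃ n : ℕ, x = -(n : ℤ) := ⟨x.natAbs, by omega⟩
    rw [Int.sign_eq_neg_one_of_neg hn, Int.natAbs_neg, Int.natAbs_natCast]
    push_cast
    rw [div_neg, neg_div]
  · obtain ⟨n, rfl⟩ : ∃ n : ℕ, x = (n : ℤ) := ⟨x.natAbs, by omega⟩
    rw [Int.sign_eq_one_of_pos hp, Int.natAbs_natCast]
    push_cast; rfl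

/-- The class multiplication constant of two regular classes and an element of order 11. -/
theorem fib_complex [IsSimpleGroup G] (h : Nat.card G = 95040) {g g' : G} (hg : ¬ 11 ∣ orderOf g)
    (hg' : ¬ 11 ∣ orderOf g') :
    (95040 : ℂ) * (ClassCount.fibreCount g g' a : ℂ) = (csize g : ℂ) * (csize g' : ℂ) *
      (1 + ∑ i, (F.al i).1 g * (F.al i).1 g' / (F.x i : ℂ) - F.e.1 g * F.e.1 g' / (F.y : ℂ)) := by
  classical
  have := Fintype.ofFinite (IrrCharacter G)
  have hk := ClassCount.card_mul_fibreCount g g' a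
  rw [h, F.sum_eq] at hk
  simp only [ClassCount.omega, Char.IsCharacter.apply_inv (isChar _)] at hk
  rw [Finset.sum_eq_zero (s := F.rest) (fun χ hχ => by rw [F.rest_val hχ, map_zero, mul_zero]),
    add_zero] at hk
  have hA : ∀ i, (F.al i).1 1 * ((csize g : ℂ) * (F.al i).1 g / (F.al i).1 1) *
      ((csize g' : ℂ) * (F.al i).1 g' / (F.al i).1 1) * conj ((F.al i).1 a) =
      (csize g : ℂ) * (csize g' : ℂ) * ((F.al i).1 g * (F.al i).1 g' / (F.x i : ℂ)) := fun i => by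
    have hd : (((F.x i).natAbs : ℕ) : ℂ) ≠ 0 := by simpa using F.x_ne i
    rw [F.val i, map_intCast, F.val_one]
    calc _ = (csize g : ℂ) * (csize g' : ℂ) * ((F.al i).1 g * (F.al i).1 g') *
          (((F.x i).sign : ℂ) / ((F.x i).natAbs : ℂ)) := by field_simp
      _ = _ := by rw [sign_div_natAbs _ (F.x_ne i)]; ring
  simp only [csize] at hA
  rw [Finset.sum_congr rfl fun i _ => hA i] at hk
  simp only [csize]
  rw [Nat.cast_ofNat] at hk
  rw [hk]
  have hed : (F.y.natAbs : ℂ) ≠ 0 := by simpa using F.y_ne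
  have hce : (conjChar F.e).1 1 = (F.y.natAbs : ℂ) := by
    show conj (F.e.1 1) = _
    rw [F.val_e_one, map_natCast]
  have h1 : (conjChar F.e).1 g = F.e.1 g := F.e_real g hg
  have h2 : (conjChar F.e).1 g' = F.e.1 g' := F.e_real g' hg'
  have h3 : (conjChar F.e).1 a = conj (F.e.1 a) := rfl
  rw [h1, h2, h3, hce, F.val_e_one, Complex.conj_conj, ← Finset.mul_sum]
  simp only [oneChar, Pi.one_apply, map_one, div_one, mul_one, one_mul]
  have hs : (1 : ℂ) / (F.y : ℂ) = (F.y.sign : ℂ) / (F.y.natAbs : ℂ) := (sign_div_natAbs _ F.y_ne).symm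
  have hsum : conj (F.e.1 a) + F.e.1 a = -((F.y.sign : ℤ) : ℂ) := by rw [add_comm]; exact F.val_e
  have key : (F.y.natAbs : ℂ) * ((csize g : ℂ) * F.e.1 g / (F.y.natAbs : ℂ)) *
        ((csize g' : ℂ) * F.e.1 g' / (F.y.natAbs : ℂ)) * conj (F.e.1 a) +
      (F.y.natAbs : ℂ) * ((csize g : ℂ) * F.e.1 g / (F.y.natAbs : ℂ)) *
        ((csize g' : ℂ) * F.e.1 g' / (F.y.natAbs : ℂ)) * F.e.1 a =
      -((csize g : ℂ) * (csize g' : ℂ) * (F.e.1 g * F.e.1 g' / (F.y : ℂ))) := by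
    rw [← mul_add, hsum, show F.e.1 g * F.e.1 g' / (F.y : ℂ) = F.e.1 g * F.e.1 g' * (1 / (F.y : ℂ)) by ring, hs]
    field_simp
  simp only [csize] at key
  linear_combination key

theorem ediv_cast {n : ℤ} (hn : n ∣ (95040 : ℤ)) (hn0 : n ≠ 0) :
    (((95040 : ℤ) / n : ℤ) : ℂ) = (95040 : ℂ) / (n : ℂ) := by
  rw [Int.cast_div hn (by exact_mod_cast hn0)]
  norm_num

theorem fib_eq [IsSimpleGroup G] (h : Nat.card G = 95040) {g g' : G} {v w : Fin 4 → ℤ}
    (hv : F.HasCol g v) (hw : F.HasCol g' w) :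
    (95040 * 95040 : ℤ) * (ClassCount.fibreCount g g' a : ℤ) =
      (csize g : ℤ) * (csize g' : ℤ) * tzOf 1 1 F.row (q4 v) (q4 w) := by
  have h1 := F.fib_complex h hv.1 hw.1
  simp only [hv.2, hw.2, F.val_e_col hv, F.val_e_col hw] at h1
  rw [tzOf, F.yOf_row]
  simp only [row, sum3_q4]
  have hy := ediv_cast (F.y_dvd h) F.y_ne
  have hx : ∀ i, (((95040 : ℤ) / F.x i : ℤ) : ℂ) = (95040 : ℂ) / (F.x i : ℂ) :=
    fun i => ediv_cast (F.x_dvd h i) (F.x_ne i)
  refine Int.cast_injective (α := ℂ) ?_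
  push_cast [hy]
  simp only [hx]
  rw [show (9032601600 : ℂ) * (ClassCount.fibreCount g g' a : ℂ) =
    95040 * (95040 * (ClassCount.fibreCount g g' a : ℂ)) by ring, h1]
  simp only [row]
  rw [show ∑ i, (v i : ℂ) * (w i : ℂ) * (95040 / (F.x i : ℂ)) =
      95040 * ∑ i, (v i : ℂ) * (w i : ℂ) / (F.x i : ℂ) by
    rw [Finset.mul_sum]; exact Finset.sum_congr rfl fun i _ => by ring]
  ring

theorem fibOK_fib [IsSimpleGroup G] (h : Nat.card G = 95040) {g g' : G} {v w : Fin 4 → ℤ}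
    (hv : F.HasCol g v) (hw : F.HasCol g' w) :
    fibOK ((csize g : ℤ) * (csize g' : ℤ)) (tzOf 1 1 F.row (q4 v) (q4 w)) = true := by
  simp only [fibOK, Bool.and_eq_true, decide_eq_true_eq, ← F.fib_eq h hv hw]
  exact ⟨by positivity, Int.mul_emod_right _ _⟩

end Frame

end Cfsg.Agent.Order95040
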