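/-
From columns on the principal block to the finite checks.

Main results (namespace `Cfsg.Agent.Order95040`): `allCols_sound`, `Frame.row_mem`, `Frame.sig_fib`,
`Frame.okv_col`, `Frame.cols_ok`, `Frame.involOK_col`.
-/
import Cfsg.Agent.Lib.Order95040.Values

set_option autoImplicit false

open scoped ComplexConjugate

namespace Cfsg.Agent.Order95040

open Cfsg Subgroup
open Order7920 (oneChar conjChar isChar dg_eq dg_conjChar)

theorem mem_cand {r : ℕ} {u q B K : ℤ} {five : Bool} {s v : ℤ} (h : okv u q B K five s v = true)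
    (hr : B < ((r : ℤ) + 1) * ((r : ℤ) + 1)) : v ∈ cand r u q B K five s := by
  refine List.mem_filter.mpr ⟨List.mem_map.mpr ⟨(v + r).toNat, List.mem_range.mpr ?_, ?_⟩, h⟩
  all_goals
    have hv : v * v ≤ B := by
      simp only [okv, Bool.and_eq_true, decide_eq_true_eq] at h; exact h.1.1.1.1
    have h1 : -(r : ℤ) ≤ v := by nlinarith
    have h2 : v ≤ (r : ℤ) := by nlinarith
    omega

/-- A column with admissible entries passes `allCols`. -/
theorem allCols_sound {r : ℕ} {u q B K : ℤ} {five : Bool} {x : Q4} {P : Q4 → Bool}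
    (hc : allCols r u q B K five x P = true) (hr : B < ((r : ℤ) + 1) * ((r : ℤ) + 1)) {v : Q4}
    (h1 : okv u q B K five x.1 v.1 = true) (h2 : okv u q B K five x.2.1 v.2.1 = true)
    (h3 : okv u q B K five x.2.2.1 v.2.2.1 = true) (h4 : okv u q B K five x.2.2.2 v.2.2.2 = true)
    (he : okv u q B K five (yOf x) (veOf u x v) = true) (hn : normOf u x v ≤ B) : P v = true := by
  simp only [allCols, List.all_eq_true] at hc
  have := hc _ (mem_cand h1 hr) _ (mem_cand h2 hr) _ (mem_cand h3 hr) _ (mem_cand h4 hr)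
  simpa [he, hn] using this

theorem factorization_eq' {n p a b : ℕ} (hp : p.Prime) (hn : n = p ^ a * b) (hb : ¬ p ∣ b) :
    n.factorization p = a := by
  subst hn
  have hb0 : b ≠ 0 := fun e => hb (e ▸ dvd_zero p)
  rw [Nat.factorization_mul (pow_ne_zero _ hp.ne_zero) hb0, Finsupp.add_apply, hp.factorization_pow,
    Nat.factorization_eq_zero_of_not_dvd hb]
  simp

variable {G : Type*} [Group G] [Finite G]

namespace Frame

variable {a : G} (F : Frame a)

/-- The row of the block is one of the listed ones. -/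
theorem row_mem (h : Nat.card G = 95040) : F.row ∈ rows := by
  have hsq := F.rest_sq h
  have h0 : (0 : ℤ) ≤ ∑ χ ∈ F.rest, (charDegree χ.1 : ℤ) ^ 2 := Finset.sum_nonneg fun χ _ => sq_nonneg _
  have hx : ∀ i, F.x i ∈ xCand := by
    intro i
    have hd : (F.x i).natAbs ∣ 95040 := by
      have := Int.natAbs_dvd_natAbs.mpr (F.x_dvd h i); simpa using this
    have hle : F.x i ^ 2 ≤ 95039 := by
      have h1 := Finset.single_le_sum (f := fun i => F.x i ^ 2) (fun i _ => sq_nonneg _) (Finset.mem_univ i)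
      nlinarith [sq_nonneg F.y]
    have hlt : (F.x i).natAbs < 309 := by
      by_contra hge
      have : (309 : ℤ) ^ 2 ≤ F.x i ^ 2 := by
        rw [← Int.natAbs_sq (F.x i)]
        exact pow_le_pow_left₀ (by norm_num) (by omega) 2
      norm_num at this; omega
    have hm := F.x_mod i
    have h2 := F.x_two i
    rcases Int.natAbs_eq (F.x i) with e | e
    · rw [e]; exact xCand_pos _ hlt ⟨hd, h2, by omega⟩
    · rw [e]; exact xCand_neg _ hlt ⟨hd, h2, by omega⟩
  have hc := rowsCheck_true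
  simp only [rowsCheck, List.all_eq_true] at hc
  have := hc _ (hx 0) _ (hx 1) _ (hx 2) _ (hx 3)
  have hok : rowOK (F.x 0, F.x 1, F.x 2, F.x 3) = true := by
    simp only [rowOK, Bool.and_eq_true, decide_eq_true_eq]
    refine ⟨⟨⟨⟨F.x_mono 0 1 (by decide), F.x_mono 1 2 (by decide)⟩, F.x_mono 2 3 (by decide)⟩, ?_⟩, ?_⟩
    · change (yOf F.row).natAbs ∣ _
      rw [F.yOf_row]
      have := Int.natAbs_dvd_natAbs.mpr (F.y_dvd h); simpa using this
    · change ssOf F.row ≤ _
      rw [F.ssOf_row]; linarith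
  simpa [hok, row, q4] using this

/-- `|G|` times the class sum of `a`, `a'` and a regular element. -/
theorem sig_complex [IsSimpleGroup G] (h : Nat.card G = 95040) (ha : orderOf a = 11) {g : G}
    (hg : ¬ 11 ∣ orderOf g) :
    (95040 : ℂ) * (ClassCount.fibreCount a a g : ℂ) = 8640 * 8640 *
      (1 + ∑ i, conj ((F.al i).1 g) / ((F.x i).natAbs : ℂ) - 5 * conj (F.e.1 g) / (F.y.natAbs : ℂ)) ∧
    (95040 : ℂ) * (ClassCount.fibreCount a a⁻¹ g : ℂ) = 8640 * 8640 *
      (1 + ∑ i, conj ((F.al i).1 g) / ((F.x i).natAbs : ℂ) + 6 * conj (F.e.1 g) / (F.y.natAbs : ℂ)) := by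
  classical
  have := Fintype.ofFinite (IrrCharacter G)
  have hK : ∀ b : G, orderOf b = 11 → (Nat.card {u : G // IsConj b u} : ℂ) = 8640 := fun b hb => by
    have h1 := csize_mul h b
    rw [card_centralizer_eleven h hb] at h1
    have : csize b = 8640 := by omega
    rw [← csize, this]; norm_num
  have hK1 := hK a ha
  have hK2 := hK a⁻¹ (by rw [orderOf_inv, ha])
  have hs : ∀ i, ((F.x i).sign : ℂ) * ((F.x i).sign : ℂ) = 1 := fun i => by
    rcases lt_or_gt_of_ne (F.x_ne i) with hn | hp
    · rw [Int.sign_eq_neg_one_of_neg hn]; norm_num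
    · rw [Int.sign_eq_one_of_pos hp]; norm_num
  have hys : ((F.y.sign : ℤ) : ℂ) ^ 2 = 1 := by
    rcases lt_or_gt_of_ne F.y_ne with hn | hp
    · rw [Int.sign_eq_neg_one_of_neg hn]; norm_num
    · rw [Int.sign_eq_one_of_pos hp]; norm_num
  have hce : (conjChar F.e).1 1 = (F.y.natAbs : ℂ) := by
    show conj (F.e.1 1) = _
    rw [F.val_e_one, map_natCast]
  have h1 : (conjChar F.e).1 g = F.e.1 g := F.e_real g hg
  have h3 : (conjChar F.e).1 a = conj (F.e.1 a) := rfl
  have hyd : (F.y.natAbs : ℂ) ≠ 0 := by simpa using F.y_ne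
  have hxd : ∀ i, ((F.x i).natAbs : ℂ) ≠ 0 := fun i => by simpa using F.x_ne i
  have hE : F.e.1 a * F.e.1 a + conj (F.e.1 a) * conj (F.e.1 a) = -5 := by
    linear_combination (F.e.1 a + conj (F.e.1 a) - ((F.y.sign : ℤ) : ℂ)) * F.val_e - 2 * F.norm_e + hys
  constructor
  · have hk := ClassCount.card_mul_fibreCount a a g
    rw [h, F.sum_eq] at hk
    simp only [ClassCount.omega, Char.IsCharacter.apply_inv (isChar _), hK1] at hk
    rw [Finset.sum_eq_zero (s := F.rest) (fun χ hχ => by rw [F.rest_val hχ]; ring), add_zero] at hk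
    rw [Finset.sum_congr rfl (g := fun i => 8640 * 8640 * (conj ((F.al i).1 g) / ((F.x i).natAbs : ℂ)))
      (fun i _ => by
        rw [F.val i, F.val_one]
        field_simp
        linear_combination (conj ((F.al i).1 g) / ((F.x i).natAbs : ℂ)) * hs i)] at hk
    rw [Nat.cast_ofNat] at hk
    rw [hk, h1, h3, hce, F.val_e_one, ← Finset.mul_sum]
    simp only [oneChar, Pi.one_apply, map_one, div_one, mul_one, one_mul]
    field_simp
    linear_combination conj (F.e.1 g) * hE
  · have hk := ClassCount.card_mul_fibreCount a a⁻¹ g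
    rw [h, F.sum_eq] at hk
    simp only [ClassCount.omega, Char.IsCharacter.apply_inv (isChar _), hK1, hK2] at hk
    rw [Finset.sum_eq_zero (s := F.rest) (fun χ hχ => by rw [F.rest_val hχ]; simp), add_zero] at hk
    rw [Finset.sum_congr rfl (g := fun i => 8640 * 8640 * (conj ((F.al i).1 g) / ((F.x i).natAbs : ℂ)))
      (fun i _ => by
        rw [F.val i, F.val_one, map_intCast]
        field_simp
        linear_combination (conj ((F.al i).1 g) / ((F.x i).natAbs : ℂ)) * hs i)] at hk
    rw [Nat.cast_ofNat] at hk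
    rw [hk, h1, h3, hce, F.val_e_one, ← Finset.mul_sum, Complex.conj_conj]
    simp only [oneChar, Pi.one_apply, map_one, div_one, mul_one, one_mul]
    field_simp
    linear_combination 2 * conj (F.e.1 g) * F.norm_e

theorem fibOK_sig [IsSimpleGroup G] (h : Nat.card G = 95040) (ha : orderOf a = 11) {g : G}
    {v : Fin 4 → ℤ} (hv : F.HasCol g v) :
    fibOK (8640 * 8640) (sigOf F.row (q4 v) (-5)) = true ∧
      fibOK (8640 * 8640) (sigOf F.row (q4 v) 6) = true := by
  obtain ⟨h1, h2⟩ := F.sig_complex h ha hv.1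
  have hy : (((95040 : ℤ) / (F.y.natAbs : ℤ) : ℤ) : ℂ) = (95040 : ℂ) / (F.y.natAbs : ℂ) := by
    rw [ediv_cast (Int.natAbs_dvd.mpr (F.y_dvd h)) (by simpa using F.y_ne), Int.cast_natCast]
  have hx : ∀ i, (((95040 : ℤ) / ((F.x i).natAbs : ℤ) : ℤ) : ℂ) =
      (95040 : ℂ) / ((F.x i).natAbs : ℂ) := fun i => by
    rw [ediv_cast (Int.natAbs_dvd.mpr (F.x_dvd h i)) (by simpa using F.x_ne i), Int.cast_natCast]
  have key : ∀ (n : ℕ) (zz : ℤ), (95040 : ℂ) * (n : ℂ) = 8640 * 8640 *
      (1 + ∑ i, conj ((F.al i).1 g) / ((F.x i).natAbs : ℂ) +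
        (zz : ℂ) * conj (F.e.1 g) / (F.y.natAbs : ℂ)) →
      fibOK (8640 * 8640) (sigOf F.row (q4 v) zz) = true := by
    intro n zz hn
    have heq : (95040 * 95040 : ℤ) * (n : ℤ) = 8640 * 8640 * sigOf F.row (q4 v) zz := by
      refine Int.cast_injective (α := ℂ) ?_
      rw [sigOf, F.yOf_row]
      simp only [row, sum2_q4]
      simp only [hv.2, F.val_e_col hv, map_intCast] at hn
      simp only [Int.cast_mul, Int.cast_add, Int.cast_sum, Int.cast_natCast, hy, hx, Int.cast_ofNat]
      rw [mul_assoc (95040 : ℂ), hn]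
      simp only [row]
      rw [show ∑ i, (v i : ℂ) * (95040 / ((F.x i).natAbs : ℂ)) =
          95040 * ∑ i, (v i : ℂ) / ((F.x i).natAbs : ℂ) by
        rw [Finset.mul_sum]; exact Finset.sum_congr rfl fun i _ => by ring]
      ring
    simp only [fibOK, Bool.and_eq_true, decide_eq_true_eq, ← heq]
    exact ⟨by positivity, Int.mul_emod_right _ _⟩
  exact ⟨key _ (-5) (by rw [h1]; push_cast; ring), key _ 6 (by rw [h2]; push_cast; ring)⟩

end Frame

/-- The conditions on one integer value. -/
theorem okv_value [IsSimpleGroup G] (h : Nat.card G = 95040) (χ : IrrCharacter G) (hne : χ ≠ oneChar G)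
    {g : G} (hg : g ≠ 1) {s v q B : ℤ} {five : Bool} (hd : s.natAbs = charDegree χ.1)
    (hv : χ.1 g = (v : ℂ)) (hB : v * v ≤ B) (hq : ((s.natAbs : ℤ) - v) % q = 0)
    (h5 : five = true → 5 ∣ orderOf g) :
    okv 1 q B (csize g : ℤ) five s v = true := by
  have hne' : χ.1 ≠ 1 := fun e => hne (Subtype.ext e)
  simp only [okv, Bool.and_eq_true, Bool.or_eq_true, decide_eq_true_eq, one_mul, Bool.not_eq_true']
  refine ⟨⟨⟨⟨hB, ?_⟩, hq⟩, ?_⟩, ?_⟩
  · have := SmallOrders.BlockDegrees.norm_lt_of_ne_one (not_comm h) χ.2 hne' hg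
    rw [hv, Complex.norm_intCast] at this
    have h' : ((v.natAbs : ℤ) : ℝ) < ((s.natAbs : ℤ) : ℝ) := by
      rw [hd, Int.natCast_natAbs, Int.cast_abs, Int.cast_natCast]; exact this
    exact_mod_cast h'
  · have hint := ClassCount.isIntegral_omega χ.2 g
    rw [ClassCount.omega, hv, dg_eq, ← hd] at hint
    have hs0 : s.natAbs ≠ 0 := hd ▸ (ClassCount.charDegree_pos χ).ne'
    obtain ⟨b, -, hb⟩ := Order7920.int_of_rat (k := s.natAbs) (a := (csize g : ℤ) * v) hs0 hint (by
      rw [mul_div_cancel₀ _ (Nat.cast_ne_zero.mpr hs0)]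
      simp [csize])
    exact Int.emod_eq_zero_of_dvd ⟨b, hb.symm⟩
  · by_cases hf : five = true
    · by_cases h5s : s % 5 = 0
      · right
        have h5d : 5 ∣ s.natAbs := Int.natCast_dvd.mp (Int.dvd_of_emod_eq_zero h5s)
        have hfac : (Nat.card G).factorization 5 ≤ (charDegree χ.1).factorization 5 := by
          rw [h, factorization_eq' (p := 5) (a := 1) (b := 19008) (by norm_num) (by norm_num)
            (by norm_num), ← hd]
          exact (Nat.Prime.dvd_iff_one_le_factorization (by norm_num)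
            (by rw [hd]; exact (ClassCount.charDegree_pos χ).ne')).mp h5d
        have h0 : χ.1 g = 0 := by
          exact Char.vanishes_of_defect_zero (by norm_num) χ.2 (dg_eq χ) hfac g (h5 hf)
        rw [hv] at h0
        exact_mod_cast h0
      · exact Or.inl (Or.inr h5s)
    · exact Or.inl (Or.inl (by simpa using hf))

end Cfsg.Agent.Order95040
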