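/-
Sums of the values at two elements on the principal block at 11.

Main results (namespace `Cfsg.Agent.Order95040`): `Frame.HasTr`, `Frame.norm_tr`, `Frame.fibOK_tr`,
`Frame.evenOK_tr`, `okv_trace`, `centralizer_pow_eq`, `Frame.powIrr_val`.
-/
import Cfsg.Agent.Lib.Order95040.Columns

set_option autoImplicit false

open scoped ComplexConjugate

namespace Cfsg.Agent.Order95040

open Cfsg Subgroup
open Order7920 (oneChar conjChar isChar dg_eq dg_conjChar)

theorem occ_q4 (x : Fin 4 → ℤ) (s : ℤ) :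
    occ (q4 x) s = (Finset.univ.filter fun j => x j = s).card := by
  rw [Finset.card_filter, Fin.sum_univ_four]
  simp only [occ, q4, List.filter_cons, List.filter_nil, beq_iff_eq]
  split_ifs <;> simp_all

variable {G : Type*} [Group G] [Finite G]

theorem centralizer_pow_eq {g : G} {k : ℕ} (hk : k.Coprime (orderOf g)) :
    centralizer ({g ^ k} : Set G) = centralizer ({g} : Set G) := by
  obtain ⟨m, hm⟩ := exists_pow_eq_self_of_coprime hk
  ext x
  simp only [mem_centralizer_singleton_iff]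
  refine ⟨fun h => ?_, fun h => ((show Commute g x from h.symm).pow_left k).eq.symm⟩
  have h' := ((show Commute (g ^ k) x from h.symm).pow_left m).eq.symm
  rwa [hm] at h'

theorem csize_congr (h : Nat.card G = 95040) {g g' : G}
    (he : centralizer ({g'} : Set G) = centralizer ({g} : Set G)) : csize g' = csize g := by
  have h1 := csize_mul h g
  have h2 := csize_mul h g'
  rw [he] at h2
  exact Nat.eq_of_mul_eq_mul_right Nat.card_pos (h2.trans h1.symm)

namespace Frame

variable {a : G} (F : Frame a)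

theorem unique_of_occ {i : Fin 4} (hi : occ F.row (F.x i) = 1) : ∀ j, F.x j = F.x i → j = i := by
  intro j hj
  rw [row, occ_q4] at hi
  exact Finset.card_le_one.mp hi.le j (by simp [hj]) i (by simp)

/-- A block character whose signed degree occurs once has values fixed by Galois twists. -/
theorem powIrr_val {i : Fin 4} (hi : occ F.row (F.x i) = 1) {k : ℕ} (hk : k.Coprime (Nat.card G))
    (g : G) : (F.al i).1 (g ^ k) = (F.al i).1 g :=
  congrFun (congrArg Subtype.val (F.powIrr_al i (F.unique_of_occ hi) hk)) g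

/-- The sums of the block values at `g` and `g'` are the integers `t`. -/
def HasTr (g g' : G) (t : Fin 4 → ℤ) : Prop :=
  (¬ 11 ∣ orderOf g ∧ ¬ 11 ∣ orderOf g') ∧ ∀ i, (F.al i).1 g + (F.al i).1 g' = (t i : ℂ)

theorem val_e_tr {g g' : G} {t : Fin 4 → ℤ} (ht : F.HasTr g g' t) :
    F.e.1 g + F.e.1 g' = (veOf 2 F.row (q4 t) : ℂ) := by
  rw [F.rel_sign g ht.1.1, F.rel_sign g' ht.1.2, F.veOf_eq]
  push_cast
  simp only [← ht.2, mul_add, Finset.sum_add_distrib]
  ring

theorem norm_tr [Fintype (IrrCharacter G)] {g g' : G} {t : Fin 4 → ℤ} (ht : F.HasTr g g' t) {B : ℤ}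
    (hB : ∑ χ : IrrCharacter G, Complex.normSq (χ.1 g + χ.1 g') ≤ (B : ℝ)) :
    normOf 2 F.row (q4 t) ≤ B := by
  classical
  rw [F.sum_eq] at hB
  have hce : (conjChar F.e).1 g + (conjChar F.e).1 g' = (veOf 2 F.row (q4 t) : ℂ) := by
    rw [← F.val_e_tr ht]
    show conj (F.e.1 g) + conj (F.e.1 g') = _
    rw [F.e_real g ht.1.1, F.e_real g' ht.1.2]
  have h0 : 0 ≤ ∑ χ ∈ F.rest, Complex.normSq (χ.1 g + χ.1 g') :=
    Finset.sum_nonneg fun χ _ => Complex.normSq_nonneg _
  simp only [F.val_e_tr ht, hce, ht.2, Complex.normSq_intCast, oneChar, Pi.one_apply] at hB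
  rw [show ((1 : ℂ) + 1) = ((2 : ℤ) : ℂ) by norm_num, Complex.normSq_intCast] at hB
  have : ((normOf 2 F.row (q4 t) : ℤ) : ℝ) ≤ (B : ℝ) := by
    rw [normOf]
    simp only [row, sum2_q4] at hB ⊢
    push_cast at hB ⊢
    linarith
  exact_mod_cast this

/-- The class multiplication constants of two pairs of classes and an element of order 11. -/
theorem fibOK_tr [IsSimpleGroup G] (h : Nat.card G = 95040) {g g' b b' : G} {t s : Fin 4 → ℤ}
    (ht : F.HasTr g g' t) (hs : F.HasTr b b' s) (hg : csize g' = csize g) (hb : csize b' = csize b) :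
    fibOK ((csize g : ℤ) * (csize b : ℤ)) (tzOf 4 2 F.row (q4 t) (q4 s)) = true := by
  set n := ClassCount.fibreCount g b a + ClassCount.fibreCount g b' a + ClassCount.fibreCount g' b a +
    ClassCount.fibreCount g' b' a with hn
  have h1 := F.fib_complex h ht.1.1 hs.1.1
  have h2 := F.fib_complex h ht.1.1 hs.1.2
  have h3 := F.fib_complex h ht.1.2 hs.1.1
  have h4 := F.fib_complex h ht.1.2 hs.1.2
  rw [hb] at h2 h4
  rw [hg] at h3 h4
  have hc : (95040 : ℂ) * (n : ℂ) = (csize g : ℂ) * (csize b : ℂ) *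
      (4 + ∑ i, ((F.al i).1 g + (F.al i).1 g') * ((F.al i).1 b + (F.al i).1 b') / (F.x i : ℂ) -
        (F.e.1 g + F.e.1 g') * (F.e.1 b + F.e.1 b') / (F.y : ℂ)) := by
    rw [hn]
    push_cast
    simp only [mul_add, add_mul, add_div, Finset.sum_add_distrib]
    linear_combination h1 + h2 + h3 + h4
  simp only [ht.2, hs.2, F.val_e_tr ht, F.val_e_tr hs] at hc
  have heq : (95040 * 95040 : ℤ) * (n : ℤ) =
      (csize g : ℤ) * (csize b : ℤ) * tzOf 4 2 F.row (q4 t) (q4 s) := by
    rw [tzOf, F.yOf_row]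
    simp only [row, sum3_q4]
    have hy := ediv_cast (F.y_dvd h) F.y_ne
    have hx : ∀ i, (((95040 : ℤ) / F.x i : ℤ) : ℂ) = (95040 : ℂ) / (F.x i : ℂ) :=
      fun i => ediv_cast (F.x_dvd h i) (F.x_ne i)
    refine Int.cast_injective (α := ℂ) ?_
    simp only [Int.cast_mul, Int.cast_add, Int.cast_sub, Int.cast_sum, Int.cast_natCast, hy, hx,
      Int.cast_ofNat]
    rw [mul_assoc (95040 : ℂ), hc]
    simp only [row]
    rw [show ∑ i, (t i : ℂ) * (s i : ℂ) * (95040 / (F.x i : ℂ)) =
        95040 * ∑ i, (t i : ℂ) * (s i : ℂ) / (F.x i : ℂ) by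
      rw [Finset.mul_sum]; exact Finset.sum_congr rfl fun i _ => by ring]
    ring
  simp only [fibOK, Bool.and_eq_true, decide_eq_true_eq, ← heq]
  exact ⟨by positivity, Int.mul_emod_right _ _⟩

/-- If `g'` is a Galois conjugate of `g` then rational traces are even. -/
theorem evenOK_tr {g g' : G} {t : Fin 4 → ℤ} (ht : F.HasTr g g' t) {k : ℕ}
    (hk : k.Coprime (Nat.card G)) (hg : g' = g ^ k) : evenOK F.row (q4 t) = true := by
  simp only [evenOK, decide_eq_true_eq, row, sum3_q4, zero_mul, add_zero]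
  refine Finset.sum_eq_zero fun i _ => ?_
  by_cases hi : occ (q4 F.x) (F.x i) = 1
  · simp only [hi, decide_true, cond_true]
    have h2 := ht.2 i
    rw [hg, F.powIrr_val hi hk, ← two_mul] at h2
    obtain ⟨b, -, hb⟩ := Order7920.int_of_rat (k := 2) (a := t i) (by norm_num)
      (Order7920.isIntegral_apply (isChar (F.al i)) g) (by exact_mod_cast h2)
    rw [← hb]
    exact Int.mul_emod_right _ _
  · simp only [hi, decide_false, cond_false]

end Frame

/-- The conditions on the sum of two values. -/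
theorem okv_trace [IsSimpleGroup G] (h : Nat.card G = 95040) (χ : IrrCharacter G) (hne : χ ≠ oneChar G)
    {g g' : G} (hg : g ≠ 1) (hg' : g' ≠ 1) (hK : csize g' = csize g) {s v q B : ℤ} {five : Bool}
    (hd : s.natAbs = charDegree χ.1) (hv : χ.1 g + χ.1 g' = (v : ℂ)) (hB : v * v ≤ B)
    (hq : (2 * (s.natAbs : ℤ) - v) % q = 0) (h5 : five = true → 5 ∣ orderOf g ∧ 5 ∣ orderOf g') :
    okv 2 q B (csize g : ℤ) five s v = true := by
  have hne' : χ.1 ≠ 1 := fun e => hne (Subtype.ext e)
  simp only [okv, Bool.and_eq_true, Bool.or_eq_true, decide_eq_true_eq, Bool.not_eq_true']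
  refine ⟨⟨⟨⟨hB, ?_⟩, hq⟩, ?_⟩, ?_⟩
  · have h1 := SmallOrders.BlockDegrees.norm_lt_of_ne_one (not_comm h) χ.2 hne' hg
    have h2 := SmallOrders.BlockDegrees.norm_lt_of_ne_one (not_comm h) χ.2 hne' hg'
    have h3 := norm_add_le (χ.1 g) (χ.1 g')
    rw [hv, Complex.norm_intCast] at h3
    have h' : ((v.natAbs : ℤ) : ℝ) < ((2 * (s.natAbs : ℤ) : ℤ) : ℝ) := by
      rw [hd, Int.natCast_natAbs, Int.cast_abs, Int.cast_mul, Int.cast_natCast, Int.cast_ofNat]
      linarith
    exact_mod_cast h'
  · have hint := (ClassCount.isIntegral_omega χ.2 g).add (ClassCount.isIntegral_omega χ.2 g')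
    simp only [ClassCount.omega] at hint
    rw [show Nat.card {u : G // IsConj g' u} = Nat.card {u : G // IsConj g u} from hK, ← add_div,
      ← mul_add, hv, dg_eq, ← hd] at hint
    have hs0 : s.natAbs ≠ 0 := hd ▸ (ClassCount.charDegree_pos χ).ne'
    obtain ⟨b, -, hb⟩ := Order7920.int_of_rat (k := s.natAbs) (a := (csize g : ℤ) * v) hs0 hint (by
      rw [mul_div_cancel₀ _ (Nat.cast_ne_zero.mpr hs0)]
      simp [csize])
    exact Int.emod_eq_zero_of_dvd ⟨b, hb.symm⟩
  · by_cases hf : five = true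
    · by_cases h5s : s % 5 = 0
      · right
        have h5d : 5 ∣ s.natAbs := Int.natCast_dvd.mp (Int.dvd_of_emod_eq_zero h5s)
        have hfac : (Nat.card G).factorization 5 ≤ (charDegree χ.1).factorization 5 := by
          rw [h, factorization_eq' (p := 5) (a := 1) (b := 19008) (by norm_num) (by norm_num)
            (by norm_num), ← hd]
          exact (Nat.Prime.dvd_iff_one_le_factorization (by norm_num)
            (by rw [hd]; exact (ClassCount.charDegree_pos χ).ne')).mp h5d
        have h1 : χ.1 g = 0 :=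
          Char.vanishes_of_defect_zero (by norm_num) χ.2 (dg_eq χ) hfac g (h5 hf).1
        have h2 : χ.1 g' = 0 :=
          Char.vanishes_of_defect_zero (by norm_num) χ.2 (dg_eq χ) hfac g' (h5 hf).2
        rw [h1, h2, add_zero] at hv
        exact_mod_cast hv.symm
      · exact Or.inl (Or.inr h5s)
    · exact Or.inl (Or.inl (by simpa using hf))

end Cfsg.Agent.Order95040
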