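/-
Elements of order 5 of a simple group of order 95040.

Main results (namespace `Cfsg.Agent.Order95040`): `two_dvd_centralizer_five`, `ten_involution`,
`exists_invol_col`, `five_facts`.
-/
import Cfsg.Agent.Lib.Order95040.Trace
import Cfsg.Agent.Lib.Order95040.FiveLocal

set_option autoImplicit false

open scoped ComplexConjugate

namespace Cfsg.Agent.Order95040

open Cfsg Subgroup
open Order7920 (oneChar conjChar isChar dg_eq dg_conjChar)

variable {G : Type*} [Group G] [Finite G]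

omit [Finite G] in
theorem not_eleven_dvd_of_orderOf {g : G} {n : ℕ} (hg : orderOf g = n) (hn : ¬ 11 ∣ n) :
    ¬ 11 ∣ orderOf g := hg ▸ hn

/-- A sum of two values at elements of order 5. -/
theorem exists_trace_five {w : G} (hw : orderOf w = 5) (h4 : IsConj w (w ^ 4)) (χ : IrrCharacter G) :
    ∃ z : ℤ, χ.1 w + χ.1 (w ^ 2) = z ∧ (2 * (charDegree χ.1 : ℤ) - z) % 5 = 0 := by
  have hg : w ^ 5 = 1 := orderOf_dvd_iff_pow_eq_one.mp (hw ▸ dvd_rfl)
  obtain ⟨m, hm⟩ := Order7920.sum_pow_char (isChar χ) hg (c := 1) (one_pow _)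
  have e4 : χ.1 (w ^ 4) = χ.1 w := ((Char.isConj_iff_irr _ _).mp h4 χ).symm
  have e3 : χ.1 (w ^ 3) = χ.1 (w ^ 2) := by
    obtain ⟨c, hc⟩ := isConj_iff.mp h4
    have h3 : c * w ^ 2 * c⁻¹ = w ^ 3 := by
      rw [← conj_pow, hc, ← pow_mul, show 4 * 2 = 5 + 3 from rfl, pow_add, hg, one_mul]
    exact ((Char.isConj_iff_irr _ _).mp (isConj_iff.mpr ⟨c, h3⟩) χ).symm
  simp only [Finset.sum_range_succ, Finset.sum_range_zero, pow_zero, pow_one, one_pow, mul_one,
    zero_add, dg_eq, e3, e4] at hm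
  obtain ⟨z, hz, hz'⟩ := Order7920.int_of_rat (k := 2) (a := 5 * (m : ℤ) - (charDegree χ.1 : ℤ))
    (by norm_num) ((Order7920.isIntegral_apply (isChar χ) w).add
      (Order7920.isIntegral_apply (isChar χ) (w ^ 2)))
    (by push_cast; linear_combination hm)
  exact ⟨z, hz, by omega⟩

/-- A sum of two values at an element of order 3. -/
theorem exists_trace_three {u : G} (hu : orderOf u = 3) (χ : IrrCharacter G) :
    ∃ z : ℤ, χ.1 u + χ.1 u⁻¹ = z ∧ (2 * (charDegree χ.1 : ℤ) - z) % 3 = 0 := by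
  obtain ⟨s, q, hs, -, hd, -⟩ := Order7920.val_three (isChar χ) (dg_eq χ)
    (orderOf_dvd_iff_pow_eq_one.mp (dvd_of_eq hu))
  exact ⟨s, by rw [Char.IsCharacter.apply_inv (isChar χ), hs], by omega⟩

omit [Group G] [Finite G] in
theorem coprime_pow_card (h : Nat.card G = 95040) {k : ℕ} (hk : Nat.Coprime k 95040) :
    k.Coprime (Nat.card G) := by rw [h]; exact hk

variable [IsSimpleGroup G]

theorem Frame.allCols_trace (h : Nat.card G = 95040) {a : G} (F : Frame a) {g g' : G} (hg : g ≠ 1)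
    (hg' : g' ≠ 1) (hK : csize g' = csize g) {t : Fin 4 → ℤ} (ht : F.HasTr g g' t) {r : ℕ} {q B : ℤ}
    {five : Bool} {P : Q4 → Bool}
    (hc : allCols r 2 q B (csize g : ℤ) five F.row P = true) (hr : B < ((r : ℤ) + 1) * ((r : ℤ) + 1))
    (hn : normOf 2 F.row (q4 t) ≤ B)
    (hz : ∀ χ : IrrCharacter G, ∃ z : ℤ, χ.1 g + χ.1 g' = z ∧ (2 * (charDegree χ.1 : ℤ) - z) % q = 0)
    (h5 : five = true → 5 ∣ orderOf g ∧ 5 ∣ orderOf g') : P (q4 t) = true := by
  have hB : ∀ i, t i * t i ≤ B := fun i => by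
    refine le_trans ?_ hn
    have h1 := Finset.single_le_sum (f := fun i => t i * t i) (fun i _ => mul_self_nonneg _)
      (Finset.mem_univ i)
    simp only [normOf, row, sum2_q4]
    nlinarith [mul_self_nonneg (veOf 2 (q4 F.x) (q4 t))]
  have hval : ∀ i, okv 2 q B (csize g : ℤ) five (F.x i) (t i) = true := fun i => by
    obtain ⟨z, hz1, hz2⟩ := hz (F.al i)
    have e : z = t i := by rw [ht.2 i] at hz1; exact_mod_cast hz1.symm
    refine okv_trace h (F.al i) (F.al_ne_one i) hg hg' hK (F.deg i) (ht.2 i) (hB i) ?_ h5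
    rw [← e, F.deg i]
    exact hz2
  refine allCols_sound hc hr (hval 0) (hval 1) (hval 2) (hval 3) ?_ hn
  obtain ⟨z, hz1, hz2⟩ := hz F.e
  have e : z = veOf 2 F.row (q4 t) := by rw [F.val_e_tr ht] at hz1; exact_mod_cast hz1.symm
  rw [F.yOf_row]
  refine okv_trace h F.e F.e_ne_one hg hg' hK F.deg_e (F.val_e_tr ht) ?_ ?_ h5
  · refine le_trans ?_ hn
    have h1 : 0 ≤ ∑ i, t i * t i := Finset.sum_nonneg fun i _ => mul_self_nonneg _
    simp only [normOf, row, sum2_q4]
    nlinarith [mul_self_nonneg (veOf 2 (q4 F.x) (q4 t))]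
  · rw [← e, F.deg_e]
    exact hz2

/-- The centraliser of an element of order 5 has even order. -/
theorem two_dvd_centralizer_five (h : Nat.card G = 95040) {w : G} (hw : orderOf w = 5) :
    2 ∣ Nat.card (centralizer ({w} : Set G)) := by
  classical
  obtain ⟨C, j, hC, hN, -, hle, hcases⟩ := five_cases h hw
  rcases hcases with ⟨h2, -⟩ | ⟨rfl, rfl⟩ | ⟨rfl, rfl⟩
  · rw [hC]; exact h2
  · exact absurd (no_centralizer_135 h hw hC (hN.trans (by norm_num))) id
  exfalso
  obtain ⟨u, hu, h540, hu11⟩ := exists_three_of_45 h hw hC (hN.trans (by norm_num)) hle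
  obtain ⟨hns, hc4'⟩ := not_isConj_sq_of_45 hw (hN.trans (by norm_num))
  have hc4 := hc4' hC hle
  obtain ⟨a, ha⟩ := exists_prime_orderOf_dvd_card' (G := G) 11 (by rw [h]; norm_num)
  obtain ⟨F⟩ := exists_frame h ha
  have := Fintype.ofFinite (IrrCharacter G)
  -- the traces at `w`
  have hw2 : orderOf (w ^ 2) = 5 := by
    rw [orderOf_pow' w two_ne_zero, hw]; rfl
  have hCw2 : centralizer ({w ^ 2} : Set G) = centralizer ({w} : Set G) :=
    centralizer_pow_eq (by rw [hw]; norm_num)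
  choose t ht using fun i => exists_trace_five hw hc4 (F.al i)
  have hT : F.HasTr w (w ^ 2) t :=
    ⟨⟨not_eleven_dvd_of_orderOf hw (by norm_num), not_eleven_dvd_of_orderOf hw2 (by norm_num)⟩,
      fun i => (ht i).1⟩
  have hKw : (csize w : ℤ) = 2112 := by rw [csize_eq h hC]; norm_num
  have hK2 : csize (w ^ 2) = csize w := csize_congr h hCw2
  have hnw : normOf 2 F.row (q4 t) ≤ 90 := by
    refine F.norm_tr hT (le_of_eq ?_)
    have o1 := Char.column_orth w w
    have o2 := Char.column_orth (w ^ 2) (w ^ 2)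
    have o3 := Char.column_orth w (w ^ 2)
    rw [if_pos (IsConj.refl w), hC] at o1
    rw [if_pos (IsConj.refl _), hCw2, hC] at o2
    rw [if_neg hns] at o3
    have r1 := congrArg Complex.re o1
    have r2 := congrArg Complex.re o2
    have r3 := congrArg Complex.re o3
    simp only [Complex.re_sum, Complex.mul_conj, Complex.ofReal_re, Complex.natCast_re,
      Complex.zero_re] at r1 r2 r3
    simp only [Complex.normSq_add, Finset.sum_add_distrib, ← Finset.mul_sum, r1, r2, r3]
    norm_num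
  have hev : evenOK F.row (q4 t) = true :=
    F.evenOK_tr hT (coprime_pow_card h (k := 7) (by norm_num))
      (by rw [show (7 : ℕ) = 5 + 2 from rfl, pow_add, orderOf_dvd_iff_pow_eq_one.mp (dvd_of_eq hw),
        one_mul])
  have hfw := F.fibOK_tr h hT hT hK2 hK2
  rw [hKw] at hfw
  have hchk := oddCheck_true
  simp only [oddCheck, List.all_eq_true] at hchk
  have hP := hchk _ (F.row_mem h)
  rw [← hKw] at hP
  have hP' := F.allCols_trace h (by rintro rfl; simp at hw) (by intro e; rw [e] at hw2; simp at hw2) hK2 hT hP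
    (by norm_num) hnw (exists_trace_five hw hc4)
    (fun _ => ⟨dvd_of_eq hw.symm, dvd_of_eq hw2.symm⟩)
  rw [hKw, hev, hfw] at hP'
  simp only [Bool.and_self, Bool.not_true, Bool.false_or, List.all_eq_true] at hP'
  -- the traces at `u`
  obtain ⟨d, hd⟩ := h540
  have hd16 : d ∣ 16 := by
    have h1 := card_subgroup_dvd_card (centralizer ({u} : Set G))
    rw [hd, h, show 95040 = 540 * (11 * 16) by norm_num] at h1
    refine Nat.Coprime.dvd_of_dvd_mul_left ?_ (Nat.dvd_of_mul_dvd_mul_left (by norm_num) h1)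
    exact ((Nat.Prime.coprime_iff_not_dvd (by norm_num : Nat.Prime 11)).mpr
      fun e => hu11 (hd ▸ e.mul_left _)).symm
  have hCmem : ((540 * d : ℕ) : ℤ) ∈ [540, 1080, 2160, 4320, 8640] := by
    have : d ≤ 16 := Nat.le_of_dvd (by norm_num) hd16
    interval_cases d <;> norm_num at hd16 <;> norm_num
  have hui : orderOf u⁻¹ = 3 := by rw [orderOf_inv, hu]
  choose s hs using fun i => exists_trace_three hu (F.al i)
  have hS : F.HasTr u u⁻¹ s :=
    ⟨⟨not_eleven_dvd_of_orderOf hu (by norm_num), not_eleven_dvd_of_orderOf hui (by norm_num)⟩,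
      fun i => (hs i).1⟩
  have hKu : (csize u : ℤ) = 95040 / ((540 * d : ℕ) : ℤ) := csize_eq h hd
  have hui3 : u⁻¹ = u ^ 95039 := by
    refine inv_eq_of_mul_eq_one_left ?_
    rw [← pow_succ, ← orderOf_dvd_iff_pow_eq_one, hu]; norm_num
  have hKi : csize u⁻¹ = csize u := by
    refine csize_congr h ?_
    rw [hui3]
    exact centralizer_pow_eq (by rw [hu]; norm_num)
  have hnu : normOf 2 F.row (q4 s) ≤ 4 * ((540 * d : ℕ) : ℤ) := by
    refine F.norm_tr hS ?_
    have o1 := Char.column_orth u u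
    rw [if_pos (IsConj.refl u), hd] at o1
    have r1 := congrArg Complex.re o1
    simp only [Complex.re_sum, Complex.mul_conj, Complex.ofReal_re, Complex.natCast_re] at r1
    push_cast at r1 ⊢
    rw [← r1, Finset.mul_sum]
    refine Finset.sum_le_sum fun χ _ => ?_
    rw [Char.IsCharacter.apply_inv (isChar χ), Complex.add_conj, Complex.normSq_ofReal,
      Complex.normSq_apply]
    nlinarith [mul_self_nonneg (χ.1 u).im]
  have hev2 : evenOK F.row (q4 s) = true :=
    F.evenOK_tr hS (coprime_pow_card h (k := 95039) (by norm_num)) hui3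
  have hf1 := F.fibOK_tr h hS hT hKi hK2
  have hf2 := F.fibOK_tr h hS hS hKi hKi
  rw [hKw] at hf1
  have hQ := hP' _ hCmem
  rw [← hKu] at hQ
  have hr : 4 * ((540 * d : ℕ) : ℤ) < ((186 : ℕ) + 1) * ((186 : ℕ) + 1) := by
    have : d ≤ 16 := Nat.le_of_dvd (by norm_num) hd16
    push_cast; omega
  have hQ' := F.allCols_trace h (by rintro rfl; simp at hu) (by intro e; rw [e] at hui; simp at hui) hKi hS hQ
    hr hnu (exists_trace_three hu) (fun e => by simp at e)
  rw [hev2, hf1, hf2] at hQ'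
  simp at hQ'

/-- An element of order 5 commutes with an involution `y` with `10 ∣ |C(y)|` and `11 ∤ |C(y)|`. -/
theorem ten_involution (h : Nat.card G = 95040) {w : G} (hw : orderOf w = 5) :
    ∃ y : G, orderOf y = 2 ∧ Commute y w ∧ ∃ C : ℕ, Nat.card (centralizer ({y} : Set G)) = C ∧
      (C : ℤ) ∈ tenOrders := by
  obtain ⟨⟨y, hy⟩, hyo⟩ := exists_prime_orderOf_dvd_card' 2 (two_dvd_centralizer_five h hw)
  rw [Subgroup.orderOf_mk] at hyo
  have hyw : Commute y w := mem_centralizer_singleton_iff.mp hy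
  refine ⟨y, hyo, hyw, _, rfl, ?_⟩
  have h11 := not_eleven_dvd_centralizer h (u := y) (by rintro rfl; simp at hyo) (by omega)
  have h5 : 5 ∣ Nat.card (centralizer ({y} : Set G)) :=
    hw ▸ orderOf_dvd_natCard _ (mem_centralizer_singleton_iff.mpr hyw.eq.symm)
  have h2 : 2 ∣ Nat.card (centralizer ({y} : Set G)) :=
    hyo ▸ orderOf_dvd_natCard _ (mem_centralizer_singleton_iff.mpr rfl)
  have hd : Nat.card (centralizer ({y} : Set G)) ∣ 2 ^ 6 * 3 ^ 3 * 5 := by
    have h1 := card_subgroup_dvd_card (centralizer ({y} : Set G))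
    rw [h, show 95040 = 11 * (2 ^ 6 * 3 ^ 3 * 5) by norm_num] at h1
    exact Nat.Coprime.dvd_of_dvd_mul_left
      ((Nat.Prime.coprime_iff_not_dvd (by norm_num : Nat.Prime 11)).mpr h11).symm h1
  obtain ⟨ab, c, hab, hc, e⟩ := Nat.dvd_mul.mp hd
  obtain ⟨x, z, hx, hz, rfl⟩ := Nat.dvd_mul.mp hab
  obtain ⟨i, hi, rfl⟩ := (Nat.dvd_prime_pow Nat.prime_two).mp hx
  obtain ⟨j, hj, rfl⟩ := (Nat.dvd_prime_pow Nat.prime_three).mp hz
  have hc5 : c = 5 := by
    rcases (Nat.dvd_prime (by norm_num : Nat.Prime 5)).mp hc with rfl | rfl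
    · exfalso
      rw [← e, mul_one] at h5
      rcases (Nat.Prime.dvd_mul (by norm_num : Nat.Prime 5)).mp h5 with h5 | h5 <;>
        exact absurd ((Nat.prime_five.dvd_of_dvd_pow h5)) (by norm_num)
    · rfl
  subst hc5
  rw [← e]
  refine (tenOrders_complete i (by omega) j (by omega)).resolve_left ?_
  rintro rfl
  rw [← e, pow_zero, one_mul] at h2
  rcases (Nat.Prime.dvd_mul Nat.prime_two).mp h2 with h2 | h2
  · exact absurd (Nat.prime_two.dvd_of_dvd_pow h2) (by norm_num)
  · norm_num at h2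

/-- No involution inverts an element of order 11. -/
theorem fibreCount_invol (h : Nat.card G = 95040) {a : G} (ha : orderOf a = 11) {t t' : G}
    (ht : orderOf t = 2) (ht' : orderOf t' = 2) : ClassCount.fibreCount t t' a = 0 := by
  rw [ClassCount.fibreCount, Nat.card_eq_zero]
  refine Or.inl ⟨fun p => ?_⟩
  obtain ⟨x, hx, hz⟩ := p
  obtain ⟨c, rfl⟩ := isConj_iff.mp hx
  obtain ⟨c', hc'⟩ := isConj_iff.mp hz
  set x := c * t * c⁻¹
  have hxo : orderOf x = 2 := (orderOf_conj c t).trans ht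
  have hzo : orderOf (x⁻¹ * a) = 2 := by rw [← hc', orderOf_conj, ht']
  refine not_isConj_inv_eleven h ha (isConj_iff.mpr ⟨x, ?_⟩)
  have h1 : (x⁻¹ * a) * (x⁻¹ * a) = 1 := by rw [← pow_two, ← hzo, pow_orderOf_eq_one]
  have hxi : x⁻¹ = x := inv_eq_self_of_orderOf_eq_two hxo
  rw [hxi] at h1 ⊢
  exact eq_inv_of_mul_eq_one_left (by rw [← h1]; group)

namespace Frame

variable {a : G} (F : Frame a)

/-- The column of an involution and the conditions it satisfies. -/
theorem exists_invol_col (h : Nat.card G = 95040) (ha : orderOf a = 11) {y : G} (hy : orderOf y = 2)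
    {C : ℕ} (hC : Nat.card (centralizer ({y} : Set G)) = C) (hC8 : C ≤ 8640) :
    ∃ v : Fin 4 → ℤ, F.HasCol y v ∧ involOK C F.row (q4 v) = true ∧
      (∀ P : Q4 → Bool, allCols 93 1 4 C (95040 / (C : ℤ)) false F.row P = true → P (q4 v) = true) := by
  have hy1 : y ≠ 1 := by rintro rfl; simp at hy
  have hyy : y * y = 1 := by rw [← pow_two, ← hy, pow_orderOf_eq_one]
  choose v hv hv4 using fun i =>
    SmallOrders.BlockDegrees.exists_int_mod_four (not_comm h) (isChar (F.al i)) hyy
  have hV : F.HasCol y v := ⟨not_eleven_dvd_of_orderOf hy (by norm_num), hv⟩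
  refine ⟨v, hV, ?_, fun P hP => ?_⟩
  · have hK := csize_eq h hC
    have hfib := F.fib_eq h hV hV
    rw [fibreCount_invol h ha hy hy] at hfib
    have hK0 : (csize y : ℤ) ≠ 0 := by
      have h1 := csize_mul h y
      rintro e
      rw [Int.natCast_eq_zero.mp e] at h1
      simp at h1
    have htz : tzOf 1 1 F.row (q4 v) (q4 v) = 0 := by
      refine (mul_eq_zero.mp ?_).resolve_left (mul_ne_zero hK0 hK0)
      simpa using hfib.symm
    obtain ⟨s1, s2⟩ := F.fibOK_sig h ha hV
    simp only [involOK, Bool.and_eq_true, decide_eq_true_eq]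
    exact ⟨⟨⟨htz, s1⟩, s2⟩, F.cs_le h hy1 hC hV⟩
  · have hn := F.norm_le hC hV
    have hB : ∀ i, v i * v i ≤ (C : ℤ) := fun i => by
      refine le_trans ?_ hn
      have h1 := Finset.single_le_sum (f := fun i => v i * v i) (fun i _ => mul_self_nonneg _)
        (Finset.mem_univ i)
      simp only [normOf, row, sum2_q4]
      nlinarith [mul_self_nonneg (veOf 1 (q4 F.x) (q4 v))]
    have hval : ∀ i, okv 1 4 C (95040 / (C : ℤ)) false (F.x i) (v i) = true := fun i => by
      rw [← csize_eq h hC]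
      exact okv_value h (F.al i) (F.al_ne_one i) hy1 (F.deg i) (hv i) (hB i)
        (by rw [F.deg i]; exact hv4 i) (fun e => by simp at e)
    refine allCols_sound hP (by push_cast; omega) (hval 0) (hval 1) (hval 2) (hval 3) ?_ hn
    rw [← csize_eq h hC, F.yOf_row]
    obtain ⟨z, hz, hz4⟩ := SmallOrders.BlockDegrees.exists_int_mod_four (not_comm h) (isChar F.e) hyy
    have e : z = veOf 1 F.row (q4 v) := by rw [F.val_e_col hV] at hz; exact_mod_cast hz.symm
    refine okv_value h F.e F.e_ne_one hy1 F.deg_e (F.val_e_col hV) ?_ (by rw [← e, F.deg_e]; exact hz4)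
      (fun e => by simp at e)
    refine le_trans ?_ hn
    have h1 : 0 ≤ ∑ i, v i * v i := Finset.sum_nonneg fun i _ => mul_self_nonneg _
    simp only [normOf, row, sum2_q4]
    nlinarith [mul_self_nonneg (veOf 1 (q4 F.x) (q4 v))]

omit [IsSimpleGroup G] in
theorem occ_theRow (hr : F.row = theRow) (i : Fin 4) : occ F.row (F.x i) = 1 := by
  have h := hr
  simp only [row, q4, theRow, Prod.mk.injEq] at h
  obtain ⟨h0, h1, h2, h3⟩ := h
  fin_cases i <;> simp only [hr, h0, h1, h2, h3, Fin.zero_eta, Fin.mk_one, Fin.reduceFinMk] <;>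
    decide +kernel

omit [IsSimpleGroup G] in
theorem x_theRow (hr : F.row = theRow) :
    F.x 0 = -120 ∧ F.x 1 = -54 ∧ F.x 2 = 45 ∧ F.x 3 = 144 ∧ F.y = 16 := by
  have h := hr
  simp only [row, q4, theRow, Prod.mk.injEq] at h
  obtain ⟨h0, h1, h2, h3⟩ := h
  refine ⟨h0, h1, h2, h3, ?_⟩
  rw [← F.yOf_row, hr]; rfl

omit [IsSimpleGroup G] in
/-- The block column at an element of order 5 has integer entries in the row of M12. -/
theorem exists_five_col (h : Nat.card G = 95040) (hr : F.row = theRow) {w : G} (hw : orderOf w = 5) :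
    ∃ v : Fin 4 → ℤ, F.HasCol w v ∧ (∀ i, ((charDegree (F.al i).1 : ℤ) - v i) % 5 = 0) ∧
      ((charDegree F.e.1 : ℤ) - veOf 1 F.row (q4 v)) % 5 = 0 := by
  have hg : w ^ 5 = 1 := orderOf_dvd_iff_pow_eq_one.mp (hw ▸ dvd_rfl)
  have hex : ∀ k ∈ Finset.range 5, k ≠ 0 → ∃ k' : ℕ, k'.Coprime (Nat.card G) ∧ w ^ k' = w ^ k := by
    intro k hk hk0
    rw [Finset.mem_range] at hk
    have key : ∀ k' : ℕ, k'.Coprime 95040 → k' % 5 = k → ∃ k' : ℕ, k'.Coprime (Nat.card G) ∧ w ^ k' = w ^ k :=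
      fun k' h1 h2 => ⟨k', coprime_pow_card h h1, by rw [← h2, ← hw, pow_mod_orderOf]⟩
    interval_cases k
    · omega
    · exact key 1 (by norm_num) rfl
    · exact key 7 (by norm_num) rfl
    · exact key 13 (by norm_num) rfl
    · exact key 19 (by norm_num) rfl
  have hal : ∀ k ∈ Finset.range 5, k ≠ 0 → ∀ i, (F.al i).1 (w ^ k) = (F.al i).1 w := fun k hk hk0 i => by
    obtain ⟨k', hc, he⟩ := hex k hk hk0
    rw [← he]
    exact F.powIrr_val (F.occ_theRow hr i) hc w
  choose v hv hvd using fun i => Order7920.val_rational (isChar (F.al i)) (dg_eq (F.al i))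
    (n := 5) (by norm_num) hg (fun k hk hk0 => hal k hk hk0 i)
  have hw11 : ¬ 11 ∣ orderOf w := not_eleven_dvd_of_orderOf hw (by norm_num)
  have hV : F.HasCol w v := ⟨hw11, hv⟩
  refine ⟨v, hV, fun i => Int.emod_eq_zero_of_dvd (hvd i), ?_⟩
  obtain ⟨z, hz, hzd⟩ := Order7920.val_rational (isChar F.e) (dg_eq F.e) (n := 5) (by norm_num) hg
    (fun k hk hk0 => by
      have hk11 : ¬ 11 ∣ orderOf (w ^ k) := fun hd => hw11 (hd.trans (orderOf_pow_dvd k))
      rw [F.rel_sign _ hk11, F.rel_sign _ hw11]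
      simp only [hal k hk hk0])
  have e : z = veOf 1 F.row (q4 v) := by rw [F.val_e_col hV] at hz; exact_mod_cast hz.symm
  exact Int.emod_eq_zero_of_dvd (e ▸ hzd)

end Frame

/-- The row of M12, and the classes of an element of order 5 and of an involution centralising it. -/
theorem five_facts (h : Nat.card G = 95040) {a : G} (ha : orderOf a = 11) (F : Frame a) {w : G}
    (hw : orderOf w = 5) :
    F.row = theRow ∧ Nat.card (centralizer ({w} : Set G)) = 10 ∧ Nat.card (nz w) = 40 ∧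
      (∃ v, F.HasCol w v ∧ q4 v = wCol) ∧
      ∃ y : G, orderOf y = 2 ∧ Commute y w ∧ Nat.card (centralizer ({y} : Set G)) = 240 ∧
        ∃ v, F.HasCol y v ∧ q4 v = tCol := by
  obtain ⟨y, hy, hyw, Cy, hCy, hmem⟩ := ten_involution h hw
  have hC8 : Cy ≤ 8640 := by
    simp only [tenOrders, List.mem_cons, List.not_mem_nil, or_false] at hmem
    omega
  obtain ⟨v, hV, hOK, hP⟩ := F.exists_invol_col h ha hy hCy hC8
  have hchk := tenCheck_true
  simp only [tenCheck, List.all_eq_true] at hchk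
  have h1 := hP _ (hchk _ (F.row_mem h) _ hmem)
  simp only [hOK, Bool.not_true, Bool.false_or, Bool.and_eq_true, decide_eq_true_eq] at h1
  obtain ⟨⟨hr, hC240⟩, hvt⟩ := h1
  have hC240' : Cy = 240 := by exact_mod_cast hC240
  obtain ⟨C, j, hC, hN, hj, hle, hcases⟩ := five_cases h hw
  have h2 := two_dvd_centralizer_five h hw
  rw [hC] at h2
  have hfive : (C : ℤ) ∈ fiveOrders := by
    rcases hcases with ⟨-, hm⟩ | ⟨rfl, -⟩ | ⟨rfl, -⟩
    · exact hm
    · norm_num at h2
    · norm_num at h2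
  obtain ⟨u, hU, hud, hue⟩ := F.exists_five_col h hr hw
  have hKy : (csize y : ℤ) = 396 := by rw [csize_eq h (hCy.trans hC240')]; norm_num
  have hfib := F.fibOK_fib h hV hU
  rw [hKy, csize_eq h hC] at hfib
  have hchk := fiveCheck_true
  simp only [fiveCheck, List.all_eq_true] at hchk
  have hQ := hchk _ hfive
  have hC86 : (C : ℤ) ≤ 4320 := by
    simp only [fiveOrders, List.mem_cons, List.not_mem_nil, or_false] at hfive
    omega
  have hw1 : w ≠ 1 := by rintro rfl; simp at hw
  have hn := F.norm_le hC hU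
  have hB : ∀ i, u i * u i ≤ (C : ℤ) := fun i => by
    refine le_trans ?_ hn
    have h1 := Finset.single_le_sum (f := fun i => u i * u i) (fun i _ => mul_self_nonneg _)
      (Finset.mem_univ i)
    simp only [normOf, Frame.row, sum2_q4]
    nlinarith [mul_self_nonneg (veOf 1 (q4 F.x) (q4 u))]
  have hval : ∀ i, okv 1 5 C (95040 / (C : ℤ)) true (F.x i) (u i) = true := fun i => by
    rw [← csize_eq h hC]
    exact okv_value h (F.al i) (F.al_ne_one i) hw1 (F.deg i) (hU.2 i) (hB i)
      (by rw [F.deg i]; exact hud i) (fun _ => hw ▸ dvd_rfl)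
  rw [← hr] at hQ
  have hQ' := allCols_sound hQ (by push_cast; omega) (by exact hval 0) (by exact hval 1) (by exact hval 2) (by exact hval 3) (by
    rw [← csize_eq h hC, F.yOf_row]
    refine okv_value h F.e F.e_ne_one hw1 F.deg_e (F.val_e_col hU) ?_ (by rw [F.deg_e]; exact hue)
      (fun _ => hw ▸ dvd_rfl)
    refine le_trans ?_ hn
    have h1 : 0 ≤ ∑ i, u i * u i := Finset.sum_nonneg fun i _ => mul_self_nonneg _
    simp only [normOf, Frame.row, sum2_q4]
    nlinarith [mul_self_nonneg (veOf 1 (q4 F.x) (q4 u))]) hn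
  rw [← hvt, hfib] at hQ'
  simp only [Bool.not_true, Bool.false_or, Bool.and_eq_true, decide_eq_true_eq] at hQ'
  obtain ⟨hC10, huw⟩ := hQ'
  have hC10' : C = 10 := by exact_mod_cast hC10
  refine ⟨hr, hC.trans hC10', ?_, ⟨u, hU, huw⟩, y, hy, hyw, hCy.trans hC240', v, hV, hvt⟩
  obtain ⟨P, hP'⟩ := SmallOrders.exists_sylow_eq_zpowers (card_sylow_subgroup_five h) hw
  have hS := SmallOrders.card_normalizer_mul_card_sylow P
  rw [hP', h, show Nat.card (normalizer ((zpowers w : Subgroup G) : Set G)) = C * j from hN] at hS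
  have hmod : Nat.card (Sylow 5 G) % 5 = 1 := card_sylow_modEq_one 5 G
  rw [hN, hC10']
  rcases hj with rfl | rfl
  · subst hC10'; omega
  · rfl

end Cfsg.Agent.Order95040
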