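/-
A finite search for the characters outside the principal block at 11.

Main results (namespace `Cfsg.Agent.Order95040`): `search_sound`, `othersCheck_true`, `opts_complete`.
-/
import Cfsg.Agent.Lib.Order95040.Check

set_option autoImplicit false
set_option maxRecDepth 20000

namespace Cfsg.Agent.Order95040

/-- Degree divided by 11, value at an element of order 5, value at an involution. -/
abbrev T3 : Type := ℤ × ℤ × ℤ

/-- Six budgets. -/
abbrev St : Type := ℤ × ℤ × ℤ × ℤ × ℤ × ℤ

/-- The six quadratic sums of one triple. -/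
def quad : T3 → St
  | (m, w, t) => (m * m, w * w, t * t, m * t, m * w, w * t)

/-- Use up `k` copies of a triple. -/
def stSub (st : St) (o : T3) (k : ℤ) : St :=
  match st, quad o with
  | (a, b, c, d, e, f), (a', b', c', d', e', f') =>
    (a - k * a', b - k * b', c - k * c', d - k * d', e - k * e', f - k * f')

/-- The budgets can still be met. -/
def alive : St → Bool
  | (a, b, c, d, e, f) => decide (0 ≤ a) && decide (0 ≤ b) && decide (0 ≤ c) &&
      decide (d * d ≤ a * c) && decide (e * e ≤ a * b) && decide (f * f ≤ c * b)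

/-- The largest number of copies of a triple. -/
def capOf : T3 → St → ℕ
  | (m, w, t), (a, b, c, _, _, _) =>
    min (a / (m * m)).toNat (min (bif decide (w = 0) then (a / (m * m)).toNat else (b / (w * w)).toNat)
      (bif decide (t = 0) then (a / (m * m)).toNat else (c / (t * t)).toNat))

/-- The triple cannot occur any more. -/
def skipOf : T3 → St → Bool
  | (_, w, _), (_, b, _, _, _, _) => decide (b = 0) && !decide (w = 0)

/-- All multisets of triples with the given sums satisfy `P`. -/
def search (P : List T3 → Bool) : List T3 → St → List T3 → Bool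
  | [], st, acc => !decide (st = (0, 0, 0, 0, 0, 0)) || P acc
  | o :: os, st, acc =>
    bif skipOf o st then search P os st acc else
      !alive st || (List.range (capOf o st + 1)).all fun k : ℕ =>
        search P os (stSub st o (k : ℤ)) (List.replicate k o ++ acc)

/-- The possible triples. -/
def opts : List T3 :=
  [(18, -2, -10), (18, -2, 10), (18, -2, -6), (18, -2, 6), (3, -2, -11), (12, 2, -8), (12, 2, 8),
  (2, 2, -10), (2, 2, 10), (18, -2, -2), (18, -2, 2), (3, -2, 9), (8, -2, -8), (8, -2, 8), (9, -1,
  11), (16, 1, -8), (16, 1, 8), (12, 2, -4), (12, 2, 4), (3, -2, -7), (12, 2, 0), (2, 2, -6), (2,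
  2, 6), (8, -2, -4), (8, -2, 4), (6, 1, -10), (6, 1, 10), (3, -2, 5), (9, -1, -9), (8, -2, 0),
  (16, 1, -4), (16, 1, 4), (3, -2, -3), (2, 2, -2), (2, 2, 2), (3, -2, 1), (1, 1, -9), (16, 1, 0),
  (9, -1, 7), (4, -1, -8), (4, -1, 8), (1, 1, 7), (9, -1, -5), (6, 1, -6), (6, 1, 6), (9, -1, 3),
  (1, 1, -5), (9, -1, -1), (4, -1, -4), (4, -1, 4), (6, 1, -2), (6, 1, 2), (1, 1, 3), (4, -1, 0),
  (1, 1, -1), (20, 0, 0), (15, 0, 5), (10, 0, -10), (10, 0, 10), (5, 0, -5)]

/-- The triples of M12. -/
def restTriples : List T3 :=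
  [(5, 0, -5), (5, 0, -5), (5, 0, -5), (1, 1, -1), (1, 1, -1), (9, -1, -1), (6, 1, 6), (16, 1, -4)]

/-- The conditions on all the triples together. -/
def leafOK (l : List T3) : Bool :=
  !decide (48 ≤ (l.map fun o => o.1).sum) ||
  !fibOK (396 * 396) (211200 + (l.map fun o => o.2.2 * o.2.2 * o.2.1 * (8640 / o.1)).sum) ||
  decide (l = restTriples)

/-- The search for the characters outside the block. -/
def othersCheck : Bool := search leafOK opts (450, 5, 130, -114, 15, 1) []

theorem othersCheck_true : othersCheck = true := by decide +kernel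

/-- The conditions on a triple. -/
def optOK (o : T3) : Bool :=
  decide (1 ≤ o.1) && decide (8640 % o.1 = 0) && decide ((o.1 - o.2.1) % 5 = 0) &&
    (!decide (o.1 % 5 = 0) || decide (o.2.1 = 0)) && decide ((o.1 + o.2.2) % 4 = 0) &&
    decide ((36 * o.2.2) % o.1 = 0) && decide ((o.2.2.natAbs : ℤ) < 11 * o.1)

/-- All admissible triples are listed. -/
def optsCheck : Bool :=
  (List.range 22).all fun m : ℕ => (List.range 5).all fun w : ℕ => (List.range 23).all fun t : ℕ =>
    !optOK ((m : ℤ), (w : ℤ) - 2, (t : ℤ) - 11) || opts.contains ((m : ℤ), (w : ℤ) - 2, (t : ℤ) - 11)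

theorem optsCheck_true : optsCheck = true := by decide +kernel

theorem opts_complete {m w t : ℤ} (h : optOK (m, w, t) = true) (hm : m < 22) (hw : w * w ≤ 5)
    (ht : t * t ≤ 130) : (m, w, t) ∈ opts := by
  have hc := optsCheck_true
  simp only [optsCheck, List.all_eq_true, List.mem_range] at hc
  have hm1 : 1 ≤ m := by
    simp only [optOK, Bool.and_eq_true, decide_eq_true_eq] at h; exact h.1.1.1.1.1.1
  have hw1 : -2 ≤ w := by nlinarith
  have hw2 : w ≤ 2 := by nlinarith
  have ht1 : -11 ≤ t := by nlinarith
  have ht2 : t ≤ 11 := by nlinarith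
  have := hc m.toNat (by omega) (w + 2).toNat (by omega) (t + 11).toNat (by omega)
  rw [Int.toNat_of_nonneg (by omega), Int.toNat_of_nonneg (by omega),
    Int.toNat_of_nonneg (by omega), add_sub_cancel_right, add_sub_cancel_right] at this
  simpa [h] using this

variable {ι : Type*}

/-- The six sums over a finite family. -/
def stOf (s : Finset ι) (g : ι → T3) : St :=
  (∑ i ∈ s, (g i).1 * (g i).1, ∑ i ∈ s, (g i).2.1 * (g i).2.1, ∑ i ∈ s, (g i).2.2 * (g i).2.2,
    ∑ i ∈ s, (g i).1 * (g i).2.2, ∑ i ∈ s, (g i).1 * (g i).2.1, ∑ i ∈ s, (g i).2.1 * (g i).2.2)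

theorem alive_mk {a b c d e f : ℤ} (ha : 0 ≤ a) (hb : 0 ≤ b) (hc : 0 ≤ c) (hd : d * d ≤ a * c)
    (he : e * e ≤ a * b) (hf : f * f ≤ c * b) : alive (a, b, c, d, e, f) = true := by
  simp [alive, ha, hb, hc, hd, he, hf]

theorem alive_stOf (s : Finset ι) (g : ι → T3) : alive (stOf s g) = true := by
  refine alive_mk ?_ ?_ ?_ ?_ ?_ ?_
  iterate 3 exact Finset.sum_nonneg fun i _ => mul_self_nonneg _
  all_goals
    simp only [← pow_two]
  · exact Finset.sum_mul_sq_le_sq_mul_sq s (fun i => (g i).1) (fun i => (g i).2.2)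
  · exact Finset.sum_mul_sq_le_sq_mul_sq s (fun i => (g i).1) (fun i => (g i).2.1)
  · exact (Finset.sum_mul_sq_le_sq_mul_sq s (fun i => (g i).2.1) (fun i => (g i).2.2)).trans_eq (mul_comm _ _)

theorem le_toNat_div {a q : ℤ} {k : ℕ} (hq : 0 < q) (hk : (k : ℤ) * q ≤ a) : k ≤ (a / q).toNat := by
  have := (Int.le_ediv_iff_mul_le hq).mpr hk
  omega

/-- Soundness of the search. -/
theorem search_sound (g : ι → T3) (P : List T3 → Bool) : ∀ (L : List T3), (∀ o ∈ L, o.1 ≠ 0) →
    ∀ (st : St) (acc : List T3) (s : Finset ι), (∀ i ∈ s, g i ∈ L) → st = stOf s g →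
      search P L st acc = true →
      ∃ l : List T3, (l : Multiset T3) = (acc : Multiset T3) + s.val.map g ∧ P l = true := by
  classical
  intro L
  induction L with
  | nil =>
    intro _ st acc s hs hst hsr
    obtain rfl : s = ∅ := Finset.eq_empty_of_forall_notMem fun i hi => by simpa using hs i hi
    refine ⟨acc, by simp, ?_⟩
    simpa [search, hst, stOf] using hsr
  | cons o os ih =>
    intro hL st acc s hs hst hsr
    have hL' : ∀ o' ∈ os, o'.1 ≠ 0 := fun o' ho' => hL o' (List.mem_cons_of_mem _ ho')
    have hm := hL o List.mem_cons_self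
    set s1 := s.filter fun i => g i = o with hs1
    set s0 := s.filter fun i => ¬ g i = o with hs0
    have hs0L : ∀ i ∈ s0, g i ∈ os := fun i hi => by
      rw [hs0, Finset.mem_filter] at hi
      exact (List.mem_cons.mp (hs i hi.1)).resolve_left hi.2
    have hsum : ∀ f : T3 → ℤ, ∑ i ∈ s, f (g i) = (s1.card : ℤ) * f o + ∑ i ∈ s0, f (g i) := fun f => by
      rw [← Finset.sum_filter_add_sum_filter_not s (fun i => g i = o),
        Finset.sum_congr rfl (g := fun _ => f o) (fun i hi => by rw [(Finset.mem_filter.mp hi).2]),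
        Finset.sum_const, nsmul_eq_mul]
    have hmap : s.val.map g = Multiset.replicate s1.card o + s0.val.map g := by
      rw [← Multiset.filter_add_not (fun i => g i = o) s.val, Multiset.map_add]
      congr 1
      refine Multiset.eq_replicate.mpr ⟨by simp [hs1, Finset.card_def], fun x hx => ?_⟩
      obtain ⟨i, hi, rfl⟩ := Multiset.mem_map.mp hx
      exact (Multiset.mem_filter.mp hi).2
    simp only [search] at hsr
    by_cases hskip : skipOf o st = true
    · rw [hskip, cond_true] at hsr
      have h0 : s1 = ∅ := Finset.eq_empty_of_forall_notMem fun i hi => by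
        obtain ⟨his, hio⟩ := Finset.mem_filter.mp hi
        obtain ⟨m, w, t⟩ := o
        simp only [hst, stOf, skipOf, Bool.and_eq_true, decide_eq_true_eq, Bool.not_eq_true',
          decide_eq_false_iff_not] at hskip
        have h1 := (Finset.sum_eq_zero_iff_of_nonneg (fun j _ => mul_self_nonneg ((g j).2.1))).mp
          hskip.1 i his
        rw [hio] at h1
        exact hskip.2 (mul_self_eq_zero.mp h1)
      have hs' : s0 = s := by
        refine Finset.filter_true_of_mem fun i hi e => ?_
        exact Finset.notMem_empty i (h0 ▸ Finset.mem_filter.mpr ⟨hi, e⟩)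
      exact ih hL' st acc s (fun i hi => hs0L i (hs'.symm ▸ hi)) hst hsr
    · rw [Bool.not_eq_true] at hskip
      rw [hskip, cond_false, hst, alive_stOf, Bool.not_true, Bool.false_or, List.all_eq_true] at hsr
      have hcap : s1.card ≤ capOf o (stOf s g) := by
        obtain ⟨m, w, t⟩ := o
        have hA := hsum fun x => x.1 * x.1
        have hB := hsum fun x => x.2.1 * x.2.1
        have hC := hsum fun x => x.2.2 * x.2.2
        have hA0 : 0 ≤ ∑ i ∈ s0, (g i).1 * (g i).1 := Finset.sum_nonneg fun i _ => mul_self_nonneg _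
        have hB0 : 0 ≤ ∑ i ∈ s0, (g i).2.1 * (g i).2.1 := Finset.sum_nonneg fun i _ => mul_self_nonneg _
        have hC0 : 0 ≤ ∑ i ∈ s0, (g i).2.2 * (g i).2.2 := Finset.sum_nonneg fun i _ => mul_self_nonneg _
        simp only [stOf, capOf]
        have hm2 : 0 < m * m := mul_self_pos.mpr hm
        have h1 := le_toNat_div hm2 (k := s1.card) (a := ∑ i ∈ s, (g i).1 * (g i).1)
          (by rw [hA]; linarith)
        refine le_min h1 (le_min ?_ ?_)
        · by_cases hw : w = 0
          · simp only [hw, decide_true, cond_true]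
            exact h1
          · simp only [hw, decide_false, cond_false]
            exact le_toNat_div (mul_self_pos.mpr hw) (by rw [hB]; linarith)
        · by_cases ht : t = 0
          · simp only [ht, decide_true, cond_true]
            exact h1
          · simp only [ht, decide_false, cond_false]
            exact le_toNat_div (mul_self_pos.mpr ht) (by rw [hC]; linarith)
      have hk := hsr s1.card (List.mem_range.mpr (Nat.lt_succ_of_le hcap))
      obtain ⟨l, hl, hP⟩ := ih hL' _ _ s0 hs0L (by
        obtain ⟨m, w, t⟩ := o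
        simp only [stSub, stOf, quad, hsum fun x => x.1 * x.1, hsum fun x => x.2.1 * x.2.1,
          hsum fun x => x.2.2 * x.2.2, hsum fun x => x.1 * x.2.2, hsum fun x => x.1 * x.2.1,
          hsum fun x => x.2.1 * x.2.2, add_sub_cancel_left]) hk
      refine ⟨l, ?_, hP⟩
      rw [hl, hmap, ← Multiset.coe_add, Multiset.coe_replicate]
      abel

end Cfsg.Agent.Order95040
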