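/-
Involutions and the characters outside the principal block at 11 of a simple group of order 95040.

Main results (namespace `Cfsg.Agent.Order95040`): `invol_cases`, `Setting`, `exists_setting`,
`RestData`, `exists_restData`, `Setting.all_real`, `Setting.invol_conj`.
-/
import Cfsg.Agent.Lib.Order95040.Five
import Cfsg.Agent.Lib.Order95040.Search
import Cfsg.Agent.Lib.FSInd.Basic

set_option autoImplicit false

open scoped ComplexConjugate

namespace Cfsg.Agent.Order95040

open Cfsg Subgroup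
open Order7920 (oneChar conjChar isChar dg_eq dg_conjChar)

theorem exists_list_of_map_eq {α β : Type*} (f : α → β) :
    ∀ (T : List β) (M : Multiset α), M.map f = ↑T → ∃ l : List α, (l : Multiset α) = M ∧ l.map f = T := by
  intro T
  induction T with
  | nil => intro M hM; exact ⟨[], by simpa [eq_comm] using hM, rfl⟩
  | cons b T ih =>
    intro M hM
    have hb : b ∈ M.map f := by rw [hM]; simp
    obtain ⟨x, hx, rfl⟩ := Multiset.mem_map.mp hb
    obtain ⟨M', rfl⟩ := Multiset.exists_cons_of_mem hx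
    rw [Multiset.map_cons, ← Multiset.cons_coe, Multiset.cons_inj_right] at hM
    obtain ⟨l, hl, hlf⟩ := ih M' hM
    exact ⟨x :: l, by rw [← Multiset.cons_coe, hl], by rw [List.map_cons, hlf]⟩

variable {G : Type*} [Group G] [Finite G]

theorem csize_val (h : Nat.card G = 95040) {g : G} {C K : ℕ}
    (hC : Nat.card (centralizer ({g} : Set G)) = C) (hCK : K * C = 95040) : csize g = K := by
  have h1 := csize_mul h g
  rw [hC] at h1
  exact Nat.eq_of_mul_eq_mul_right (hC ▸ Nat.card_pos) (h1.trans hCK.symm)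

variable [IsSimpleGroup G]

/-- The two possible columns of an involution. -/
theorem invol_cases (h : Nat.card G = 95040) {a : G} (ha : orderOf a = 11) (F : Frame a)
    (hr : F.row = theRow) {y : G} (hy : orderOf y = 2) :
    (Nat.card (centralizer ({y} : Set G)) = 240 ∧ ∃ v, F.HasCol y v ∧ q4 v = tCol) ∨
      (Nat.card (centralizer ({y} : Set G)) = 192 ∧ ∃ v, F.HasCol y v ∧ q4 v = sCol) := by
  obtain ⟨C, hC⟩ : ∃ C, Nat.card (centralizer ({y} : Set G)) = C := ⟨_, rfl⟩
  have h11 := not_eleven_dvd_centralizer h (u := y) (by rintro rfl; simp at hy) (by omega)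
  have h2 : 2 ∣ C :=
    hC ▸ hy ▸ orderOf_dvd_natCard _ (mem_centralizer_singleton_iff.mpr rfl)
  have hd : C ∣ 2 ^ 6 * 3 ^ 3 * 5 := by
    have h1 := card_subgroup_dvd_card (centralizer ({y} : Set G))
    rw [hC, h, show 95040 = 11 * (2 ^ 6 * 3 ^ 3 * 5) by norm_num] at h1
    exact Nat.Coprime.dvd_of_dvd_mul_left
      ((Nat.Prime.coprime_iff_not_dvd (by norm_num : Nat.Prime 11)).mpr (hC ▸ h11)).symm h1
  have hC8 : C ≤ 8640 := Nat.le_of_dvd (by norm_num) hd
  have hmem : (C : ℤ) ∈ evenOrders := by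
    obtain ⟨ab, c, hab, hc, e⟩ := Nat.dvd_mul.mp hd
    obtain ⟨x, z, hx, hz, rfl⟩ := Nat.dvd_mul.mp hab
    obtain ⟨i, hi, rfl⟩ := (Nat.dvd_prime_pow Nat.prime_two).mp hx
    obtain ⟨j, hj, rfl⟩ := (Nat.dvd_prime_pow Nat.prime_three).mp hz
    obtain ⟨k, hk, rfl⟩ := (Nat.dvd_prime_pow (i := c) (m := 1) (by norm_num : Nat.Prime 5)).mp
      (by rwa [pow_one])
    rw [← e]
    refine (evenOrders_complete i (by omega) j (by omega) k (by omega)).resolve_left ?_
    rintro rfl
    rw [← e, pow_zero, one_mul] at h2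
    rcases (Nat.Prime.dvd_mul Nat.prime_two).mp h2 with h2 | h2 <;>
      exact absurd (Nat.prime_two.dvd_of_dvd_pow h2) (by norm_num)
  obtain ⟨v, hV, hOK, hP⟩ := F.exists_invol_col h ha hy hC hC8
  have hchk := involCheck_true
  simp only [involCheck, List.all_eq_true] at hchk
  have h1 := hchk _ hmem
  rw [← hr] at h1
  have h2 := hP _ h1
  simp only [hOK, Bool.not_true, Bool.false_or, Bool.or_eq_true, Bool.and_eq_true,
    decide_eq_true_eq] at h2
  rcases h2 with ⟨e1, e2⟩ | ⟨e1, e2⟩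
  · exact Or.inl ⟨by rw [hC]; exact_mod_cast e1, v, hV, e2⟩
  · exact Or.inr ⟨by rw [hC]; exact_mod_cast e1, v, hV, e2⟩

/-- The known classes: elements of orders 11, 5, and the two classes of involutions. -/
structure Setting (G : Type*) [Group G] [Finite G] where
  card : Nat.card G = 95040
  a : G
  ha : orderOf a = 11
  F : Frame a
  row_eq : F.row = theRow
  w : G
  hw : orderOf w = 5
  t : G
  ht : orderOf t = 2
  htw : Commute t w
  s : G
  hs : orderOf s = 2
  cw : Nat.card (centralizer ({w} : Set G)) = 10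
  nw : Nat.card (nz w) = 40
  ct : Nat.card (centralizer ({t} : Set G)) = 240
  cs : Nat.card (centralizer ({s} : Set G)) = 192
  vw : Fin 4 → ℤ
  colw : F.HasCol w vw
  vw_eq : q4 vw = wCol
  vt : Fin 4 → ℤ
  colt : F.HasCol t vt
  vt_eq : q4 vt = tCol
  vs : Fin 4 → ℤ
  cols : F.HasCol s vs
  vs_eq : q4 vs = sCol

/-- A simple group of order 95040 has the classes of `Setting`. -/
theorem exists_setting (h : Nat.card G = 95040) : Nonempty (Setting G) := by
  obtain ⟨a, ha⟩ := exists_prime_orderOf_dvd_card' (G := G) 11 (by rw [h]; norm_num)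
  obtain ⟨w, hw⟩ := exists_prime_orderOf_dvd_card' (G := G) 5 (by rw [h]; norm_num)
  obtain ⟨F⟩ := exists_frame h ha
  obtain ⟨hr, hcw, hnw, ⟨vw, hvw, hvw'⟩, t, ht, htw, hct, vt, hvt, hvt'⟩ := five_facts h ha F hw
  have : Fact (Nat.Prime 2) := ⟨Nat.prime_two⟩
  obtain ⟨P⟩ := (inferInstance : Nonempty (Sylow 2 G))
  have hP : Nat.card (P : Subgroup G) = 64 :=
    SmallOrders.card_sylow_subgroup (p := 2) (e := 6) (m := 1485) (by rw [h]; norm_num) (by norm_num) P
  have : Nontrivial (P : Subgroup G) := Finite.one_lt_card_iff_nontrivial.mp (by omega)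
  have hc := P.isPGroup'.center_nontrivial
  obtain ⟨n, hn, hcard⟩ : ∃ n, 0 < n ∧ Nat.card (center (P : Subgroup G)) = 2 ^ n :=
    (P.isPGroup'.to_subgroup _).nontrivial_iff_card.mp hc
  obtain ⟨⟨z, hz⟩, hzo⟩ := exists_prime_orderOf_dvd_card' (G := center (P : Subgroup G)) 2
    (by rw [hcard]; exact dvd_pow_self 2 hn.ne')
  rw [Subgroup.orderOf_mk, ← Subgroup.orderOf_coe] at hzo
  have hle : (P : Subgroup G) ≤ centralizer ({(z : G)} : Set G) := fun x hx =>
    mem_centralizer_singleton_iff.mpr (congrArg Subtype.val (mem_center_iff.mp hz ⟨x, hx⟩))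
  rcases invol_cases h ha F hr hzo with ⟨hC, -⟩ | ⟨hC, v, hv, hv'⟩
  · have := card_dvd_of_le hle
    rw [hP, hC] at this
    norm_num at this
  · exact ⟨{
      card := h, a := a, ha := ha, F := F, row_eq := hr, w := w, hw := hw, t := t, ht := ht, htw := htw
      s := z, hs := hzo, cw := hcw, nw := hnw, ct := hct, cs := hC
      vw := vw, colw := hvw, vw_eq := hvw', vt := vt, colt := hvt, vt_eq := hvt'
      vs := v, cols := hv, vs_eq := hv' }⟩

namespace Setting

variable (S : Setting G)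

omit [IsSimpleGroup G] in
theorem x_vals : S.F.x 0 = -120 ∧ S.F.x 1 = -54 ∧ S.F.x 2 = 45 ∧ S.F.x 3 = 144 ∧ S.F.y = 16 :=
  S.F.x_theRow S.row_eq

omit [IsSimpleGroup G] in
theorem vw_vals : S.vw 0 = 0 ∧ S.vw 1 = -1 ∧ S.vw 2 = 0 ∧ S.vw 3 = -1 := by
  simpa [q4, wCol] using S.vw_eq

omit [IsSimpleGroup G] in
theorem vt_vals : S.vt 0 = 0 ∧ S.vt 1 = 6 ∧ S.vt 2 = 5 ∧ S.vt 3 = 4 := by
  simpa [q4, tCol] using S.vt_eq

omit [IsSimpleGroup G] in
theorem vs_vals : S.vs 0 = -8 ∧ S.vs 1 = 6 ∧ S.vs 2 = -3 ∧ S.vs 3 = 0 := by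
  simpa [q4, sCol] using S.vs_eq

omit [IsSimpleGroup G] in
theorem e_w : S.F.e.1 S.w = 1 := by
  rw [S.F.val_e_col S.colw, S.vw_eq, S.row_eq, show veOf 1 theRow wCol = 1 from rfl, Int.cast_one]

omit [IsSimpleGroup G] in
theorem e_t : S.F.e.1 S.t = 4 := by
  rw [S.F.val_e_col S.colt, S.vt_eq, S.row_eq, show veOf 1 theRow tCol = 4 from rfl]
  norm_num

omit [IsSimpleGroup G] in
theorem e_s : S.F.e.1 S.s = 0 := by
  rw [S.F.val_e_col S.cols, S.vs_eq, S.row_eq, show veOf 1 theRow sCol = 0 from rfl, Int.cast_zero]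

omit [IsSimpleGroup G] in
theorem t_ne_one : S.t ≠ 1 := fun e => by
  have h := S.ht; rw [e] at h; simp at h

omit [IsSimpleGroup G] in
theorem w_ne_one : S.w ≠ 1 := fun e => by
  have h := S.hw; rw [e] at h; simp at h

omit [IsSimpleGroup G] in
theorem s_ne_one : S.s ≠ 1 := fun e => by
  have h := S.hs; rw [e] at h; simp at h

omit [IsSimpleGroup G] in
/-- All nontrivial powers of `w` are conjugate. -/
theorem isConj_pow_w {k : ℕ} (hk : k % 5 ≠ 0) (hk5 : k < 5) : IsConj S.w (S.w ^ k) := by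
  refine Order7920.isConj_pow_of_card S.hw (j := 4) (N := nz S.w) (fun g hg => conj_mem_zpowers hg)
    (fun g hg => mem_nz (by
      rw [mem_centralizer_singleton_iff.mp hg, mul_inv_cancel_right]; exact mem_zpowers _))
    (by rw [S.cw, S.nw]) (by rw [S.nw]; decide +kernel) ?_ hk5
  rw [S.nw]
  interval_cases k
  · omega
  all_goals rfl

omit [IsSimpleGroup G] in
/-- The degrees of the block add up to 396. -/
theorem block_deg [Fintype (IrrCharacter G)] : ∑ χ : IrrCharacter G, (charDegree χ.1 : ℤ) =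
    396 + ∑ χ ∈ S.F.rest, (charDegree χ.1 : ℤ) := by
  obtain ⟨h0, h1, h2, h3, hy⟩ := S.x_vals
  simp only [S.F.sum_eq, Order7920.dg_one, dg_conjChar, ← S.F.deg, ← S.F.deg_e, Fin.sum_univ_four, h0, h1,
    h2, h3, hy]
  norm_num
  ring

omit [IsSimpleGroup G] in
theorem e_not_real : ¬ ∀ g : G, (S.F.e.1 g).im = 0 := fun hall => by
  have hc := Complex.conj_eq_iff_im.mpr (hall S.a)
  have h1 := S.F.val_e
  have h2 := S.F.norm_e
  rw [hc] at h1 h2
  rw [S.x_vals.2.2.2.2, show Int.sign 16 = 1 from rfl, Int.cast_one] at h1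
  have h3 : (0 : ℂ) = 11 := by linear_combination (4 : ℂ) * h2 - (2 * S.F.e.1 S.a - 1) * h1
  norm_num at h3

omit [IsSimpleGroup G] in
/-- The square roots of 1 and their number. -/
theorem fs_bound [Fintype (IrrCharacter G)] :
    ((892 : ℤ) + 32 ≤ ∑ χ : IrrCharacter G, (charDegree χ.1 : ℤ)) ∧
      (∑ χ : IrrCharacter G, (charDegree χ.1 : ℤ) ≤ 924 →
        (∀ χ : IrrCharacter G, χ ≠ S.F.e → χ ≠ conjChar S.F.e →
            (haveI := Fintype.ofFinite G; FSInd.fsInd χ.1 = 1) ∧ ∀ g : G, (χ.1 g).im = 0) ∧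
        ∀ y : G, orderOf y = 2 → IsConj S.t y ∨ IsConj S.s y) := by
  classical
  have := Fintype.ofFinite G
  have hKt : csize S.t = 396 := csize_val S.card S.ct rfl
  have hKs : csize S.s = 495 := csize_val S.card S.cs rfl
  set A := (Finset.univ.filter fun g : G => g * g = 1)
  set Ct := (Finset.univ.filter fun g : G => IsConj S.t g)
  set Cs := (Finset.univ.filter fun g : G => IsConj S.s g)
  have hCt : Ct.card = 396 := by rw [← hKt, csize, Nat.card_eq_fintype_card, Fintype.card_subtype]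
  have hCs : Cs.card = 495 := by rw [← hKs, csize, Nat.card_eq_fintype_card, Fintype.card_subtype]
  have hord : ∀ {b g : G}, orderOf b = 2 → IsConj b g → g * g = 1 ∧ g ≠ 1 := by
    intro b g hb hg
    obtain ⟨c, rfl⟩ := isConj_iff.mp hg
    refine ⟨?_, fun e => ?_⟩
    · rw [← pow_two, conj_pow, ← hb, pow_orderOf_eq_one, mul_one, mul_inv_cancel]
    · rw [← orderOf_conj c b, e, orderOf_one] at hb; norm_num at hb
  have hdis : Disjoint Ct Cs := by
    rw [Finset.disjoint_left]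
    intro g h1 h2
    simp only [Ct, Cs, Finset.mem_filter, Finset.mem_univ, true_and] at h1 h2
    have hts := h1.trans h2.symm
    obtain ⟨c, hc⟩ := isConj_iff.mp hts
    have e : csize S.t = csize S.s := by
      rw [csize, csize]
      exact Nat.card_congr (Equiv.subtypeEquivRight fun g => ⟨hts.symm.trans, hts.trans⟩)
    rw [hKt, hKs] at e
    norm_num at e
  have h1n : (1 : G) ∉ Ct ∪ Cs := by
    simp only [Ct, Cs, Finset.mem_union, Finset.mem_filter, Finset.mem_univ, true_and, not_or]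
    exact ⟨fun e => (hord S.ht e).2 rfl, fun e => (hord S.hs e).2 rfl⟩
  have hsub : insert 1 (Ct ∪ Cs) ⊆ A := by
    intro g hg
    simp only [A, Ct, Cs, Finset.mem_insert, Finset.mem_union, Finset.mem_filter, Finset.mem_univ,
      true_and] at hg ⊢
    rcases hg with rfl | hg | hg
    exacts [one_mul 1, (hord S.ht hg).1, (hord S.hs hg).1]
  have hBcard : (insert 1 (Ct ∪ Cs)).card = 892 := by
    rw [Finset.card_insert_of_notMem h1n, Finset.card_union_of_disjoint hdis, hCt, hCs]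
  have hA : 892 ≤ A.card := hBcard ▸ Finset.card_le_card hsub
  have hsum := FSInd.card_sqrt_eq_sum (G := G) 1
  rw [Nat.card_eq_fintype_card, Fintype.card_subtype] at hsum
  set ν : IrrCharacter G → ℝ := fun χ => (FSInd.fsInd χ.1).re with hν
  have hν1 : ∀ χ : IrrCharacter G, ν χ ≤ 1 := fun χ => by
    simp only [hν]
    by_cases hr : ∀ g : G, (χ.1 g).im = 0
    · rcases FSInd.fsInd_eq_one_or_neg_one χ.2 hr with e | e <;> simp [e]
    · simp [FSInd.fsInd_eq_zero_of_not_real χ.2 hr]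
  have hre : (A.card : ℝ) = ∑ χ : IrrCharacter G, ν χ * (charDegree χ.1 : ℝ) := by
    have := congrArg Complex.re hsum
    simpa [A, hν, dg_eq, Complex.re_sum] using this
  have he : ν S.F.e = 0 := by simp [hν, FSInd.fsInd_eq_zero_of_not_real S.F.e.2 S.e_not_real]
  have hce : ν (conjChar S.F.e) = 0 := by
    have : ¬ ∀ g : G, ((conjChar S.F.e).1 g).im = 0 := fun hall => S.e_not_real fun g => by
      have := hall g
      simpa [conjChar] using this
    simp [hν, FSInd.fsInd_eq_zero_of_not_real (conjChar S.F.e).2 this]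
  have hy : (charDegree S.F.e.1 : ℝ) = 16 := by
    rw [← S.F.deg_e, S.x_vals.2.2.2.2]; norm_num
  have hdiff : (A.card : ℝ) + 32 + ∑ χ ∈ (Finset.univ.erase S.F.e).erase (conjChar S.F.e),
      (1 - ν χ) * (charDegree χ.1 : ℝ) = ∑ χ : IrrCharacter G, (charDegree χ.1 : ℝ) := by
    have hmem : conjChar S.F.e ∈ Finset.univ.erase S.F.e := by simp [S.F.e_ne_ce.symm]
    rw [hre, ← Finset.add_sum_erase _ _ (Finset.mem_univ S.F.e), he, ← Finset.add_sum_erase _ _ hmem,
      hce, ← Finset.add_sum_erase (f := fun χ : IrrCharacter G => (charDegree χ.1 : ℝ)) _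
      (Finset.mem_univ S.F.e), ← Finset.add_sum_erase (f := fun χ : IrrCharacter G =>
        (charDegree χ.1 : ℝ)) _ hmem, dg_conjChar, hy]
    simp only [sub_mul, one_mul, Finset.sum_sub_distrib]
    ring
  have h0 : ∀ χ : IrrCharacter G, 0 ≤ (1 - ν χ) * (charDegree χ.1 : ℝ) := fun χ =>
    mul_nonneg (by linarith [hν1 χ]) (Nat.cast_nonneg _)
  have h0s := Finset.sum_nonneg (s := (Finset.univ.erase S.F.e).erase (conjChar S.F.e)) fun χ _ => h0 χ
  have hAR : (892 : ℝ) ≤ (A.card : ℝ) := by exact_mod_cast hA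
  refine ⟨?_, fun hle => ?_⟩
  · have : ((892 + 32 : ℤ) : ℝ) ≤ ((∑ χ : IrrCharacter G, (charDegree χ.1 : ℤ) : ℤ) : ℝ) := by
      push_cast; linarith
    exact_mod_cast this
  · have hleR : ∑ χ : IrrCharacter G, (charDegree χ.1 : ℝ) ≤ 924 := by exact_mod_cast hle
    refine ⟨fun χ h1 h2 => ?_, fun y hy => ?_⟩
    · have hz := (Finset.sum_eq_zero_iff_of_nonneg fun χ _ => h0 χ).mp (le_antisymm (by linarith) h0s) χ
        (by simp [h1, h2])
      have hνχ : ν χ = 1 := by
        rcases mul_eq_zero.mp hz with e | e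
        · linarith
        · exact absurd (Nat.cast_eq_zero.mp e) (ClassCount.charDegree_pos χ).ne'
      by_cases hr : ∀ g : G, (χ.1 g).im = 0
      · refine ⟨?_, hr⟩
        rcases FSInd.fsInd_eq_one_or_neg_one χ.2 hr with e | e
        · convert e
        · simp [hν, e] at hνχ; norm_num at hνχ
      · simp [hν, FSInd.fsInd_eq_zero_of_not_real χ.2 hr] at hνχ
    · have hA2 : (A.card : ℝ) ≤ ((insert 1 (Ct ∪ Cs)).card : ℝ) := by rw [hBcard]; push_cast; linarith
      have hAeq := Finset.eq_of_subset_of_card_le hsub (by exact_mod_cast hA2)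
      have hym : y ∈ A := by
        simp only [A, Finset.mem_filter, Finset.mem_univ, true_and]
        rw [← pow_two, ← hy, pow_orderOf_eq_one]
      rw [← hAeq] at hym
      simp only [Ct, Cs, Finset.mem_insert, Finset.mem_union, Finset.mem_filter, Finset.mem_univ,
        true_and] at hym
      exact hym.resolve_left (by rintro rfl; simp at hy)

end Setting

/-- The eight characters outside the block. -/
structure RestData (S : Setting G) where
  r : Fin 8 → IrrCharacter G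
  mem : ∀ i, r i ∈ S.F.rest
  sum_rest : ∀ {M : Type} [AddCommMonoid M] (f : IrrCharacter G → M), ∑ χ ∈ S.F.rest, f χ = ∑ i, f (r i)
  deg : ∀ i, charDegree (r i).1 = ![55, 55, 55, 11, 11, 99, 66, 176] i
  val_w : ∀ i, (r i).1 S.w = ((![0, 0, 0, 1, 1, -1, 1, 1] : Fin 8 → ℤ) i : ℂ)
  val_t : ∀ i, (r i).1 S.t = ((![-5, -5, -5, -1, -1, -1, 6, -4] : Fin 8 → ℤ) i : ℂ)

/-- The data of one character outside the block. -/
theorem Setting.rest_triple (S : Setting G) {χ : IrrCharacter G} (hχ : χ ∈ S.F.rest) :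
    ∃ m w t : ℤ, (charDegree χ.1 : ℤ) = 11 * m ∧ χ.1 S.w = w ∧ χ.1 S.t = t ∧ optOK (m, w, t) = true := by
  have hne : χ ≠ oneChar G := (S.F.mem_rest.mp hχ).1
  have hg : S.w ^ 5 = 1 := orderOf_dvd_iff_pow_eq_one.mp (dvd_of_eq S.hw)
  obtain ⟨m, hm⟩ := S.F.dvd_rest S.card S.ha hχ
  have hdpos := ClassCount.charDegree_pos χ
  have hd : (charDegree χ.1 : ℤ) = 11 * (m : ℤ) := by exact_mod_cast hm
  obtain ⟨w, hw, hwd⟩ := Order7920.val_rational (isChar χ) (dg_eq χ) (g := S.w) (n := 5) (by norm_num) hg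
    (fun k hk hk0 => by
      rw [Finset.mem_range] at hk
      exact ((Char.isConj_iff_irr _ _).mp (S.isConj_pow_w (k := k) (by omega) hk) χ).symm)
  obtain ⟨t, ht, ht4⟩ := SmallOrders.BlockDegrees.exists_int_mod_four (not_comm S.card) (isChar χ)
    (t := S.t) (by rw [← pow_two, ← S.ht, pow_orderOf_eq_one])
  refine ⟨m, w, t, hd, hw, ht, ?_⟩
  have hdvd : 11 * m ∣ 95040 := hm ▸ S.card ▸ ClassCount.degree_dvd_card χ
  have h8 : m ∣ 8640 := Nat.dvd_of_mul_dvd_mul_left (by norm_num) (show 11 * m ∣ 11 * 8640 by simpa using hdvd)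
  have h36 : ((m : ℤ)) ∣ 36 * t := by
    have hint := ClassCount.isIntegral_omega χ.2 S.t
    rw [ClassCount.omega, ht, dg_eq] at hint
    obtain ⟨b, -, hb⟩ := Order7920.int_of_rat (k := charDegree χ.1) (a := (csize S.t : ℤ) * t) hdpos.ne' hint
      (by rw [mul_div_cancel₀ _ (Nat.cast_ne_zero.mpr hdpos.ne')]; simp [csize])
    rw [csize_val S.card S.ct (K := 396) rfl, hd] at hb
    exact ⟨b, by push_cast at hb; linarith⟩
  have hlt : (t.natAbs : ℤ) < 11 * (m : ℤ) := by
    have := SmallOrders.BlockDegrees.norm_lt_of_ne_one (not_comm S.card) χ.2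
      (fun e => hne (Subtype.ext e)) S.t_ne_one
    rw [ht, Complex.norm_intCast] at this
    rw [← hd]
    have h' : ((t.natAbs : ℤ) : ℝ) < ((charDegree χ.1 : ℤ) : ℝ) := by
      rw [Int.natCast_natAbs, Int.cast_abs, Int.cast_natCast]; exact this
    exact_mod_cast h'
  simp only [optOK, Bool.and_eq_true, decide_eq_true_eq, Bool.or_eq_true, Bool.not_eq_true',
    decide_eq_false_iff_not]
  have hm1 : 1 ≤ (m : ℤ) := by
    have : m ≠ 0 := fun e => by rw [hm, e] at hdpos; simp at hdpos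
    omega
  refine ⟨⟨⟨⟨⟨⟨hm1, Int.emod_eq_zero_of_dvd (by exact_mod_cast h8)⟩, ?_⟩, ?_⟩, ?_⟩,
    Int.emod_eq_zero_of_dvd h36⟩, hlt⟩
  · obtain ⟨c, hc⟩ := hwd
    push_cast at hc
    omega
  · by_cases h5 : (m : ℤ) % 5 = 0
    · right
      have h5d : 5 ∣ charDegree χ.1 := by
        rw [hm]; exact Dvd.dvd.mul_left (by omega) 11
      have hfac : (Nat.card G).factorization 5 ≤ (charDegree χ.1).factorization 5 := by
        rw [S.card, factorization_eq' (p := 5) (a := 1) (b := 19008) (by norm_num) (by norm_num)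
          (by norm_num)]
        exact (Nat.Prime.dvd_iff_one_le_factorization (by norm_num) hdpos.ne').mp h5d
      have h0 : χ.1 S.w = 0 := Char.vanishes_of_defect_zero (by norm_num) χ.2 (dg_eq χ) hfac S.w
        (dvd_of_eq S.hw.symm)
      rw [hw] at h0
      exact_mod_cast h0
    · exact Or.inl h5
  · omega

theorem exists_restData (S : Setting G) : Nonempty (RestData S) ∧
    (∀ y : G, orderOf y = 2 → IsConj S.t y ∨ IsConj S.s y) ∧
    ∀ χ : IrrCharacter G, χ ≠ S.F.e → χ ≠ conjChar S.F.e →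
      (haveI := Fintype.ofFinite G; FSInd.fsInd χ.1 = 1) ∧ ∀ g : G, (χ.1 g).im = 0 := by
  classical
  have := Fintype.ofFinite (IrrCharacter G)
  have hex : ∀ χ : IrrCharacter G, ∃ o : T3, χ ∈ S.F.rest →
      (charDegree χ.1 : ℤ) = 11 * o.1 ∧ χ.1 S.w = o.2.1 ∧ χ.1 S.t = o.2.2 ∧ optOK o = true := fun χ => by
    by_cases hχ : χ ∈ S.F.rest
    · obtain ⟨m, w, t, h⟩ := S.rest_triple hχ
      exact ⟨(m, w, t), fun _ => h⟩
    · exact ⟨(0, 0, 0), fun h => absurd h hχ⟩
  choose g hg using hex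
  obtain ⟨h0, h1, h2, h3, hy⟩ := S.x_vals
  obtain ⟨w0, w1, w2, w3⟩ := S.vw_vals
  obtain ⟨t0, t1, t2, t3⟩ := S.vt_vals
  -- the six sums
  have sA : ∑ χ ∈ S.F.rest, (g χ).1 * (g χ).1 = 450 := by
    have h := S.F.rest_sq S.card
    rw [Finset.sum_congr rfl (g := fun χ => 121 * ((g χ).1 * (g χ).1))
      (fun χ hχ => by rw [(hg χ hχ).1]; ring), ← Finset.mul_sum, Fin.sum_univ_four, h0, h1, h2, h3, hy] at h
    omega
  have sB : ∑ χ ∈ S.F.rest, (g χ).2.1 * (g χ).2.1 = 5 := by
    have h := S.F.rest_norm S.cw S.colw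
    rw [S.vw_eq, S.row_eq, show normOf 1 theRow wCol = 5 from rfl,
      Finset.sum_congr rfl (g := fun χ => (((g χ).2.1 * (g χ).2.1 : ℤ) : ℝ))
        (fun χ hχ => by rw [(hg χ hχ).2.1, Complex.normSq_intCast]; push_cast; ring), ← Int.cast_sum] at h
    have : ((∑ χ ∈ S.F.rest, (g χ).2.1 * (g χ).2.1 : ℤ) : ℝ) = ((5 : ℤ) : ℝ) := by rw [h]; norm_num
    exact_mod_cast this
  have sC : ∑ χ ∈ S.F.rest, (g χ).2.2 * (g χ).2.2 = 130 := by
    have h := S.F.rest_norm S.ct S.colt
    rw [S.vt_eq, S.row_eq, show normOf 1 theRow tCol = 110 from rfl,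
      Finset.sum_congr rfl (g := fun χ => (((g χ).2.2 * (g χ).2.2 : ℤ) : ℝ))
        (fun χ hχ => by rw [(hg χ hχ).2.2.1, Complex.normSq_intCast]; push_cast; ring), ← Int.cast_sum] at h
    have : ((∑ χ ∈ S.F.rest, (g χ).2.2 * (g χ).2.2 : ℤ) : ℝ) = ((130 : ℤ) : ℝ) := by rw [h]; norm_num
    exact_mod_cast this
  have sD : ∑ χ ∈ S.F.rest, (g χ).1 * (g χ).2.2 = -114 := by
    have h := S.F.rest_deg S.t_ne_one S.colt
    rw [S.vt_eq, S.row_eq, show dgOf 1 theRow tCol = 1254 from rfl,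
      Finset.sum_congr rfl (g := fun χ => ((11 * ((g χ).1 * (g χ).2.2) : ℤ) : ℂ))
        (fun χ hχ => by
          rw [(hg χ hχ).2.2.1, ← Int.cast_natCast, (hg χ hχ).1, ← Int.cast_mul, mul_assoc]),
      ← Int.cast_sum, ← Finset.mul_sum, ← Int.cast_neg] at h
    have := Int.cast_injective h
    omega
  have sE : ∑ χ ∈ S.F.rest, (g χ).1 * (g χ).2.1 = 15 := by
    have h := S.F.rest_deg S.w_ne_one S.colw
    rw [S.vw_eq, S.row_eq, show dgOf 1 theRow wCol = -165 from rfl,
      Finset.sum_congr rfl (g := fun χ => ((11 * ((g χ).1 * (g χ).2.1) : ℤ) : ℂ))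
        (fun χ hχ => by
          rw [(hg χ hχ).2.1, ← Int.cast_natCast, (hg χ hχ).1, ← Int.cast_mul, mul_assoc]),
      ← Int.cast_sum, ← Finset.mul_sum, ← Int.cast_neg] at h
    have := Int.cast_injective h
    omega
  have hwt : ¬ IsConj S.w S.t := fun hc => by
    obtain ⟨c, hc⟩ := isConj_iff.mp hc
    have := S.ht
    rw [← hc, orderOf_conj, S.hw] at this
    norm_num at this
  have sF : ∑ χ ∈ S.F.rest, (g χ).2.1 * (g χ).2.2 = 1 := by
    have h := Char.column_orth S.w S.t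
    have hce : (conjChar S.F.e).1 S.w = 1 ∧ (conjChar S.F.e).1 S.t = 4 := by
      constructor
      · show conj (S.F.e.1 S.w) = 1
        rw [S.e_w, map_one]
      · show conj (S.F.e.1 S.t) = 4
        rw [S.e_t, map_ofNat]
    rw [if_neg hwt, S.F.sum_eq, Finset.sum_congr rfl (s₁ := S.F.rest)
      (g := fun χ => (((g χ).2.1 * (g χ).2.2 : ℤ) : ℂ))
      (fun χ hχ => by rw [(hg χ hχ).2.1, (hg χ hχ).2.2.1, map_intCast, Int.cast_mul]),
      ← Int.cast_sum, S.e_w, S.e_t, hce.1, hce.2] at h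
    simp only [S.colw.2, S.colt.2, Fin.sum_univ_four, w0, w1, w2, w3, t0, t1, t2, t3, oneChar,
      Pi.one_apply, map_one, map_intCast, map_ofNat] at h
    have : ((∑ χ ∈ S.F.rest, (g χ).2.1 * (g χ).2.2 : ℤ) : ℂ) = ((1 : ℤ) : ℂ) := by
      push_cast at h ⊢; linear_combination h
    exact_mod_cast this
  have hst : stOf S.F.rest g = (450, 5, 130, -114, 15, 1) := by
    simp only [stOf, sA, sB, sC, sD, sE, sF]
  -- candidates
  have hL : ∀ χ ∈ S.F.rest, g χ ∈ opts := fun χ hχ => by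
    have h1 : (g χ).1 * (g χ).1 ≤ 450 := sA ▸ Finset.single_le_sum
      (f := fun χ => (g χ).1 * (g χ).1) (fun _ _ => mul_self_nonneg _) hχ
    exact opts_complete (hg χ hχ).2.2.2 (by nlinarith)
      (sB ▸ Finset.single_le_sum (f := fun χ => (g χ).2.1 * (g χ).2.1) (fun _ _ => mul_self_nonneg _) hχ)
      (sC ▸ Finset.single_le_sum (f := fun χ => (g χ).2.2 * (g χ).2.2) (fun _ _ => mul_self_nonneg _) hχ)
  obtain ⟨l, hl, hP⟩ := search_sound g leafOK opts (by decide +kernel) _ [] S.F.rest hL hst.symm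
    othersCheck_true
  rw [Multiset.coe_nil, zero_add] at hl
  have hlsum : ∀ φ : T3 → ℤ, (l.map φ).sum = ∑ χ ∈ S.F.rest, φ (g χ) := fun φ => by
    rw [← Multiset.sum_coe, ← Multiset.map_coe, hl, Multiset.map_map, Finset.sum_eq_multiset_sum]; rfl
  obtain ⟨hfs1, hfs2⟩ := S.fs_bound
  have hS11 : ∑ χ ∈ S.F.rest, (charDegree χ.1 : ℤ) = 11 * ∑ χ ∈ S.F.rest, (g χ).1 := by
    rw [Finset.mul_sum]; exact Finset.sum_congr rfl fun χ hχ => (hg χ hχ).1
  rw [S.block_deg, hS11] at hfs1 hfs2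
  -- the class multiplication constant of two involutions and an element of order 5
  have hfib : fibOK (396 * 396)
      (211200 + ∑ χ ∈ S.F.rest, (g χ).2.2 * (g χ).2.2 * (g χ).2.1 * (8640 / (g χ).1)) = true := by
    have hk := ClassCount.card_mul_fibreCount S.t S.t S.w
    rw [S.card, S.F.sum_eq, Finset.sum_congr rfl (s₁ := S.F.rest)
      (g := fun χ => (396 : ℂ) * 396 / 95040 *
        (((g χ).2.2 * (g χ).2.2 * (g χ).2.1 * (8640 / (g χ).1) : ℤ) : ℂ))
      (fun χ hχ => by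
        obtain ⟨e1, e2, e3, e4⟩ := hg χ hχ
        simp only [optOK, Bool.and_eq_true, decide_eq_true_eq] at e4
        have hdvd : (g χ).1 ∣ (8640 : ℤ) := Int.dvd_of_emod_eq_zero e4.1.1.1.1.1.2
        have hm0 : ((g χ).1 : ℂ) ≠ 0 := by
          have := e4.1.1.1.1.1.1
          exact_mod_cast (show (g χ).1 ≠ 0 by omega)
        have hdC : (charDegree χ.1 : ℂ) = 11 * ((g χ).1 : ℂ) := by exact_mod_cast e1
        simp only [ClassCount.omega, Char.IsCharacter.apply_inv (isChar _)]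
        rw [show Nat.card {u : G // IsConj S.t u} = 396 from csize_val S.card S.ct rfl, e2, e3,
          map_intCast, dg_eq, hdC]
        push_cast [Int.cast_div hdvd hm0]
        field_simp
        ring)] at hk
    have hce : ∀ x : G, (conjChar S.F.e).1 x = conj (S.F.e.1 x) := fun x => rfl
    simp only [ClassCount.omega, Char.IsCharacter.apply_inv (isChar _), hce, S.e_w, S.e_t,
      S.colw.2, S.colt.2, S.F.val_one, S.F.val_e_one, map_one, map_natCast, map_ofNat, map_intCast,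
      Fin.sum_univ_four, h0, h1, h2, h3, hy, w0, w1, w2, w3, t0, t1, t2, t3, oneChar, Pi.one_apply,
      show Nat.card {u : G // IsConj S.t u} = 396 from csize_val S.card S.ct rfl, ← Finset.mul_sum,
      ← Int.cast_sum] at hk
    generalize ∑ χ ∈ S.F.rest, (g χ).2.2 * (g χ).2.2 * (g χ).2.1 * (8640 / (g χ).1) = z at hk ⊢
    have heq : (95040 * 95040 : ℤ) * (ClassCount.fibreCount S.t S.t S.w : ℤ) = 396 * 396 * (211200 + z) := by
      refine Int.cast_injective (α := ℂ) ?_
      norm_num at hk ⊢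
      linear_combination (95040 : ℂ) * hk
    simp only [fibOK, Bool.and_eq_true, decide_eq_true_eq, ← heq]
    exact ⟨by positivity, Int.mul_emod_right _ _⟩
  have hl0 : l = restTriples := by
    simp only [leafOK, hlsum, Bool.or_eq_true, Bool.not_eq_true', decide_eq_false_iff_not,
      decide_eq_true_eq, hfib] at hP
    rcases hP with (hP | hP) | hP
    · exact absurd (by omega) hP
    · simp at hP
    · exact hP
  subst hl0
  obtain ⟨rl, hrl, hrl'⟩ := exists_list_of_map_eq g restTriples S.F.rest.val hl.symm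
  obtain ⟨c0, c1, c2, c3, c4, c5, c6, c7, rfl⟩ : ∃ c0 c1 c2 c3 c4 c5 c6 c7,
      rl = [c0, c1, c2, c3, c4, c5, c6, c7] := by
    have hlen : rl.length = 8 := by rw [← List.length_map (f := g), hrl']; rfl
    match rl, hlen with
    | [c0, c1, c2, c3, c4, c5, c6, c7], _ => exact ⟨c0, c1, c2, c3, c4, c5, c6, c7, rfl⟩
  simp only [List.map_cons, List.map_nil, restTriples, List.cons.injEq, and_true] at hrl'
  obtain ⟨g0, g1, g2, g3, g4, g5, g6, g7⟩ := hrl'
  have hmem : ∀ i, (![c0, c1, c2, c3, c4, c5, c6, c7] : Fin 8 → IrrCharacter G) i ∈ S.F.rest := by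
    intro i
    rw [Finset.mem_def, ← hrl]
    fin_cases i <;> simp
  have hval : ∀ i, g ((![c0, c1, c2, c3, c4, c5, c6, c7] : Fin 8 → IrrCharacter G) i) =
      ((![5, 5, 5, 1, 1, 9, 6, 16] : Fin 8 → ℤ) i, (![0, 0, 0, 1, 1, -1, 1, 1] : Fin 8 → ℤ) i,
        (![-5, -5, -5, -1, -1, -1, 6, -4] : Fin 8 → ℤ) i) := by
    intro i
    fin_cases i <;> simp [g0, g1, g2, g3, g4, g5, g6, g7]
  have hsum924 : 396 + 11 * ∑ χ ∈ S.F.rest, (g χ).1 ≤ 924 := by
    rw [← hlsum fun o => o.1]; decide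
  obtain ⟨hreal, hconj⟩ := hfs2 hsum924
  refine ⟨⟨{
    r := ![c0, c1, c2, c3, c4, c5, c6, c7]
    mem := hmem
    sum_rest := fun {M} _ f => ?_
    deg := fun i => ?_
    val_w := fun i => ?_
    val_t := fun i => ?_ }⟩, hconj, hreal⟩
  · rw [Finset.sum_eq_multiset_sum, ← hrl, Fin.sum_univ_eight]
    simp [add_assoc]
  · have := (hg _ (hmem i)).1
    rw [hval i] at this
    fin_cases i <;> simp at this ⊢ <;> omega
  · rw [(hg _ (hmem i)).2.1, hval i]
  · rw [(hg _ (hmem i)).2.2.1, hval i]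

end Cfsg.Agent.Order95040
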