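/-
An element of order 4 and a proper subgroup of order divisible by 44.

Main results (namespace `Cfsg.Agent.Order95040`): `val_four`, `Setting.exists_s_vals`,
`Setting.exists_four`, `exists_subgroup44`.
-/
import Cfsg.Agent.Lib.Order95040.Others
import Cfsg.Agent.Lib.Order95040.FourCheck
import Cfsg.Agent.Lib.Order7920.Scott

set_option autoImplicit false

open scoped ComplexConjugate

namespace Cfsg.Agent.Order95040

open Cfsg Subgroup
open Order7920 (oneChar conjChar isChar dg_eq dg_conjChar)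

/-- Fourth roots of unity with product one and real sum. -/
theorem four_roots {ι : Type*} [Fintype ι] (μ : ι → ℂ) (h4 : ∀ i, μ i ^ 4 = 1) (hp : ∏ i, μ i = 1)
    {v s : ℤ} (hv : ∑ i, μ i = (v : ℂ)) (hs : ∑ i, μ i ^ 2 = (s : ℂ)) :
    0 ≤ (Fintype.card ι : ℤ) + s + 2 * v ∧ 0 ≤ (Fintype.card ι : ℤ) + s - 2 * v ∧
      ((Fintype.card ι : ℤ) + s - 2 * v) % 8 = 0 := by
  classical
  have hex : ∀ i, ∃ e : Fin 4, μ i = Complex.I ^ (e : ℕ) := fun i => by
    have h := h4 i
    have hf : (μ i - 1) * (μ i + 1) * (μ i - Complex.I) * (μ i + Complex.I) = 0 := by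
      have hI := Complex.I_sq
      linear_combination h - (μ i ^ 2 - 1) * hI
    simp only [mul_eq_zero, sub_eq_zero, add_eq_zero_iff_eq_neg] at hf
    rcases hf with ((h | h) | h) | h
    · exact ⟨0, by simp [h]⟩
    · exact ⟨2, by simp [h, Complex.I_sq]⟩
    · exact ⟨1, by simp [h]⟩
    · exact ⟨3, by simp [h, pow_succ, Complex.I_sq]⟩
  choose e he using hex
  set R : Fin 4 → ℤ := ![1, 0, -1, 0]
  set J : Fin 4 → ℤ := ![0, 1, 0, -1]
  set Q : Fin 4 → ℤ := ![1, -1, 1, -1]
  set n2 : Fin 4 → ℕ := ![0, 0, 1, 0]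
  have hμ : ∀ i, μ i = (R (e i) : ℂ) + (J (e i) : ℂ) * Complex.I ∧ μ i ^ 2 = (Q (e i) : ℂ) := by
    intro i
    rw [he i]
    generalize e i = x
    fin_cases x <;> simp [R, J, Q, pow_succ, Complex.I_sq]
  rw [Finset.sum_congr rfl fun i _ => (hμ i).1, Finset.sum_add_distrib, ← Finset.sum_mul,
    ← Int.cast_sum, ← Int.cast_sum] at hv
  rw [Finset.sum_congr rfl fun i _ => (hμ i).2, ← Int.cast_sum] at hs
  have hR : ∑ i, R (e i) = v := by
    have := congrArg Complex.re hv
    simp only [Complex.add_re, Complex.mul_re, Complex.intCast_re, Complex.intCast_im, Complex.I_re,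
      Complex.I_im, mul_zero, zero_mul, sub_zero, add_zero] at this
    exact_mod_cast this
  have hJ : ∑ i, J (e i) = 0 := by
    have := congrArg Complex.im hv
    simp only [Complex.add_im, Complex.mul_im, Complex.intCast_re, Complex.intCast_im, Complex.I_re,
      Complex.I_im, mul_zero, mul_one, zero_add, add_zero] at this
    exact_mod_cast this
  have hQ : ∑ i, Q (e i) = s := by exact_mod_cast hs
  have hE : 4 ∣ ∑ i, ((e i : ℕ)) := by
    rw [Finset.prod_congr rfl fun i _ => he i, Finset.prod_pow_eq_pow_sum] at hp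
    rw [← Nat.div_add_mod (∑ i, ((e i : ℕ))) 4, pow_add, pow_mul, Complex.I_pow_four, one_pow,
      one_mul] at hp
    have hlt := Nat.mod_lt (∑ i, ((e i : ℕ))) (show 4 > 0 by norm_num)
    refine Nat.dvd_of_mod_eq_zero ?_
    generalize (∑ i, ((e i : ℕ))) % 4 = r at hp hlt
    interval_cases r
    · rfl
    · exact absurd (congrArg Complex.im hp) (by simp)
    · exact absurd (congrArg Complex.re hp) (by norm_num [pow_succ])
    · exact absurd (congrArg Complex.im hp) (by simp [pow_succ])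
  have hn : (Fintype.card ι : ℤ) = ∑ _i : ι, (1 : ℤ) := by simp
  have key : ∀ x : Fin 4, 0 ≤ 1 + Q x + 2 * R x ∧ 1 + Q x - 2 * R x - 4 * (n2 x : ℤ) - 2 * J x * J x + 2 * J x * J x = 0 ∧
      ((x : ℕ) : ℤ) % 4 = (J x + 2 * (n2 x : ℤ)) % 4 := by decide +kernel
  have hA : (Fintype.card ι : ℤ) + s + 2 * v = ∑ i, (1 + Q (e i) + 2 * R (e i)) := by
    rw [Finset.sum_add_distrib, Finset.sum_add_distrib, ← Finset.mul_sum, hQ, hR, ← hn]
  have hB : (Fintype.card ι : ℤ) + s - 2 * v = 4 * ∑ i, (n2 (e i) : ℤ) := by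
    rw [Finset.mul_sum, hn, ← hQ, ← hR, Finset.mul_sum, ← Finset.sum_add_distrib, ← Finset.sum_sub_distrib]
    exact Finset.sum_congr rfl fun i _ => by linarith [(key (e i)).2.1]
  have h2 : 2 ∣ ∑ i, (n2 (e i) : ℤ) := by
    have hmod : (4 : ℤ) ∣ ∑ i, (((e i : ℕ) : ℤ) - (J (e i) + 2 * (n2 (e i) : ℤ))) :=
      Finset.dvd_sum fun i _ => Int.dvd_of_emod_eq_zero
        (Int.emod_eq_emod_iff_emod_sub_eq_zero.mp (key (e i)).2.2)
    rw [Finset.sum_sub_distrib, Finset.sum_add_distrib, hJ, zero_add, ← Finset.mul_sum, ← Nat.cast_sum] at hmod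
    have : (4 : ℤ) ∣ ((∑ i, ((e i : ℕ)) : ℕ) : ℤ) := by exact_mod_cast hE
    omega
  refine ⟨hA ▸ Finset.sum_nonneg fun i _ => (key (e i)).1, ?_, ?_⟩
  · rw [hB]; positivity
  · rw [hB]; omega

/-- The arithmetic of the values at the involution with centraliser of order 192. -/
theorem s_rest_arith {a b c p q y z t k : ℤ}
    (hd : 55 * a + 55 * b + 55 * c + 11 * p + 11 * q + 99 * y + 66 * z + 176 * t = 770)
    (hw : p + q - y + z + t = 5) (ht : -5 * a - 5 * b - 5 * c - p - q - y + 6 * z - 4 * t = -22)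
    (hn : a * a + b * b + c * c + p * p + q * q + y * y + z * z + t * t = 82)
    (mp : (11 - p) % 4 = 0) (mq : (11 - q) % 4 = 0) (my : (99 - y) % 4 = 0) (mz : (66 - z) % 4 = 0)
    (mt : (176 - t) % 4 = 0) (hk : 176 * k = 495 * t) :
    a + b + c = 5 ∧ t = 0 ∧ z = 2 ∧ y = 3 ∧ (p, q) ∈ sPairs := by
  have ha := mul_self_nonneg a
  have hb := mul_self_nonneg b
  have hc := mul_self_nonneg c
  have hp := mul_self_nonneg p
  have hq := mul_self_nonneg q
  have hy := mul_self_nonneg y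
  have hz := mul_self_nonneg z
  have ht' := mul_self_nonneg t
  have by1 : -9 ≤ y ∧ y ≤ 9 := by constructor <;> nlinarith only [hn, ha, hb, hc, hp, hq, hz, ht']
  have bz : -9 ≤ z ∧ z ≤ 9 := by constructor <;> nlinarith only [hn, ha, hb, hc, hp, hq, hy, ht']
  have bt : -9 ≤ t ∧ t ≤ 9 := by constructor <;> nlinarith only [hn, ha, hb, hc, hp, hq, hy, hz]
  obtain rfl : t = 0 := by omega
  obtain ⟨rfl, rfl⟩ : z = 2 ∧ y = 3 := by omega
  have hY : a + b + c = 5 := by omega
  obtain rfl : q = 6 - p := by omega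
  refine ⟨hY, rfl, rfl, rfl, ?_⟩
  have hYY : (a + b + c) * (a + b + c) = 25 := by rw [hY]; norm_num
  have h33 : 3 * (p * p + (6 - p) * (6 - p)) ≤ 3 * 69 - 25 := by
    nlinarith only [hn, hYY, mul_self_nonneg (a - b), mul_self_nonneg (b - c), mul_self_nonneg (a - c)]
  have bp : -2 ≤ p ∧ p ≤ 8 := by constructor <;> nlinarith only [h33]
  simp only [sPairs, List.mem_cons, List.not_mem_nil, or_false, Prod.mk.injEq]
  omega

variable {G : Type*} [Group G] [Finite G] [IsSimpleGroup G]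

/-- A real value at an element of order dividing 4. -/
theorem val_four (hG : ¬ IsMulCommutative G) {χ : G → ℂ} (hχ : IsCharacter G χ) {g : G} (hg : g ^ 4 = 1)
    (hreal : conj (χ g) = χ g) {s : ℤ} (hs : χ (g ^ 2) = (s : ℂ)) :
    ∃ v : ℤ, χ g = (v : ℂ) ∧ 0 ≤ (charDegree χ : ℤ) + s + 2 * v ∧
      0 ≤ (charDegree χ : ℤ) + s - 2 * v ∧ ((charDegree χ : ℤ) + s - 2 * v) % 8 = 0 := by
  classical
  obtain ⟨m, hm⟩ := Order7920.sum_pow_char hχ hg (c := 1) (one_pow _)
  have h3 : χ (g ^ 3) = χ g := by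
    rw [← hreal, ← Char.IsCharacter.apply_inv hχ]
    exact congrArg χ (eq_inv_of_mul_eq_one_left (by rw [← pow_succ, hg]))
  obtain ⟨d, hd⟩ : ∃ d : ℕ, χ 1 = (d : ℂ) := by
    obtain ⟨n, ρ, rfl⟩ := hχ
    exact ⟨_, Representation.char_one ρ⟩
  simp only [Finset.sum_range_succ, Finset.sum_range_zero, pow_zero, pow_one, one_pow, mul_one,
    zero_add, h3, hs, hd] at hm
  obtain ⟨v, hv, -⟩ := Order7920.int_of_rat (k := 2) (a := 4 * (m : ℤ) - s - d) (by norm_num)
    (Order7920.isIntegral_apply hχ g) (by push_cast; linear_combination hm)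
  refine ⟨v, hv, ?_⟩
  obtain ⟨n, ρ, rfl⟩ := hχ
  obtain ⟨b, μ, hμ, hroot⟩ := Char.exists_eigenbasis ρ g
  have h4 : ∀ i, μ i ^ 4 = 1 := fun i => by
    obtain ⟨q, hq⟩ := orderOf_dvd_iff_pow_eq_one.mpr hg
    rw [hq, pow_mul, hroot i, one_pow]
  have hdeg : charDegree ρ.character = Fintype.card (Fin (Module.finrank ℂ (Fin n → ℂ))) := by
    rw [Fintype.card_fin, charDegree, Representation.char_one, Complex.natCast_re, Nat.floor_natCast]
  rw [hdeg]
  refine four_roots μ h4 ?_ ?_ ?_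
  · let φ : G →* ℂ := (LinearMap.det : ((Fin n → ℂ) →ₗ[ℂ] (Fin n → ℂ)) →* ℂ).comp ρ
    have hφ : φ.ker = ⊤ := by
      rcases (MonoidHom.normal_ker φ).eq_bot_or_eq_top with h | h
      · refine absurd (⟨⟨fun a c => (MonoidHom.ker_eq_bot_iff _).mp h ?_⟩⟩) hG
        rw [map_mul, map_mul, mul_comm]
      · exact h
    have hdet : LinearMap.det (ρ g) = 1 := MonoidHom.mem_ker.mp (hφ ▸ Subgroup.mem_top g : g ∈ φ.ker)
    have hmat : LinearMap.toMatrix b b (ρ g) = Matrix.diagonal μ := by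
      ext i j
      rw [LinearMap.toMatrix_apply, hμ, map_smul, Module.Basis.repr_self, Finsupp.smul_single,
        smul_eq_mul, mul_one, Matrix.diagonal_apply, Finsupp.single_apply]
      by_cases hij : j = i
      · subst hij; simp
      · rw [if_neg hij, if_neg (Ne.symm hij)]
    rw [← hdet, ← LinearMap.det_toMatrix b, hmat, Matrix.det_diagonal]
  · rw [← hv, Char.character_eq_sum_eigenvalues ρ g b μ hμ]
  · rw [← hs, Char.character_pow ρ g b μ hμ 2]

namespace Setting

variable (S : Setting G)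

/-- The values of the characters outside the block at the involution with centraliser of order 192. -/
theorem exists_s_vals (D : RestData S) : ∃ v : Fin 8 → ℤ, (∀ i, (D.r i).1 S.s = (v i : ℂ)) ∧
    v 0 + v 1 + v 2 = 5 ∧ v 7 = 0 ∧ v 6 = 2 ∧ v 5 = 3 ∧ (v 3, v 4) ∈ sPairs ∧
    ∑ i, v i * v i = 82 := by
  classical
  have := Fintype.ofFinite (IrrCharacter G)
  choose v hv hv4 using fun i => SmallOrders.BlockDegrees.exists_int_mod_four (not_comm S.card)
    (isChar (D.r i)) (t := S.s) (by rw [← pow_two, ← S.hs, pow_orderOf_eq_one])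
  simp only [D.deg] at hv4
  have hn : ∑ i, v i * v i = 82 := by
    have h := S.F.rest_norm S.cs S.cols
    rw [S.vs_eq, S.row_eq, show normOf 1 theRow sCol = 110 from rfl, D.sum_rest] at h
    simp only [hv, Complex.normSq_intCast] at h
    have h' : ((∑ i, v i * v i : ℤ) : ℝ) = ((82 : ℤ) : ℝ) := by push_cast; rw [h]; norm_num
    exact_mod_cast h'
  have hdg : ∑ i, (charDegree (D.r i).1 : ℤ) * v i = 770 := by
    have h := S.F.rest_deg S.s_ne_one S.cols
    rw [S.vs_eq, S.row_eq, show dgOf 1 theRow sCol = -770 from rfl, D.sum_rest] at h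
    simp only [hv] at h
    have h' : ((∑ i, (charDegree (D.r i).1 : ℤ) * v i : ℤ) : ℂ) = ((770 : ℤ) : ℂ) := by
      push_cast; rw [h]; norm_num
    exact_mod_cast h'
  obtain ⟨w0, w1, w2, w3⟩ := S.vw_vals
  obtain ⟨t0, t1, t2, t3⟩ := S.vt_vals
  obtain ⟨s0, s1, s2, s3⟩ := S.vs_vals
  have hne : ¬ IsConj S.s S.w ∧ ¬ IsConj S.s S.t := by
    constructor <;> intro hc <;> obtain ⟨c, hc⟩ := isConj_iff.mp hc
    · have := S.hw
      rw [← hc, orderOf_conj, S.hs] at this
      norm_num at this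
    · have h1 : csize S.s = csize S.t := by
        rw [csize, csize]
        exact Nat.card_congr (Equiv.subtypeEquivRight fun g =>
          ⟨(isConj_iff.mpr ⟨c, hc⟩).symm.trans, (isConj_iff.mpr ⟨c, hc⟩).trans⟩)
      rw [csize_val S.card S.cs (K := 495) rfl, csize_val S.card S.ct (K := 396) rfl] at h1
      norm_num at h1
  have horth : ∀ (b : G) (u : Fin 4 → ℤ) (r : Fin 8 → ℤ), ¬ IsConj S.s b → S.F.HasCol b u →
      (∀ i, (D.r i).1 b = (r i : ℂ)) →
      1 + ∑ i, S.vs i * u i + ∑ i, v i * r i = 0 := by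
    intro b u r hb hu hr
    have h := Char.column_orth S.s b
    have hce : (conjChar S.F.e).1 S.s = 0 := by
      show conj (S.F.e.1 S.s) = 0
      rw [S.e_s, map_zero]
    rw [if_neg hb, S.F.sum_eq, D.sum_rest] at h
    simp only [S.e_s, hce, zero_mul, zero_add, S.cols.2, hu.2, hv, hr, map_intCast, oneChar, Pi.one_apply,
      map_one, mul_one] at h
    have h' : ((1 + ∑ i, S.vs i * u i + ∑ i, v i * r i : ℤ) : ℂ) = ((0 : ℤ) : ℂ) := by
      push_cast; linear_combination h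
    exact_mod_cast h'
  have how := horth S.w S.vw _ hne.1 S.colw D.val_w
  have hot := horth S.t S.vt _ hne.2 S.colt D.val_t
  simp only [D.deg, Fin.sum_univ_eight, Fin.sum_univ_four, w0, w1, w2, w3, t0, t1, t2, t3, s0, s1, s2, s3]
    at hdg how hot
  simp only [Fin.isValue, Matrix.cons_val, Nat.cast_ofNat] at hdg how hot
  rw [Fin.sum_univ_eight] at hn
  have m3 := hv4 3
  have m4 := hv4 4
  have m5 := hv4 5
  have m6 := hv4 6
  have m7 := hv4 7
  simp only [Fin.isValue, Matrix.cons_val, Nat.cast_ofNat] at m3 m4 m5 m6 m7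
  have hd7 : charDegree (D.r 7).1 = 176 := by
    rw [D.deg]; rfl
  have hint := ClassCount.isIntegral_omega (D.r 7).2 S.s
  rw [ClassCount.omega, hv, dg_eq, hd7] at hint
  obtain ⟨b, -, hb'⟩ := Order7920.int_of_rat (k := 176) (a := (csize S.s : ℤ) * v 7) (by norm_num)
    hint (by rw [mul_div_cancel₀ _ (by norm_num)]; simp [csize])
  rw [csize_val S.card S.cs (K := 495) rfl] at hb'
  obtain ⟨eY, e7, e6, e5, ep⟩ := s_rest_arith (a := v 0) (b := v 1) (c := v 2) (p := v 3) (q := v 4)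
    (y := v 5) (z := v 6) (t := v 7) (k := b) (by linarith only [hdg]) (by linarith only [how])
    (by linarith only [hot]) (by linarith only [hn]) m3 m4 m5 m6 m7 (by push_cast at hb'; linarith only [hb'])
  exact ⟨v, hv, eY, e7, e6, e5, ep, by rw [Fin.sum_univ_eight]; exact hn⟩

omit [IsSimpleGroup G] in
theorem val_real_of_not_dvd (hreal : ∀ χ : IrrCharacter G, χ ≠ S.F.e → χ ≠ conjChar S.F.e →
    ∀ g : G, (χ.1 g).im = 0) (χ : IrrCharacter G) {g : G} (hg : ¬ 11 ∣ orderOf g) :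
    conj (χ.1 g) = χ.1 g := by
  by_cases h1 : χ = S.F.e
  · rw [h1]; exact S.F.e_real g hg
  by_cases h2 : χ = conjChar S.F.e
  · rw [h2]
    show conj (conj (S.F.e.1 g)) = conj (S.F.e.1 g)
    rw [S.F.e_real g hg]
    exact S.F.e_real g hg
  exact Complex.conj_eq_iff_im.mpr (hreal χ h1 h2 g)

/-- A square root of the involution with centraliser of order 192. -/
theorem exists_root (D : RestData S)
    (hν : ∀ χ : IrrCharacter G, χ ≠ S.F.e → χ ≠ conjChar S.F.e →
      (haveI := Fintype.ofFinite G; FSInd.fsInd χ.1 = 1)) :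
    ∃ g : G, g * g = S.s ∧
      ((Nat.card (centralizer ({g} : Set G)) : ℤ) ∈ rootOrders) := by
  classical
  have := Fintype.ofFinite G
  have := Fintype.ofFinite (IrrCharacter G)
  obtain ⟨v, hv, hY, h7, h6, h5, hp, -⟩ := S.exists_s_vals D
  obtain ⟨s0, s1, s2, s3⟩ := S.vs_vals
  have hsum := FSInd.card_sqrt_eq_sum (G := G) S.s
  have hce : (conjChar S.F.e).1 S.s = 0 := by
    show conj (S.F.e.1 S.s) = 0
    rw [S.e_s, map_zero]
  have hterm : ∀ χ : IrrCharacter G, FSInd.fsInd χ.1 * χ.1 S.s = χ.1 S.s := fun χ => by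
    by_cases h1 : χ = S.F.e
    · rw [h1, S.e_s, mul_zero]
    by_cases h2 : χ = conjChar S.F.e
    · rw [h2, hce, mul_zero]
    have := hν χ h1 h2
    rw [show FSInd.fsInd χ.1 = 1 by convert this, one_mul]
  rw [Finset.sum_congr rfl fun χ _ => hterm χ, S.F.sum_eq, D.sum_rest] at hsum
  have h34 : v 3 + v 4 = 6 := by
    simp only [sPairs, List.mem_cons, List.not_mem_nil, or_false, Prod.mk.injEq] at hp
    omega
  simp only [S.e_s, hce, S.cols.2, hv, Fin.sum_univ_four, Fin.sum_univ_eight, oneChar, Pi.one_apply,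
    s0, s1, s2, s3, zero_add] at hsum
  have h12 : Nat.card {z : G // z * z = S.s} = 12 := by
    have e : ((1 + (-8 + 6 + -3 + 0 + (v 0 + v 1 + v 2 + v 3 + v 4 + v 5 + v 6 + v 7)) : ℤ) : ℂ) =
        ((12 : ℤ) : ℂ) := by congr 1; omega
    have : (Nat.card {z : G // z * z = S.s} : ℂ) = ((12 : ℕ) : ℂ) := by
      rw [hsum]; push_cast at e ⊢; linear_combination e
    exact_mod_cast this
  obtain ⟨⟨g, hg⟩⟩ := (Nat.card_pos_iff.mp (by omega : 0 < Nat.card {z : G // z * z = S.s})).1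
  refine ⟨g, hg, ?_⟩
  have hle : centralizer ({g} : Set G) ≤ centralizer ({S.s} : Set G) := fun x hx => by
    rw [mem_centralizer_singleton_iff] at hx ⊢
    rw [← hg, ← mul_assoc, hx, mul_assoc, hx, ← mul_assoc]
  have hdvd := card_dvd_of_le hle
  rw [S.cs] at hdvd
  -- the orbit of `g` consists of square roots of `s`
  have h16 : 192 ≤ Nat.card (centralizer ({g} : Set G)) * 12 := by
    set f : centralizer ({S.s} : Set G) → {z : G // z * z = S.s} := fun c =>
      ⟨(c : G) * g * (c : G)⁻¹, by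
        rw [show (c : G) * g * (c : G)⁻¹ * ((c : G) * g * (c : G)⁻¹) = (c : G) * (g * g) * (c : G)⁻¹ by group,
          hg, mem_centralizer_singleton_iff.mp c.2, mul_inv_cancel_right]⟩
    have hb := Finset.card_le_mul_card_image (f := f) Finset.univ (Nat.card (centralizer ({g} : Set G)))
      (fun z hz => by
        obtain ⟨c0, -, rfl⟩ := Finset.mem_image.mp hz
        rw [Nat.card_eq_fintype_card, ← Finset.card_univ]
        refine Finset.card_le_card_of_injOn
          (fun c => if h : (c0 : G)⁻¹ * (c : G) ∈ centralizer ({g} : Set G) then ⟨_, h⟩ else 1)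
          (fun _ _ => Finset.mem_univ _) (fun c hc c' hc' e => ?_)
        have key : ∀ x : centralizer ({S.s} : Set G), f x = f c0 →
            (c0 : G)⁻¹ * (x : G) ∈ centralizer ({g} : Set G) := fun x hx => by
          have hx' : (x : G) * g * (x : G)⁻¹ = (c0 : G) * g * (c0 : G)⁻¹ := congrArg Subtype.val hx
          rw [mem_centralizer_singleton_iff]
          calc (c0 : G)⁻¹ * (x : G) * g = (c0 : G)⁻¹ * ((x : G) * g * (x : G)⁻¹) * (x : G) := by group
            _ = (c0 : G)⁻¹ * ((c0 : G) * g * (c0 : G)⁻¹) * (x : G) := by rw [hx']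
            _ = g * ((c0 : G)⁻¹ * (x : G)) := by group
        simp only [Finset.coe_filter, Finset.mem_univ, true_and, Set.mem_ofPred_eq] at hc hc'
        simp only [dif_pos (key c hc), dif_pos (key c' hc')] at e
        exact Subtype.ext (mul_left_cancel (congrArg Subtype.val e)))
    rw [Finset.card_univ, ← Nat.card_eq_fintype_card, S.cs] at hb
    refine hb.trans (Nat.mul_le_mul_left _ ?_)
    rw [← h12, Nat.card_eq_fintype_card]
    exact Finset.card_le_univ _
  exact rootOrders_complete _ (Nat.lt_succ_of_le (Nat.le_of_dvd (by norm_num) hdvd))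
    (Nat.mod_eq_zero_of_dvd hdvd) (by omega)

end Setting

omit [IsSimpleGroup G] in
/-- A value of an element of order 4. -/
theorem okg_value (h : Nat.card G = 95040) (χ : IrrCharacter G) {g : G} {C : ℕ} {d s v : ℤ}
    (hC : Nat.card (centralizer ({g} : Set G)) = C) (hd : (charDegree χ.1 : ℤ) = d)
    (hv : χ.1 g = (v : ℂ)) (hB : v * v ≤ (C : ℤ))
    (h4 : 0 ≤ d + s + 2 * v ∧ 0 ≤ d + s - 2 * v ∧ (d + s - 2 * v) % 8 = 0) :
    okg C d s v = true := by
  simp only [okg, Bool.and_eq_true, decide_eq_true_eq]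
  refine ⟨⟨⟨⟨hB, h4.1⟩, h4.2.1⟩, h4.2.2⟩, ?_⟩
  have hint := ClassCount.isIntegral_omega χ.2 g
  rw [ClassCount.omega, hv, dg_eq] at hint
  have hpos := (ClassCount.charDegree_pos χ).ne'
  obtain ⟨b, -, hb⟩ := Order7920.int_of_rat (k := charDegree χ.1) (a := (csize g : ℤ) * v) hpos hint (by
    rw [mul_div_cancel₀ _ (Nat.cast_ne_zero.mpr hpos)]
    simp [csize])
  rw [← csize_eq h hC, ← hd]
  exact Int.emod_eq_zero_of_dvd ⟨b, hb.symm⟩

omit [IsSimpleGroup G] in
theorem Setting.not_isConj_of_square {S : Setting G} {g : G} (hg : orderOf g = 4) : ¬ IsConj g S.s := by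
  intro hc
  obtain ⟨c, hc⟩ := isConj_iff.mp hc
  have := S.hs
  rw [← hc, orderOf_conj, hg] at this
  norm_num at this

omit [IsSimpleGroup G] in
theorem normOf_nonneg (u : ℤ) (x v : Q4) : 0 ≤ normOf u x v := by
  simp only [normOf, sum2]
  linarith [mul_self_nonneg u, mul_self_nonneg v.1, mul_self_nonneg v.2.1, mul_self_nonneg v.2.2.1,
    mul_self_nonneg v.2.2.2, mul_self_nonneg (veOf u x v)]

/-- The characters outside the block vanish at the nontrivial powers of an element of order 11. -/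
theorem Setting.rest_pow (S : Setting G) {χ : IrrCharacter G} (hχ : χ ∈ S.F.rest) {k : ℕ} (hk0 : k ≠ 0)
    (hk : k < 11) : χ.1 (S.a ^ k) = 0 := by
  have h0 := S.F.rest_val hχ
  by_cases hpos : k = 1 ∨ k = 3 ∨ k = 4 ∨ k = 5 ∨ k = 9
  · rw [← (Char.isConj_iff_irr _ _).mp (isConj_pow_eleven S.card S.ha hpos) χ, h0]
  · have e : S.a ^ k = (S.a ^ (11 - k))⁻¹ := eq_inv_of_mul_eq_one_left (by
      rw [← pow_add, show k + (11 - k) = orderOf S.a by rw [S.ha]; omega, pow_orderOf_eq_one])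
    rw [e, Char.IsCharacter.apply_inv (isChar χ),
      ← (Char.isConj_iff_irr _ _).mp (isConj_pow_eleven S.card S.ha (k := 11 - k) (by omega)) χ, h0, map_zero]

/-- An element of order 4 and a proper subgroup containing it and an element of order 11. -/
theorem exists_subgroup44 (S : Setting G) : ∃ (g : G) (H : Subgroup G),
    orderOf g = 4 ∧ g ∈ H ∧ S.a ∈ H ∧ H ≠ ⊤ := by
  classical
  have := Fintype.ofFinite (IrrCharacter G)
  obtain ⟨⟨D⟩, -, hν⟩ := exists_restData S
  obtain ⟨g, hg, hC'⟩ := S.exists_root D (fun χ h1 h2 => (hν χ h1 h2).1)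
  obtain ⟨C, hC⟩ : ∃ C, Nat.card (centralizer ({g} : Set G)) = C := ⟨_, rfl⟩
  rw [hC] at hC'
  have hg2 : g ^ 2 = S.s := by rw [pow_two, hg]
  have ho : orderOf g = 4 :=
    orderOf_eq_prime_pow (p := 2) (n := 1)
      (by rw [pow_one, hg2]; exact S.s_ne_one)
      (by rw [show (2 : ℕ) ^ (1 + 1) = 2 * 2 from rfl, pow_mul, hg2, ← S.hs, pow_orderOf_eq_one])
  have hg1 : g ≠ 1 := fun e => by rw [e, orderOf_one] at ho; norm_num at ho
  have hg4 : g ^ 4 = 1 := by rw [← ho, pow_orderOf_eq_one]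
  have h11 : ¬ 11 ∣ orderOf g := by rw [ho]; norm_num
  have hval := fun (χ : IrrCharacter G) (s : ℤ) (hs : χ.1 S.s = (s : ℂ)) =>
    val_four (not_comm S.card) (isChar χ) hg4
      (S.val_real_of_not_dvd (fun χ h1 h2 => (hν χ h1 h2).2) χ h11) (s := s) (by rw [hg2]; exact hs)
  obtain ⟨vs', hvs', -, hs7, hs6, hs5, hsp, hs82⟩ := S.exists_s_vals D
  choose v hv hv1 hv2 hv3 using fun i => hval (S.F.al i) (S.vs i) (S.cols.2 i)
  choose u hu hu1 hu2 hu3 using fun i => hval (D.r i) (vs' i) (hvs' i)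
  have hV : S.F.HasCol g v := ⟨h11, hv⟩
  obtain ⟨x0, x1, x2, x3, hy⟩ := S.x_vals
  obtain ⟨s0, s1, s2, s3⟩ := S.vs_vals
  obtain ⟨w0, w1, w2, w3⟩ := S.vw_vals
  obtain ⟨t0, t1, t2, t3⟩ := S.vt_vals
  have hn := S.F.norm_le hC hV
  have hrn := S.F.rest_norm hC hV
  have hnu : ∑ i, u i * u i = (C : ℤ) - normOf 1 S.F.row (q4 v) := by
    rw [D.sum_rest] at hrn
    simp only [hu, Complex.normSq_intCast] at hrn
    have h' : ((∑ i, u i * u i : ℤ) : ℝ) = (((C : ℤ) - normOf 1 S.F.row (q4 v) : ℤ) : ℝ) := by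
      push_cast; rw [hrn]
    exact_mod_cast h'
  have h0u : 0 ≤ ∑ i, u i * u i := Finset.sum_nonneg fun i _ => mul_self_nonneg _
  have hBv : ∀ i, v i * v i ≤ (C : ℤ) := fun i => by
    refine le_trans ?_ hn
    have h1 := Finset.single_le_sum (f := fun i => v i * v i) (fun i _ => mul_self_nonneg _)
      (Finset.mem_univ i)
    simp only [normOf, Frame.row, sum2_q4]
    nlinarith [mul_self_nonneg (veOf 1 (q4 S.F.x) (q4 v))]
  have hBu : ∀ i, u i * u i ≤ (C : ℤ) := fun i => by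
    refine le_trans (Finset.single_le_sum (f := fun i => u i * u i) (fun i _ => mul_self_nonneg _)
      (Finset.mem_univ i)) ?_
    linarith [normOf_nonneg 1 S.F.row (q4 v)]
  have hokv : ∀ i d s, (S.F.x i).natAbs = d → S.vs i = s → okg C (d : ℕ) s (v i) = true := fun i d s e1 e2 => by
    refine okg_value S.card (S.F.al i) hC ?_ (hv i) (hBv i) ?_
    · rw [← e1, S.F.deg i]
    · rw [← e1, S.F.deg i, ← e2]; exact ⟨hv1 i, hv2 i, hv3 i⟩
  have hoku : ∀ i d s, charDegree (D.r i).1 = d → vs' i = s → okg C (d : ℕ) s (u i) = true := fun i d s e1 e2 => by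
    refine okg_value S.card (D.r i) hC (by rw [e1]) (hu i) (hBu i) ?_
    rw [← e1, ← e2]; exact ⟨hu1 i, hu2 i, hu3 i⟩
  have ha := hokv 0 120 (-8) (by rw [x0]; rfl) s0
  have hb := hokv 1 54 6 (by rw [x1]; rfl) s1
  have hc := hokv 2 45 (-3) (by rw [x2]; rfl) s2
  have hd := hokv 3 144 0 (by rw [x3]; rfl) s3
  -- the conditions on the block
  obtain ⟨z, hz, hz1, hz2, hz3⟩ := hval S.F.e 0 (by rw [S.e_s, Int.cast_zero])
  have hze : z = veOf 1 theRow (q4 v) := by
    rw [S.F.val_e_col hV, S.row_eq] at hz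
    exact_mod_cast hz.symm
  have hye : (charDegree S.F.e.1 : ℤ) = 16 := by rw [← S.F.deg_e, hy]; rfl
  have hn' : normOf 1 theRow (q4 v) ≤ C := by rw [← S.row_eq]; exact hn
  have hK := csize_eq S.card hC
  have hB : blockG C (q4 v) = true := by
    have hf1 := S.F.fibOK_fib S.card hV S.cols
    have hf2 := S.F.fibOK_fib S.card hV S.colt
    have hf3 := S.F.fibOK_fib S.card hV hV
    rw [hK, csize_val S.card S.cs (K := 495) rfl, S.row_eq, S.vs_eq] at hf1
    rw [hK, csize_val S.card S.ct (K := 396) rfl, S.row_eq, S.vt_eq] at hf2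
    rw [hK, S.row_eq] at hf3
    have hzz : z * z ≤ (C : ℤ) := by
      refine le_trans ?_ hn'
      simp only [normOf, ← hze]
      have h1 : 0 ≤ ∑ i, v i * v i := Finset.sum_nonneg fun i _ => mul_self_nonneg _
      have : sum2 (fun _ t => t * t) theRow (q4 v) = ∑ i, v i * v i := by
        simp [sum2, q4, Fin.sum_univ_four]
      nlinarith [mul_self_nonneg z]
    have hoe := okg_value S.card S.F.e hC (d := 16) (s := 0) hye hz hzz
      (by rw [← hye]; exact ⟨hz1, hz2, hz3⟩)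
    rw [hze] at hoe
    simp only [Nat.cast_ofNat] at hf1 hf2
    simp only [blockG, hoe, decide_eq_true hn', hf1, hf2, hf3, Bool.and_self]
  -- column orthogonality
  have horth : ∀ (b : G) (bv : Fin 4 → ℤ) (r : Fin 8 → ℤ) (be : ℤ), ¬ IsConj g b → S.F.HasCol b bv →
      veOf 1 theRow (q4 bv) = be → (∀ i, (D.r i).1 b = (r i : ℂ)) →
      1 + ∑ i, v i * bv i + 2 * (veOf 1 theRow (q4 v) * be) + ∑ i, u i * r i = 0 := by
    intro b bv r be hgb hbv hbe hr
    have h := Char.column_orth g b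
    rw [if_neg hgb, S.F.sum_eq, D.sum_rest] at h
    simp only [S.F.val_e_col hV, S.F.val_ce_col hV, S.F.val_e_col hbv, S.F.val_ce_col hbv, hv, hbv.2,
      hu, hr, map_intCast, oneChar, Pi.one_apply, map_one, mul_one, S.row_eq, hbe] at h
    have h' : ((1 + ∑ i, v i * bv i + 2 * (veOf 1 theRow (q4 v) * be) + ∑ i, u i * r i : ℤ) : ℂ) =
        ((0 : ℤ) : ℂ) := by
      push_cast; linear_combination h
    exact_mod_cast h'
  have hngt : ¬ IsConj g S.t ∧ ¬ IsConj g S.w := by
    constructor <;> intro hc <;> obtain ⟨c, hc⟩ := isConj_iff.mp hc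
    · have := S.ht
      rw [← hc, orderOf_conj, ho] at this
      norm_num at this
    · have := S.hw
      rw [← hc, orderOf_conj, ho] at this
      norm_num at this
  have how := horth S.w S.vw _ 1 hngt.2 S.colw (by rw [S.vw_eq]; rfl) D.val_w
  have hot := horth S.t S.vt _ 4 hngt.1 S.colt (by rw [S.vt_eq]; rfl) D.val_t
  -- not the column of `s`
  have hne : ¬ ((C : ℤ) = 192 ∧ q4 v = sCol) := by
    rintro ⟨e1, e2⟩
    have hos := horth S.s S.vs vs' 0 (Setting.not_isConj_of_square ho) S.cols (by rw [S.vs_eq]; rfl) hvs'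
    have e3 : ∀ i, v i = S.vs i := by
      have h' : q4 v = q4 S.vs := e2.trans S.vs_eq.symm
      simp only [q4, Prod.mk.injEq] at h'
      obtain ⟨h1, h2, h3, h4⟩ := h'
      intro i; fin_cases i <;> assumption
    rw [S.row_eq, e2, e1, show normOf 1 theRow sCol = 110 from rfl] at hnu
    simp only [e3, Fin.sum_univ_four, s0, s1, s2, s3, mul_zero, add_zero] at hos
    have h2 : 0 ≤ ∑ i, (u i + vs' i) * (u i + vs' i) := Finset.sum_nonneg fun i _ => mul_self_nonneg _
    have h3 : ∑ i, (u i + vs' i) * (u i + vs' i) =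
        ∑ i, u i * u i + 2 * ∑ i, u i * vs' i + ∑ i, vs' i * vs' i := by
      rw [Finset.mul_sum, ← Finset.sum_add_distrib, ← Finset.sum_add_distrib]
      exact Finset.sum_congr rfl fun i _ => by ring
    linarith
  have hR := fourCheck_sound hC' ha hb hc hd hB hne
  simp only [restG, List.all_eq_true] at hR
  -- the degree relation
  have hdg : ∑ i, (charDegree (D.r i).1 : ℤ) * u i = -dgOf 1 theRow (q4 v) := by
    have h := S.F.rest_deg hg1 hV
    rw [S.row_eq, D.sum_rest] at h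
    simp only [hu] at h
    have h' : ((∑ i, (charDegree (D.r i).1 : ℤ) * u i : ℤ) : ℂ) =
        ((-dgOf 1 theRow (q4 v) : ℤ) : ℂ) := by push_cast; rw [h]
    exact_mod_cast h'
  simp only [D.deg, Fin.sum_univ_eight, Fin.sum_univ_four, w0, w1, w2, w3, t0, t1, t2, t3] at hdg how hot
  simp only [Fin.isValue, Matrix.cons_val, Nat.cast_ofNat] at hdg how hot
  have hC192 : (C : ℤ) ≤ 192 := by
    simp only [rootOrders, List.mem_cons, List.not_mem_nil, or_false] at hC'; omega
  have hq := hR _ hsp _ (mem_candg hC192 (hoku 6 66 2 (D.deg 6) hs6))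
    _ (mem_candg hC192 (hoku 5 99 3 (D.deg 5) hs5)) _ (mem_candg hC192 (hoku 7 176 0 (D.deg 7) hs7))
  have eT : sum2 (fun p r => p * r) tCol (q4 v) = 6 * v 1 + 5 * v 2 + 4 * v 3 := by
    simp [sum2, tCol, q4]
  have eW : sum2 (fun p r => p * r) wCol (q4 v) = -v 1 - v 3 := by
    simp [sum2, wCol, q4]; ring
  rw [show (v 0, v 1, v 2, v 3) = q4 v from rfl] at hq
  rw [eT, eW] at hq
  have hlin : 11 * (12 * (u 6 + u 7) + 8 * u 5) =
      -11 * (1 + (6 * v 1 + 5 * v 2 + 4 * v 3) + 8 * veOf 1 theRow (q4 v)) - dgOf 1 theRow (q4 v) := by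
    linarith
  simp only [decide_eq_true hlin, Bool.not_true, Bool.false_or, List.all_eq_true] at hq
  have hq2 := hq _ (mem_candg hC192 (hoku 3 11 _ (D.deg 3) rfl))
  have hp4 : -(1 + (-v 1 - v 3) + 2 * veOf 1 theRow (q4 v)) - (u 6 + u 7) + u 5 - u 3 = u 4 := by
    linarith
  have hnorm : normOf 1 theRow (q4 v) + u 6 * u 6 + u 5 * u 5 + u 7 * u 7 + u 3 * u 3 + u 4 * u 4 ≤ (C : ℤ) := by
    rw [Fin.sum_univ_eight, S.row_eq] at hnu
    nlinarith [mul_self_nonneg (u 0), mul_self_nonneg (u 1), mul_self_nonneg (u 2)]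
  have hok4 : okg C 11 (vs' 4) (u 4) = true := hoku 4 11 _ (D.deg 4) rfl
  simp only [hp4, hok4, decide_eq_true hnorm, Bool.and_self, Bool.not_true, Bool.false_or,
    Bool.and_eq_true, Bool.or_eq_true, decide_eq_true_eq, Bool.not_eq_true', decide_eq_false_iff_not]
    at hq2
  obtain ⟨hbig, htz⟩ := hq2
  -- a product of conjugates of `s` and `g` equal to `a`
  have hfib := S.F.fib_eq S.card hV S.cols
  rw [S.row_eq, S.vs_eq] at hfib
  have hne0 : ClassCount.fibreCount g S.s S.a ≠ 0 := fun e => by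
    rw [e, Nat.cast_zero, mul_zero] at hfib
    have hK0 : ∀ b : G, (csize b : ℤ) ≠ 0 := fun b h0 => by
      have h1 := csize_mul S.card b
      rw [Int.natCast_eq_zero.mp h0] at h1
      simp at h1
    exact htz ((mul_eq_zero.mp hfib.symm).resolve_left (mul_ne_zero (hK0 g) (hK0 S.s)))
  obtain ⟨⟨g', hgg', hsg'⟩⟩ := (Nat.card_pos_iff.mp (Nat.pos_of_ne_zero hne0)).1
  obtain ⟨c, hc⟩ := isConj_iff.mp hgg'
  have hg'o : orderOf g' = 4 := by rw [← hc, orderOf_conj, ho]
  refine ⟨g', closure ({g', g'⁻¹ * S.a} : Set G), hg'o, subset_closure (by simp), ?_, ?_⟩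
  · have := mul_mem (subset_closure (k := ({g', g'⁻¹ * S.a} : Set G)) (by simp : g' ∈ ({g', g'⁻¹ * S.a} : Set G)))
      (subset_closure (by simp : g'⁻¹ * S.a ∈ ({g', g'⁻¹ * S.a} : Set G)))
    rwa [mul_inv_cancel_left] at this
  -- the character with many fixed points
  obtain ⟨i, hi, hbig, hle7⟩ : ∃ i : Fin 8, (charDegree (D.r i).1 = 11) ∧
      15 ≤ 3 * vs' i + 2 * u i ∧ vs' i ≤ 7 := by
    simp only [sPairs, List.mem_cons, List.not_mem_nil, or_false, Prod.mk.injEq] at hsp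
    rcases hbig with h | h
    · exact ⟨3, D.deg 3, h, by omega⟩
    · exact ⟨4, D.deg 4, h, by omega⟩
  obtain ⟨n, ρ, hρ, hρc⟩ := (D.r i).2
  have hn11 : n = 11 := by
    have h1 := dg_eq (D.r i)
    rw [hi, ← hρc, Representation.char_one, Module.finrank_fin_fun] at h1
    exact_mod_cast h1
  subst hn11
  have hchar : ∀ x, ρ.character x = (D.r i).1 x := fun x => congrFun hρc x
  have hcl : ∀ {x y : G}, IsConj x y → (D.r i).1 y = (D.r i).1 x := fun hxy =>
    ((Char.isConj_iff_irr _ _).mp hxy (D.r i)).symm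
  have hs' : (D.r i).1 (g'⁻¹ * S.a) = (vs' i : ℂ) := by rw [hcl hsg', hvs']
  have hs'2 : (g'⁻¹ * S.a) ^ 2 = 1 := by
    obtain ⟨d, hd⟩ := isConj_iff.mp hsg'
    rw [← hd, conj_pow, ← S.hs, pow_orderOf_eq_one, mul_one, mul_inv_cancel]
  have hdvd := hu3 i
  have hlo := hu1 i
  have hhi := hu2 i
  rw [hi] at hdvd hlo hhi
  refine Order7920.closure_ne_top_of_rank (hirr := hρ) ρ (z := S.a⁻¹) (by group) ?_ ?_
  · intro e
    have h1 := hchar g'
    rw [Representation.character, e, hcl hgg', hu, LinearMap.trace_one,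
      Module.finrank_fin_fun] at h1
    have : u i = 11 := by exact_mod_cast h1.symm
    omega
  · obtain ⟨m1, hm1⟩ : ∃ m1 : ℕ, (m1 : ℤ) * 2 = 11 + vs' i := ⟨((11 + vs' i) / 2).toNat, by
      omega⟩
    obtain ⟨m2, hm2⟩ : ∃ m2 : ℕ, (m2 : ℤ) * 4 = 11 + vs' i + 2 * u i := ⟨((11 + vs' i + 2 * u i) / 4).toNat, by
      omega⟩
    have r1 := Order7920.rank_le_of_sum ρ (g := g'⁻¹ * S.a) (n := 2) (by norm_num) hs'2 (m := m1) (by
      simp only [hchar, Finset.sum_range_succ, Finset.sum_range_zero, pow_zero, pow_one, hs', dg_eq, hi,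
        zero_add]
      have : ((11 + vs' i : ℤ) : ℂ) = (((m1 : ℤ) * 2 : ℤ) : ℂ) := by rw [hm1]
      push_cast at this ⊢; linear_combination this)
    have hg'4 : g' ^ 4 = 1 := by rw [← hg'o, pow_orderOf_eq_one]
    have r2 := Order7920.rank_le_of_sum ρ (g := g') (n := 4) (by norm_num) hg'4 (m := m2) (by
      have e1 : (D.r i).1 g' = (u i : ℂ) := by rw [hcl hgg', hu]
      have e2 : (D.r i).1 (g' ^ 2) = (vs' i : ℂ) := by
        rw [hcl (x := g ^ 2) (isConj_iff.mpr ⟨c, by rw [← conj_pow, hc]⟩), hg2, hvs']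
      have e3 : (D.r i).1 (g' ^ 3) = (u i : ℂ) := by
        rw [show g' ^ 3 = g'⁻¹ from eq_inv_of_mul_eq_one_left (by rw [← pow_succ, hg'4]),
          Char.IsCharacter.apply_inv (isChar _), e1, map_intCast]
      simp only [hchar, Finset.sum_range_succ, Finset.sum_range_zero, pow_zero, pow_one, e1, e2, e3, dg_eq,
        hi, zero_add]
      have : ((11 + vs' i + 2 * u i : ℤ) : ℂ) = (((m2 : ℤ) * 4 : ℤ) : ℂ) := by rw [hm2]
      push_cast at this ⊢; linear_combination this)
    have ha11 : ∀ k ∈ Finset.range 11, k ≠ 0 → (D.r i).1 (S.a⁻¹ ^ k) = 0 := by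
      intro k hk hk0
      rw [Finset.mem_range] at hk
      rw [inv_pow, Char.IsCharacter.apply_inv (isChar _)]
      rw [S.rest_pow (D.mem i) hk0 hk, map_zero]
    have r3 := Order7920.rank_le_of_sum ρ (g := S.a⁻¹) (n := 11) (by norm_num)
      (by rw [inv_pow, ← S.ha, pow_orderOf_eq_one, inv_one]) (m := 1) (by
        rw [Finset.sum_eq_single 0 (fun k hk hk0 => by rw [hchar, ha11 k hk hk0]) (by simp), hchar,
          pow_zero, dg_eq, hi]
        norm_num)
    omega

end Cfsg.Agent.Order95040
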