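/-
A simple subgroup of index 12 in a simple group of order 95040.

Main results (namespace `Cfsg.Agent.Order95040`): `index_dvd_normalizer`,
`sylow_one_mod_eleven`, `not_self_normalizing`, `isSimpleGroup_7920`, `exists_index_twelve`.
-/
import Cfsg.Agent.Lib.Order95040.Eleven
import Mathlib.GroupTheory.Transfer

set_option autoImplicit false

namespace Cfsg.Agent.Order95040

open Subgroup SmallOrders

section general

variable {K : Type*} [Group K] [Finite K]

/-- Frattini: the index of a normal subgroup divides the normaliser of each of its Sylow subgroups. -/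
theorem index_dvd_normalizer {N : Subgroup K} [N.Normal] {p : ℕ} [Fact p.Prime] (Q : Sylow p N) :
    N.index ∣ Nat.card (normalizer (((Q : Subgroup N).map N.subtype : Subgroup K) : Set K)) := by
  set M := normalizer (((Q : Subgroup N).map N.subtype : Subgroup K) : Set K)
  have htop : M.map (QuotientGroup.mk' N) = ⊤ := by
    have h := congrArg (Subgroup.map (QuotientGroup.mk' N)) (Sylow.normalizer_sup_eq_top Q)
    rw [Subgroup.map_sup, QuotientGroup.map_mk'_self, sup_bot_eq,
      Subgroup.map_top_of_surjective _ (QuotientGroup.mk'_surjective N)] at h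
    exact h
  have := M.card_map_dvd (QuotientGroup.mk' N)
  rw [htop, Subgroup.card_top] at this
  exact this

end general

variable {G : Type*} [Group G] [Finite G] [IsSimpleGroup G]

theorem commute_of_eleven_mem (h : Nat.card G = 95040) {b g : G} (hb : orderOf b = 11)
    (hc : b * g = g * b) (hg : ¬ 11 ∣ orderOf g) : g = 1 := by
  rcases (Nat.dvd_prime (by norm_num)).mp (orderOf_dvd_eleven h hb hc.symm) with e | e
  · exact orderOf_eq_one_iff.mp e
  · exact absurd e.symm.dvd hg

/-- A Sylow subgroup of a normal subgroup of index divisible by 11 has order congruent to 1 modulo 11. -/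
theorem sylow_one_mod_eleven (h : Nat.card G = 95040) {H : Subgroup G} {N : Subgroup H} [N.Normal]
    (hi : 11 ∣ N.index) {p : ℕ} [Fact p.Prime] (hp : p ≠ 11) (Q : Sylow p N) :
    Nat.card (Q : Subgroup N) % 11 = 1 := by
  set Q' := (Q : Subgroup N).map N.subtype
  obtain ⟨⟨b, hbN⟩, hb⟩ := exists_prime_orderOf_dvd_card' 11 (hi.trans (index_dvd_normalizer Q))
  rw [Subgroup.orderOf_mk] at hb
  have hbG : orderOf (b : G) = 11 := by rw [Subgroup.orderOf_coe, hb]
  set T := Q'.map H.subtype
  have hcard : Nat.card T = Nat.card (Q : Subgroup N) := by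
    rw [card_map_of_injective (subtype_injective _), card_map_of_injective (subtype_injective _)]
  have hinv : ∀ g ∈ (T : Set G), (b : G) * g * (b : G)⁻¹ ∈ (T : Set G) := by
    rintro _ ⟨x, hx, rfl⟩
    exact ⟨b * x * b⁻¹, (mem_normalizer_iff.mp hbN x).mp hx, by simp⟩
  obtain ⟨k, hk⟩ := Q.isPGroup'.exists_card_eq
  have hone : Nat.card {g : G // g ∈ (T : Set G) ∧ (b : G) * g = g * (b : G)} = 1 := by
    refine Nat.card_eq_one_iff_unique.mpr ⟨⟨fun x y => ?_⟩, ⟨⟨1, T.one_mem, by simp⟩⟩⟩
    have hz : ∀ z : {g : G // g ∈ (T : Set G) ∧ (b : G) * g = g * (b : G)}, (z : G) = 1 := fun z =>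
      commute_of_eleven_mem h hbG z.2.2 fun hd => by
        have h1 := hd.trans (Subgroup.orderOf_dvd_natCard T z.2.1)
        rw [hcard, hk] at h1
        exact hp ((Nat.prime_dvd_prime_iff_eq (by norm_num) Fact.out).mp
          ((by norm_num : Nat.Prime 11).dvd_of_dvd_pow h1)).symm
    exact Subtype.ext ((hz x).trans (hz y).symm)
  have hm := card_modEq_commute hbG (T : Set G) hinv
  rw [hone] at hm
  change Nat.card T % 11 = 1 % 11 at hm
  rw [hcard] at hm
  exact hm

omit [IsSimpleGroup G] in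
/-- The points of `nz a` in a subgroup, when only the powers of `a` are there. -/
theorem inf_eq_zpowers {H : Subgroup G} {a : G} (ha : orderOf a = 11) (haH : a ∈ H)
    (hd : Nat.card ↥(H ⊓ nz a) = 11) : H ⊓ nz a = zpowers a :=
  (eq_of_le_of_card_ge ((zpowers_le (g := a) (H := H ⊓ nz a)).mpr ⟨haH, self_mem_nz a⟩)
    (by rw [hd, Nat.card_zpowers, ha])).symm

/-- No subgroup of order divisible by 4 has a self-normalising Sylow 11-subgroup. -/
theorem not_self_normalizing (h : Nat.card G = 95040) {a : G} (ha : orderOf a = 11) {H : Subgroup G}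
    (haH : a ∈ H) (hd : Nat.card ↥(H ⊓ nz a) = 11) (h4 : 4 ∣ Nat.card H) : False := by
  obtain ⟨m, hm, hm11, hdvd, -⟩ := inf_normalizer_data h ha haH hd
  have hm0 : m ∣ 8640 := Nat.dvd_of_mul_dvd_mul_left (show 0 < 11 by norm_num)
    (show 11 * m ∣ 11 * 8640 by norm_num; exact hdvd)
  rw [← hm] at h4
  have h4m : 4 ∣ m := (by norm_num : Nat.Coprime 4 11).dvd_of_dvd_mul_left h4
  have hfacH : Nat.card H = 11 ^ 1 * m := by rw [← hm, pow_one]
  have hQ : ∀ P : Sylow 11 H, Nat.card (P : Subgroup H) = 11 := fun P => by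
    rw [card_sylow_subgroup hfacH (by omega) P, pow_one]
  obtain ⟨P, hP⟩ := exists_sylow_eq_zpowers hQ (g := (⟨a, haH⟩ : H)) (by rw [Subgroup.orderOf_mk, ha])
  have hCP : normalizer ((P : Subgroup H) : Set H) ≤ centralizer ((P : Subgroup H) : Set H) := by
    intro g hg
    rw [hP, centralizer_zpowers, mem_centralizer_singleton_iff]
    have h1 := (mem_normalizer_iff.mp hg ⟨a, haH⟩).mp (by rw [hP]; exact mem_zpowers _)
    rw [show ((P : Subgroup H)) = zpowers _ from hP, mem_zpowers_iff] at h1
    obtain ⟨i, hi⟩ := h1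
    have hgN : (g : G) ∈ H ⊓ nz a :=
      ⟨g.2, mem_nz (mem_zpowers_iff.mpr ⟨i, by simpa using congrArg Subtype.val hi⟩)⟩
    rw [inf_eq_zpowers ha haH hd, mem_zpowers_iff] at hgN
    obtain ⟨k, hk⟩ := hgN
    refine Subtype.ext ?_
    show (g : G) * a = a * (g : G)
    rw [← hk]
    exact ((Commute.refl a).zpow_left k).eq
  have hK := MonoidHom.ker_transferSylow_isComplement' P hCP
  set N := (MonoidHom.transferSylow P hCP).ker
  have hNcard : Nat.card N = m := by
    have h1 := hK.card_mul_card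
    rw [hQ, ← hm] at h1
    omega
  have hidx : 11 ∣ N.index := by
    have h1 := N.card_mul_index
    rw [hNcard, ← hm] at h1
    have hm1 : 0 < m := Nat.pos_of_ne_zero fun e => by rw [e] at hm11; omega
    exact ⟨1, Nat.eq_of_mul_eq_mul_left hm1 (by rw [h1]; ring)⟩
  have : Fact (Nat.Prime 2) := ⟨Nat.prime_two⟩
  obtain ⟨Q⟩ := (inferInstance : Nonempty (Sylow 2 N))
  have h1 := sylow_one_mod_eleven h (H := H) hidx (p := 2) (by norm_num) Q
  have hcases : ∀ u < 94, ∀ r < 93, 8640 % (93 * u + r) ≠ 0 ∨ (93 * u + r) % 11 ≠ 1 ∨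
      (93 * u + r) % 4 ≠ 0 ∨ 93 * u + r = 12 ∨ 93 * u + r = 144 ∨ 93 * u + r = 320 ∨
      93 * u + r = 540 ∨ 93 * u + r = 1728 := by decide +kernel
  have hc := hcases (m / 93) (by have := Nat.le_of_dvd (by norm_num) hm0; omega) (m % 93) (by omega)
  rw [Nat.div_add_mod] at hc
  have hmz := Nat.mod_eq_zero_of_dvd hm0
  rcases hc with e | e | e | e | e | e | e | e
  · exact e hmz
  · exact e hm11
  · omega
  · rw [card_sylow_subgroup (p := 2) (e := 2) (m := 3) (by rw [hNcard, e]; norm_num) (by norm_num) Q] at h1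
    norm_num at h1
  · rw [card_sylow_subgroup (p := 2) (e := 4) (m := 9) (by rw [hNcard, e]; norm_num) (by norm_num) Q] at h1
    norm_num at h1
  · rw [card_sylow_subgroup (p := 2) (e := 6) (m := 5) (by rw [hNcard, e]; norm_num) (by norm_num) Q] at h1
    norm_num at h1
  · rw [card_sylow_subgroup (p := 2) (e := 2) (m := 135) (by rw [hNcard, e]; norm_num) (by norm_num) Q] at h1
    norm_num at h1
  · rw [card_sylow_subgroup (p := 2) (e := 6) (m := 27) (by rw [hNcard, e]; norm_num) (by norm_num) Q] at h1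
    norm_num at h1

theorem inf_nz_cases (h : Nat.card G = 95040) {a : G} (ha : orderOf a = 11) {H : Subgroup G} (haH : a ∈ H) :
    Nat.card ↥(H ⊓ nz a) = 11 ∨ Nat.card ↥(H ⊓ nz a) = 55 := by
  have h55 := card_dvd_of_le (inf_le_right : H ⊓ nz a ≤ nz a)
  rw [(card_sylow_eleven h ha).2.2.1] at h55
  have h11 : 11 ∣ Nat.card ↥(H ⊓ nz a) :=
    ha ▸ Subgroup.orderOf_dvd_natCard _ (show a ∈ H ⊓ nz a from ⟨haH, self_mem_nz a⟩)
  generalize Nat.card ↥(H ⊓ nz a) = n at h55 h11
  have := Nat.le_of_dvd (by norm_num) h55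
  interval_cases n <;> omega

/-- A subgroup of order 7920 is simple. -/
theorem isSimpleGroup_7920 (h : Nat.card G = 95040) {H : Subgroup G} (hH : Nat.card H = 7920) :
    IsSimpleGroup H := by
  have hnt : Nontrivial H := Finite.one_lt_card_iff_nontrivial.mp (by omega)
  refine { eq_bot_or_eq_top_of_normal := fun N hN => ?_ }
  by_contra hno
  rw [not_or] at hno
  have hmul := N.card_mul_index
  rw [hH] at hmul
  obtain ⟨a, ha⟩ := exists_prime_orderOf_dvd_card' (G := H) 11 (by rw [hH]; norm_num)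
  by_cases h11 : 11 ∣ Nat.card N
  · -- all elements of order 11 lie in `N`
    obtain ⟨b, hb⟩ := exists_prime_orderOf_dvd_card' (G := N) 11 h11
    have : Fact (Nat.Prime 11) := fact_eleven
    have hbH : orderOf (b : H) = 11 := by rw [Subgroup.orderOf_coe, hb]
    have hfac : Nat.card N = 11 ^ 1 * (Nat.card N / 11) := by
      rw [pow_one, Nat.mul_div_cancel' h11]
    have hNdvd : Nat.card N ∣ 7920 := hH ▸ card_subgroup_dvd_card N
    have hn11 : ¬ 11 ∣ Nat.card N / 11 := fun hd => by
      have : 11 * 11 ∣ 7920 := (Nat.mul_div_cancel' h11 ▸ Nat.mul_dvd_mul_left 11 hd).trans hNdvd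
      norm_num at this
    obtain ⟨Q, hQ⟩ := exists_sylow_eq_zpowers
      (fun P : Sylow 11 N => by rw [card_sylow_subgroup hfac hn11 P, pow_one]) hb
    have h1 := index_dvd_normalizer (N := N) Q
    set bG : G := ((b : H) : G)
    have hbG : orderOf bG = 11 := by rw [Subgroup.orderOf_coe, hbH]
    have h2 : ((normalizer (((Q : Subgroup N).map N.subtype : Subgroup H) : Set H))).map H.subtype ≤ nz bG := by
      rintro _ ⟨g, hg, rfl⟩
      refine mem_nz ?_
      have h3 := (mem_normalizer_iff.mp hg (b : H)).mp ⟨b, by rw [hQ]; exact mem_zpowers _, rfl⟩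
      obtain ⟨y, hy, hy'⟩ := h3
      rw [hQ] at hy
      obtain ⟨i, rfl⟩ := mem_zpowers_iff.mp hy
      exact mem_zpowers_iff.mpr ⟨i, by simpa [bG] using congrArg Subtype.val hy'⟩
    have h3 := card_dvd_of_le h2
    rw [card_map_of_injective (subtype_injective _), (card_sylow_eleven h hbG).2.2.1] at h3
    have h4 : N.index ∣ 55 := h1.trans h3
    have hidx : N.index ≠ 1 := fun e => hno.2 (index_eq_one.mp e)
    have hi5 : N.index = 5 := by
      have := Nat.le_of_dvd (by norm_num) h4
      rcases (Nat.dvd_prime (by norm_num : Nat.Prime 5)).mp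
        ((show Nat.Coprime N.index 11 from ((Nat.Prime.coprime_iff_not_dvd (by norm_num)).mpr fun hd => by
          have : 11 * 11 ∣ 7920 := hmul ▸ Nat.mul_dvd_mul h11 hd
          norm_num at this).symm).dvd_of_dvd_mul_left (show N.index ∣ 11 * 5 from h4)) with e | e
      · exact absurd e hidx
      · exact e
    rw [hi5] at hmul
    set N' := N.map H.subtype
    have hN' : Nat.card N' = 1584 := by
      rw [card_map_of_injective (subtype_injective _)]; omega
    have hbN' : bG ∈ N' := ⟨b, b.2, rfl⟩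
    rcases inf_nz_cases h hbG hbN' with e | e
    · exact not_self_normalizing h hbG hbN' e (by rw [hN']; norm_num)
    · have := card_dvd_of_le (inf_le_left : N' ⊓ nz bG ≤ N')
      rw [e, hN'] at this
      norm_num at this
  · have hi : 11 ∣ N.index :=
      ((Nat.Prime.dvd_mul (by norm_num : Nat.Prime 11)).mp (by rw [hmul]; norm_num)).resolve_left h11
    have hN720 : Nat.card N ∣ 2 ^ 4 * 3 ^ 2 * 5 := by
      obtain ⟨k, hk⟩ := hi
      rw [hk] at hmul
      exact ⟨k, Nat.eq_of_mul_eq_mul_left (show 0 < 11 by norm_num)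
        (by rw [show 11 * (2 ^ 4 * 3 ^ 2 * 5) = 7920 from rfl, ← hmul]; ring)⟩
    refine hno.1 (N.eq_bot_of_card_eq ?_)
    by_contra hne
    obtain ⟨p, hp, hpd⟩ := Nat.exists_prime_and_dvd hne
    have := Fact.mk hp
    have hp11 : p ≠ 11 := fun e => h11 (e ▸ hpd)
    obtain ⟨Q⟩ := (inferInstance : Nonempty (Sylow p N))
    have h1 := sylow_one_mod_eleven h (H := H) hi hp11 Q
    obtain ⟨k, hk⟩ := Q.isPGroup'.exists_card_eq
    have hk0 : k ≠ 0 := by
      have h2 := Q.dvd_card_of_dvd_card hpd
      rw [hk] at h2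
      rintro rfl
      rw [pow_zero, Nat.dvd_one] at h2
      exact hp.ne_one h2
    have h2 : p ^ k ∣ 2 ^ 4 * 3 ^ 2 * 5 := hk ▸ (card_subgroup_dvd_card _).trans hN720
    have hp5 : p = 2 ∨ p = 3 ∨ p = 5 := by
      rcases (Nat.Prime.dvd_mul hp).mp ((dvd_pow_self p hk0).trans h2) with h3 | h3
      · rcases (Nat.Prime.dvd_mul hp).mp h3 with h3 | h3
        · exact Or.inl ((Nat.prime_dvd_prime_iff_eq hp Nat.prime_two).mp (hp.dvd_of_dvd_pow h3))
        · exact Or.inr (Or.inl ((Nat.prime_dvd_prime_iff_eq hp Nat.prime_three).mp (hp.dvd_of_dvd_pow h3)))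
      · exact Or.inr (Or.inr ((Nat.prime_dvd_prime_iff_eq hp (by norm_num)).mp h3))
    have hk5 : k < 5 := by
      by_contra hge
      have h5 : p ^ 5 ∣ 720 := (pow_dvd_pow p (by omega)).trans h2
      rcases hp5 with rfl | rfl | rfl <;> norm_num at h5
    rw [hk] at h1
    rcases hp5 with rfl | rfl | rfl <;> interval_cases k <;>
      first | exact absurd rfl hk0 | (norm_num at h1)

/-- A subgroup containing elements of order 4 and 11 has index 12 or is everything. -/
theorem exists_index_twelve (h : Nat.card G = 95040) {a g : G} (ha : orderOf a = 11) (hg : orderOf g = 4)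
    {H : Subgroup G} (hgH : g ∈ H) (haH : a ∈ H) (hne : H ≠ ⊤) :
    Nat.card H = 7920 ∧ IsSimpleGroup H := by
  suffices hH : Nat.card H = 7920 from ⟨hH, isSimpleGroup_7920 h hH⟩
  have h4 : 4 ∣ Nat.card H := hg ▸ Subgroup.orderOf_dvd_natCard H hgH
  rcases inf_nz_cases h ha haH with hd | hd
  · exact absurd (not_self_normalizing h ha haH hd h4) id
  obtain ⟨m, hm, hm11, hdvd, -⟩ := inf_normalizer_data h ha haH hd
  have hm0 : m ∣ 1728 := Nat.dvd_of_mul_dvd_mul_left (show 0 < 55 by norm_num)
    (show 55 * m ∣ 55 * 1728 by norm_num; exact hdvd)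
  have hidx : 11 ≤ H.index := by
    by_contra hlt
    exact hne (eq_top_of_index_le h (by omega))
  have hle : Nat.card H * 11 ≤ 95040 := by
    rw [← h, ← H.card_mul_index]; exact Nat.mul_le_mul_left _ hidx
  have hm160 : m ≤ 157 := by omega
  have hcases : ∀ m < 158, 1728 % m = 0 → m % 11 = 1 → m = 1 ∨ m = 12 ∨ m = 45 ∨ m = 144 := by
    decide +kernel
  have hmz := Nat.mod_eq_zero_of_dvd hm0
  rcases hcases m (by omega) hmz hm11 with rfl | rfl | rfl | rfl
  · omega
  · exfalso
    -- order 660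
    have : Fact (Nat.Prime 2) := ⟨Nat.prime_two⟩
    have hH : Nat.card H = 660 := by omega
    have hfac : Nat.card H = 2 ^ 2 * 165 := by rw [hH]; norm_num
    obtain ⟨P, hP⟩ := (IsPGroup.of_card (p := 2) (n := 2)
      (show Nat.card (zpowers (⟨g, hgH⟩ : H)) = 2 ^ 2 by
        rw [Nat.card_zpowers, Subgroup.orderOf_mk, hg]; norm_num)).exists_le_sylow
    have hPc : Nat.card (P : Subgroup H) = 4 := by
      rw [card_sylow_subgroup hfac (by norm_num) P]; norm_num
    have hPeq : zpowers (⟨g, hgH⟩ : H) = (P : Subgroup H) := eq_of_le_of_card_ge hP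
      (by rw [hPc, Nat.card_zpowers, Subgroup.orderOf_mk, hg])
    have hcyc : IsCyclic (P : Subgroup H) := hPeq ▸ inferInstance
    have hCP := IsCyclic.normalizer_le_centralizer
      (P := P) (hP := hcyc) (hp := by rw [hH]; norm_num)
    have hK := MonoidHom.ker_transferSylow_isComplement' P hCP
    set N := (MonoidHom.transferSylow P hCP).ker
    have hNc : Nat.card N = 165 := by
      have h1 := hK.card_mul_card
      rw [hPc, hH] at h1
      omega
    set N' := N.map H.subtype
    have hN' : Nat.card N' = 165 := by rw [card_map_of_injective (subtype_injective _), hNc]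
    have haN : a ∈ N' := by
      refine ⟨⟨a, haH⟩, ?_, rfl⟩
      rw [SetLike.mem_coe, MonoidHom.mem_ker]
      refine orderOf_eq_one_iff.mp (Nat.eq_one_of_dvd_coprimes (by norm_num : Nat.Coprime 11 4) ?_ ?_)
      · exact (orderOf_map_dvd _ _).trans (by rw [Subgroup.orderOf_mk, ha])
      · exact (_root_.orderOf_dvd_natCard _).trans (dvd_of_eq hPc)
    rcases inf_nz_cases h ha haN with e | e <;>
    · obtain ⟨m', hm', hm'11, -, -⟩ := inf_normalizer_data h ha haN e
      omega
  · omega
  · omega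

end Cfsg.Agent.Order95040
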