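/-
A simple group of order 95040 as a permutation group of degree 12 with normalised generators.

Main results (namespace `Cfsg.Agent.Order95040`): `tT`, `order_exclusion`, `exists_embedding`.
-/
import Cfsg.Agent.Lib.Order95040.Four
import Cfsg.Agent.Lib.Order95040.Index12
import Cfsg.Agent.Lib.Order7920.Embed

set_option autoImplicit false

namespace Cfsg.Agent.Order95040

open Cfsg Subgroup SmallOrders
open Order7920 (aP xP pow_fix zpow_fix fixed_of_conj conj_pow_iterate)

/-- The candidates for an involution centralising `xP`. -/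
def tF : Fin 6 → Fin 12 → Fin 12 :=
  ![![11, 1, 2, 3, 4, 5, 6, 7, 8, 9, 10, 0],
    ![11, 2, 1, 6, 8, 10, 3, 9, 4, 7, 5, 0],
    ![11, 6, 4, 7, 2, 8, 1, 3, 5, 10, 9, 0],
    ![11, 7, 5, 10, 6, 2, 4, 1, 9, 8, 3, 0],
    ![11, 8, 3, 2, 10, 7, 9, 5, 1, 6, 4, 0],
    ![11, 10, 9, 8, 7, 6, 5, 4, 3, 2, 1, 0]]

theorem tF_tF : ∀ k i, tF k (tF k i) = i := by decide +kernel

/-- The candidates as permutations. -/
def tT (k : Fin 6) : Equiv.Perm (Fin 12) := ⟨tF k, tF k, tF_tF k, tF_tF k⟩

/-- The map determined by the images of `1` and `2`. -/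
def buildT (u v : Fin 12) : Fin 12 → Fin 12 :=
  ![11, (⟨(1 * u.val) % 11, by omega⟩), ⟨(1 * v.val) % 11, by omega⟩, ⟨(3 * u.val) % 11, by omega⟩,
    ⟨(4 * u.val) % 11, by omega⟩, ⟨(5 * u.val) % 11, by omega⟩, ⟨(3 * v.val) % 11, by omega⟩,
    ⟨(9 * v.val) % 11, by omega⟩, ⟨(4 * v.val) % 11, by omega⟩, ⟨(9 * u.val) % 11, by omega⟩,
    ⟨(5 * v.val) % 11, by omega⟩, 0]

theorem buildT_cases : ∀ u v : Fin 12, (∀ i, buildT u v (buildT u v i) = i) →
    ∃ k, ∀ i, buildT u v i = tF k i := by
  decide +kernel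

theorem xP_val : ∀ w : Fin 12, w ≠ 11 → (xP w).val = (4 * w.val) % 11 := by decide +kernel

variable {G : Type*} [Group G] [Finite G] [IsSimpleGroup G]

/-- An order divisible by 5 divides 10. -/
theorem order_exclusion (S : Setting G) {g : G} (h5 : 5 ∣ orderOf g) : orderOf g ∣ 10 := by
  have hy : orderOf (g ^ (orderOf g / 5)) = 5 := orderOf_pow_orderOf_div (orderOf_pos g).ne' h5
  obtain ⟨-, hC, -⟩ := five_facts S.card S.ha S.F hy
  exact orderOf_dvd_of_centralizer hC ((Commute.refl g).pow_right _).eq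

/-- A faithful action of degree 12 in which `a`, an element of order 5 and a commuting involution act by
normalised permutations. -/
theorem exists_embedding (S : Setting G) :
    ∃ (φ : G →* Equiv.Perm (Fin 12)) (x y : G) (k : Fin 6), Function.Injective φ ∧
      φ S.a = aP ∧ φ x = xP ∧ φ y = tT k := by
  classical
  obtain ⟨g4, H, hg4, hg4H, haH, hne⟩ := exists_subgroup44 S
  obtain ⟨hH, hHs⟩ := exists_index_twelve S.card S.ha hg4 hg4H haH hne
  have hidx : H.index = 12 := by
    have h1 := H.card_mul_index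
    rw [hH, S.card] at h1
    omega
  have hcard : Nat.card (G ⧸ H) = 12 := hidx ▸ (Subgroup.index_eq_card H).symm
  set a := S.a
  have hfaith : ∀ w : G, (∀ p : G ⧸ H, w • p = p) → w = 1 := by
    intro w hw
    have hker : (MulAction.toPermHom G (G ⧸ H)).ker = ⊥ := by
      rw [← Subgroup.normalCore_eq_ker]
      exact normalCore_eq_bot fun e => by rw [e, index_top] at hidx; omega
    have : w ∈ (MulAction.toPermHom G (G ⧸ H)).ker := Equiv.Perm.ext hw
    rwa [hker, mem_bot] at this
  have := Fintype.ofFinite (G ⧸ H)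
  -- the fixed point of `a`
  set o : G ⧸ H := ((1 : G) : G ⧸ H) with ho
  have hao : a • o = o := by
    rw [ho, MulAction.Quotient.smul_coe, smul_eq_mul, mul_one]
    exact QuotientGroup.eq.mpr (by simpa using H.inv_mem haH)
  have hafix : ∀ p : G ⧸ H, a • p = p → p = o := by
    intro p hp
    by_contra hpo
    have hz : Nat.card (zpowers a) = 11 ^ 1 := by rw [Nat.card_zpowers, S.ha, pow_one]
    have hm := (IsPGroup.of_card (p := 11) hz).card_modEq_card_fixedPoints (G ⧸ H)
    rw [hcard] at hm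
    have hfix : ∀ q : G ⧸ H, q ∈ MulAction.fixedPoints (zpowers a) (G ⧸ H) ↔ a • q = q := by
      intro q
      refine ⟨fun hq => hq ⟨a, mem_zpowers a⟩, fun hq w => ?_⟩
      obtain ⟨i, hi⟩ := mem_zpowers_iff.mp w.2
      show (w : G) • q = q
      rw [← hi]
      exact zpow_fix hq i
    rw [Nat.card_eq_fintype_card, Fintype.card_subtype] at hm
    set SF := Finset.univ.filter fun q => q ∈ MulAction.fixedPoints (zpowers a) (G ⧸ H)
    have h2 : 2 ≤ SF.card := Finset.one_lt_card.mpr
      ⟨p, by simp [SF, hfix, hp], o, by simp [SF, hfix, hao], hpo⟩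
    have h12 : SF.card ≤ 12 := hcard ▸ Nat.card_eq_fintype_card (α := G ⧸ H) ▸ Finset.card_le_univ SF
    have hall : SF = Finset.univ := Finset.eq_univ_of_card _ (by
      rw [← Nat.card_eq_fintype_card, hcard]
      unfold Nat.ModEq at hm
      omega)
    have := hfaith a fun q => (hfix q).mp (by
      have := hall ▸ Finset.mem_univ q
      simpa [SF] using this)
    have ha : orderOf a = 11 := S.ha
    rw [this, orderOf_one] at ha
    omega
  -- an element of order 5 normalising `a`
  have ha11 : a ^ 11 = 1 := orderOf_dvd_iff_pow_eq_one.mp (S.ha.symm ▸ dvd_rfl)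
  obtain ⟨c, hc⟩ := isConj_iff.mp (isConj_pow_eleven S.card S.ha (k := 4) (Or.inr (Or.inr (Or.inl rfl))))
  obtain ⟨-, -, hN55, -⟩ := card_sylow_eleven S.card S.ha
  have hcN : c ∈ nz a := mem_nz (by rw [hc]; exact pow_mem (mem_zpowers a) 4)
  set x' := c ^ 11 with hx'
  have hx5 : x' ^ 5 = 1 := by
    rw [hx', ← pow_mul]
    exact orderOf_dvd_iff_pow_eq_one.mp ((Subgroup.orderOf_dvd_natCard _ hcN).trans (dvd_of_eq hN55))
  have hxa : x' * a * x'⁻¹ = a ^ 4 := by
    rw [hx', conj_pow_iterate hc, pow_eq_pow_iff_modEq, S.ha]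
    decide +kernel
  have hxne : x' ≠ 1 := fun e => by
    rw [e] at hxa
    simp only [one_mul, inv_one, mul_one] at hxa
    have h' : a ^ 1 = a ^ 4 := by rw [pow_one]; exact hxa
    rw [pow_eq_pow_iff_modEq, S.ha] at h'
    exact absurd h' (by decide)
  have hxo : orderOf x' = 5 := orderOf_eq_prime hx5 hxne
  have hxo' : x' • o = o := by
    refine hafix _ (fixed_of_conj (i := 3) ?_ hao)
    have e : x' * a ^ 3 * x'⁻¹ = a := by
      rw [← conj_pow, hxa, ← pow_mul, pow_eq_pow_mod (4 * 3) ha11]; simp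
    exact mul_inv_eq_iff_eq_mul.mp e
  -- another fixed point of `x'`
  obtain ⟨p, hp, hpo⟩ : ∃ p : G ⧸ H, x' • p = p ∧ p ≠ o := by
    have hz : Nat.card (zpowers x') = 5 ^ 1 := by rw [Nat.card_zpowers, hxo, pow_one]
    have hm := (IsPGroup.of_card (p := 5) hz).card_modEq_card_fixedPoints (G ⧸ H)
    rw [hcard] at hm
    by_contra hno
    push Not at hno
    have : MulAction.fixedPoints (zpowers x') (G ⧸ H) = {o} := by
      ext q
      refine ⟨fun hq => hno q (hq ⟨x', mem_zpowers x'⟩), fun hq w => ?_⟩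
      obtain ⟨i, hi⟩ := mem_zpowers_iff.mp w.2
      show (w : G) • q = q
      rw [← hi, show q = o from hq]
      exact zpow_fix hxo' i
    rw [this, Nat.card_coe_set_eq, Set.ncard_singleton] at hm
    exact absurd hm (by decide)
  -- labels
  let lab : Fin 12 → G ⧸ H := fun i => if i.val = 11 then o else a ^ i.val • p
  have hinj : Function.Injective lab := by
    have hpa : ∀ n : ℕ, a ^ n • p = p → 11 ∣ n := fun n hn => by
      by_contra hnd
      refine hpo (hafix p ?_)
      have hmem : a ∈ zpowers (a ^ n) := by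
        obtain ⟨m, hm⟩ := exists_pow_eq_self_of_coprime (x := a) (n := n)
          (by rw [S.ha]; exact ((Fact.out : Nat.Prime 11).coprime_iff_not_dvd.mpr hnd).symm)
        exact mem_zpowers_iff.mpr ⟨(m : ℤ), by rw [zpow_natCast]; exact hm⟩
      obtain ⟨i, hi⟩ := mem_zpowers_iff.mp hmem
      rw [← hi]
      exact zpow_fix hn i
    have hne : ∀ n : ℕ, a ^ n • p ≠ o := fun n hn => hpo (by
      have : p = (a ^ n)⁻¹ • o := eq_inv_smul_iff.mpr hn
      rw [this, inv_smul_eq_iff]
      exact (pow_fix hao n).symm)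
    intro i j hij
    simp only [lab] at hij
    apply Fin.ext
    split_ifs at hij with h1 h2 h2
    · omega
    · exact absurd hij.symm (hne _)
    · exact absurd hij (hne _)
    · rcases le_total i.val j.val with hle | hle
      · have := hpa (j.val - i.val) (MulAction.injective (a ^ i.val) (by
          show a ^ i.val • (a ^ (j.val - i.val) • p) = a ^ i.val • p
          rw [← mul_smul, ← pow_add, Nat.add_sub_cancel' hle, ← hij]))
        omega
      · have := hpa (i.val - j.val) (MulAction.injective (a ^ j.val) (by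
          show a ^ j.val • (a ^ (i.val - j.val) • p) = a ^ j.val • p
          rw [← mul_smul, ← pow_add, Nat.add_sub_cancel' hle, hij]))
        omega
  have hbij : Function.Bijective lab := (Nat.bijective_iff_injective_and_card lab).mpr
    ⟨hinj, by rw [hcard, Nat.card_fin]⟩
  let e : (G ⧸ H) ≃ Fin 12 := (Equiv.ofBijective lab hbij).symm
  let φ : G →* Equiv.Perm (Fin 12) :=
    (e.permCongrHom).toMonoidHom.comp (MulAction.toPermHom G (G ⧸ H))
  have hφ : ∀ (w : G) (i j : Fin 12), w • lab i = lab j → φ w i = j := fun w i j h => by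
    show e (w • e.symm i) = j
    rw [show e.symm i = lab i from rfl, h]
    exact e.apply_symm_apply j
  have hφ' : ∀ (w : G) (i : Fin 12), w • lab i = lab (φ w i) := fun w i => by
    obtain ⟨j, hj⟩ := hbij.2 (w • lab i)
    rw [hφ w i j hj.symm, hj]
  have hφinj : Function.Injective φ := by
    refine (injective_iff_map_eq_one φ).mpr fun w hw => hfaith w fun q => ?_
    obtain ⟨i, rfl⟩ := hbij.2 q
    rw [hφ', hw]
    rfl
  have hlab11 : lab 11 = o := if_pos rfl
  have hlab : ∀ i : Fin 12, i.val ≠ 11 → lab i = a ^ i.val • p := fun i hi => if_neg hi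
  have hφa : φ a = aP := by
    refine Equiv.ext fun i => hφ a i _ ?_
    by_cases hi : i.val = 11
    · rw [show i = 11 from Fin.ext hi, show aP 11 = 11 from by decide, hlab11, hao]
    · have hv : ∀ i : Fin 12, i.val ≠ 11 → (aP i).val = (i.val + 1) % 11 ∧ (aP i).val ≠ 11 := by decide +kernel
      obtain ⟨h1, h2⟩ := hv i hi
      rw [hlab i hi, hlab _ h2, h1, ← mul_smul, ← pow_succ', pow_eq_pow_mod (i.val + 1) ha11]
  have hφx : φ x' = xP := by
    refine Equiv.ext fun i => hφ x' i _ ?_
    by_cases hi : i.val = 11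
    · rw [show i = 11 from Fin.ext hi, show xP 11 = 11 from by decide, hlab11, hxo']
    · have hv : ∀ i : Fin 12, i.val ≠ 11 → (xP i).val = (4 * i.val) % 11 ∧ (xP i).val ≠ 11 := by decide +kernel
      obtain ⟨h1, h2⟩ := hv i hi
      have e1 : x' * a ^ i.val = a ^ (4 * i.val) * x' := by
        rw [← mul_inv_eq_iff_eq_mul, ← conj_pow, hxa, pow_mul]
      rw [hlab i hi, hlab _ h2, h1, ← mul_smul, e1, mul_smul, hp, pow_eq_pow_mod (4 * i.val) ha11]
  have hxfix : ∀ i, φ x' i = i → i = 0 ∨ i = 11 := by rw [hφx]; decide +kernel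
  -- an involution centralising `x'`
  obtain ⟨-, -, -, -, y, hy, hyx, -⟩ := five_facts S.card S.ha S.F hxo
  have hy2 : φ y * φ y = 1 := by rw [← map_mul, ← pow_two, ← hy, pow_orderOf_eq_one, map_one]
  have hcomm : φ y * φ x' = φ x' * φ y := by rw [← map_mul, ← map_mul, hyx.eq]
  have hyinv : ∀ i, φ y (φ y i) = i := fun i => by
    rw [← Equiv.Perm.mul_apply, hy2, Equiv.Perm.one_apply]
  have hyfix : ∀ i, φ x' i = i → φ x' (φ y i) = φ y i := fun i hi => by
    have := Equiv.congr_fun hcomm i
    rw [Equiv.Perm.mul_apply, Equiv.Perm.mul_apply, hi] at this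
    exact this.symm
  have h11 : φ x' 11 = 11 := by rw [hφx]; rfl
  have hy11 : φ y 11 = 0 := by
    refine (hxfix _ (hyfix 11 h11)).resolve_right fun e => ?_
    have hyo : y • o = o := by rw [← hlab11, hφ' y 11, e]
    have hmemH : ∀ w : G, w • o = o → w ∈ H := fun w hw => by
      rw [ho, MulAction.Quotient.smul_coe, smul_eq_mul, mul_one, QuotientGroup.eq, mul_one] at hw
      exact inv_inv w ▸ H.inv_mem hw
    have : Fact (Nat.Prime 3) := ⟨Nat.prime_three⟩
    have hC := Order7920.card_centralizer_five (G := H) hH (a := ⟨a, haH⟩) (x := ⟨x', hmemH x' hxo'⟩)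
      (by rw [Subgroup.orderOf_mk, S.ha]) (by rw [Subgroup.orderOf_mk, hxo])
    have := orderOf_dvd_of_centralizer hC (g := (⟨y, hmemH y hyo⟩ : H)) (Subtype.ext hyx.eq)
    rw [Subgroup.orderOf_mk, hy] at this
    norm_num at this
  have hy0 : φ y 0 = 11 := by rw [← hy11, hyinv]
  have hne' : ∀ i, i ≠ 0 → i ≠ 11 → φ y i ≠ 11 := fun i h0 _ e =>
    h0 ((φ y).injective (e.trans hy0.symm))
  have hstep : ∀ i, i ≠ 0 → i ≠ 11 → (φ y (xP i)).val = (4 * (φ y i).val) % 11 := by
    intro i h0 h1
    have := Equiv.congr_fun hcomm i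
    rw [Equiv.Perm.mul_apply, Equiv.Perm.mul_apply, hφx] at this
    rw [this]
    exact xP_val _ (hne' i h0 h1)
  have hbuild : ∀ i, φ y i = buildT (φ y 1) (φ y 2) i := by
    have a1 := hstep 1 (by decide) (by decide)
    have a4 := hstep 4 (by decide) (by decide)
    have a5 := hstep 5 (by decide) (by decide)
    have a9 := hstep 9 (by decide) (by decide)
    have b2 := hstep 2 (by decide) (by decide)
    have b8 := hstep 8 (by decide) (by decide)
    have b10 := hstep 10 (by decide) (by decide)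
    have b7 := hstep 7 (by decide) (by decide)
    rw [show xP 1 = 4 by decide] at a1
    rw [show xP 4 = 5 by decide] at a4
    rw [show xP 5 = 9 by decide] at a5
    rw [show xP 9 = 3 by decide] at a9
    rw [show xP 2 = 8 by decide] at b2
    rw [show xP 8 = 10 by decide] at b8
    rw [show xP 10 = 7 by decide] at b10
    rw [show xP 7 = 6 by decide] at b7
    have h1b := Fin.val_lt_last (n := 11) (hne' 1 (by decide) (by decide))
    have h2b := Fin.val_lt_last (n := 11) (hne' 2 (by decide) (by decide))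
    intro i
    fin_cases i
    · exact hy0
    · exact Fin.ext (show (φ y 1).val = (1 * (φ y 1).val) % 11 by omega)
    · exact Fin.ext (show (φ y 2).val = (1 * (φ y 2).val) % 11 by omega)
    · exact Fin.ext (show (φ y 3).val = (3 * (φ y 1).val) % 11 by omega)
    · exact Fin.ext (show (φ y 4).val = (4 * (φ y 1).val) % 11 by omega)
    · exact Fin.ext (show (φ y 5).val = (5 * (φ y 1).val) % 11 by omega)
    · exact Fin.ext (show (φ y 6).val = (3 * (φ y 2).val) % 11 by omega)
    · exact Fin.ext (show (φ y 7).val = (9 * (φ y 2).val) % 11 by omega)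
    · exact Fin.ext (show (φ y 8).val = (4 * (φ y 2).val) % 11 by omega)
    · exact Fin.ext (show (φ y 9).val = (9 * (φ y 1).val) % 11 by omega)
    · exact Fin.ext (show (φ y 10).val = (5 * (φ y 2).val) % 11 by omega)
    · exact hy11
  obtain ⟨k, hk⟩ := buildT_cases (φ y 1) (φ y 2) (fun i => by rw [← hbuild, ← hbuild, hyinv])
  exact ⟨φ, x', y, k, hφinj, hφa, hφx, Equiv.ext fun i => (hbuild i).trans (hk i)⟩

end Cfsg.Agent.Order95040
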