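/-
The Mathieu group M12 on the twelve points outside the dodecad of squares.

Main results (namespace `Cfsg.Agent.Order95040`): `rM`, `aP_mem_range`, `xP_mem_range`, `tT_mem_range`.
-/
import Cfsg.Agent.Lib.Order7920.Model
import Cfsg.Agent.Lib.Order95040.Embed

set_option autoImplicit false
open scoped Pointwise
open Cfsg Cfsg.Agent.Golay Cfsg.Agent.MathieuEleven
open Cfsg.Agent.Order7920 (Outside outEquiv pos12 lab12)

namespace Cfsg.Agent.Order95040

theorem apply_mem_iff_twelve (m : ↥Spor.M12) (p : GolayPt) :
    (m : Equiv.Perm GolayPt) p ∉ pts dodecad0 ↔ p ∉ pts dodecad0 := by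
  rw [not_iff_not, pts_dodecad0]
  have h : (m : Equiv.Perm GolayPt) • Spor.squareDodecad = Spor.squareDodecad :=
    MulAction.mem_stabilizer_iff.mp m.2.2
  constructor
  · intro hp
    rw [← h, smul_eq_image, Finset.mem_image] at hp
    obtain ⟨q, hq, e⟩ := hp
    exact (m : Equiv.Perm GolayPt).injective e ▸ hq
  · intro hp
    rw [← h, smul_eq_image]
    exact Finset.mem_image_of_mem _ hp

/-- M12 on the twelve labelled points. -/
def rM : ↥Spor.M12 →* Equiv.Perm (Fin 12) where
  toFun m := (outEquiv.trans ((m : Equiv.Perm GolayPt).subtypePerm (apply_mem_iff_twelve m))).trans outEquiv.symm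
  map_one' := by
    refine Equiv.ext fun i => ?_
    rw [Equiv.trans_apply, Equiv.trans_apply, Equiv.Perm.one_apply]
    exact (congrArg outEquiv.symm (Subtype.ext rfl)).trans (outEquiv.symm_apply_apply i)
  map_mul' m n := by
    refine Equiv.ext fun i => ?_
    simp only [Equiv.trans_apply, Equiv.Perm.mul_apply, Equiv.apply_symm_apply]
    exact congrArg outEquiv.symm (Subtype.ext rfl)

/-- An element of M12 interchanging two orbits of an element of order 5. -/
def cT12 : ℕ := 0x7d6c75c1d2bc4c399482a354962001

/-- An element of order 5 normalising the standard element of order 11. -/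
def cX12 : ℕ := 0x5daa5a12e99bc723c50d531c281820

/-- `d` codes an element of M12. -/
def okM (d : ℕ) : Bool := isAut d && imgMask d dodecad0 == dodecad0

theorem mem_m12_of_okM {d : ℕ} (h : okM d = true) : toPerm d ∈ Spor.M12 := by
  simp only [okM, Bool.and_eq_true, beq_iff_eq] at h
  refine ⟨toPerm_mem_M24 h.1, MulAction.mem_stabilizer_iff.mpr ?_⟩
  rw [← pts_dodecad0, ← pts_imgMask (validPerm_of_isAut h.1), h.2]

theorem mem_range_of_code (d : ℕ) (P : Equiv.Perm (Fin 12)) (h : okM d = true)
    (hd : ∀ i, pos12 (fn d (idx (pt (lab12 i)))) = P i) : P ∈ rM.range := by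
  refine ⟨⟨toPerm d, mem_m12_of_okM h⟩, Equiv.ext fun i => ?_⟩
  rw [← hd i]
  show pos12 (idx (toPerm d (pt (lab12 i)))) = _
  rw [idx_toPerm (validPerm_of_isAut (by
    simp only [okM, Bool.and_eq_true] at h; exact h.1))]

theorem aP_mem_range : Order7920.aP ∈ rM.range :=
  mem_range_of_code ca _ (by decide +kernel) (by decide +kernel)

theorem xP_mem_range : Order7920.xP ∈ rM.range :=
  mem_range_of_code cX12 _ (by decide +kernel) (by decide +kernel)

theorem tT_mem_range : tT 4 ∈ rM.range :=
  mem_range_of_code cT12 _ (by decide +kernel) (by decide +kernel)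

theorem natCard_m12 : Nat.card ↥Spor.M12 = 95040 :=
  natCard_inf_stabilizer_dodecad (pts_dodecad0 ▸ dodecad0_mem)

end Cfsg.Agent.Order95040
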