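/-
Uniqueness of the simple group of order 95040.

Main results (namespace `Cfsg.Agent.Order95040`):
* `nonempty_mulEquiv_m12` : a simple group of order 95040 is isomorphic to `Spor.M12`.
-/
import Cfsg.Agent.Lib.Order95040.Model
import Cfsg.Agent.Lib.Order7920.Unique

set_option autoImplicit false
open Cfsg

namespace Cfsg.Agent.Order95040

open Subgroup
open Order7920 (aP xP sP scale_a scale_x orderOf_cert)

theorem scale_three : sP * tT 3 * sP⁻¹ = tT 4 := by decide +kernel

theorem conj_xP : xP * aP * xP⁻¹ = aP ^ 4 := by decide +kernel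

variable {G : Type*} [Group G] [Finite G] [IsSimpleGroup G]

/-- From the good candidate to generation. -/
theorem closure_eq_top (h : Nat.card G = 95040) {φ : G →* Equiv.Perm (Fin 12)}
    (hφ : Function.Injective φ) {a x y : G} (ha : φ a = aP) (hx : φ x = xP) (hy : φ y = tT 4) :
    closure ({a, x, y} : Set G) = ⊤ := by
  set K := closure ({a, x, y} : Set G)
  have haK : a ∈ K := subset_closure (by simp)
  have hxK : x ∈ K := subset_closure (by simp)
  have hyK : y ∈ K := subset_closure (by simp)
  have hao : orderOf a = 11 :=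
    orderOf_cert hφ ha 11 (by norm_num) (by decide +kernel) (by decide +kernel)
  have hxo : orderOf x = 5 :=
    orderOf_cert hφ hx 5 (by norm_num) (by decide +kernel) (by decide +kernel)
  have hyo : orderOf y = 2 :=
    orderOf_cert hφ hy 2 (by norm_num) (by decide +kernel) (by decide +kernel)
  have h8 : orderOf (a * x * x * y) = 8 :=
    orderOf_cert hφ (P := aP * xP * xP * tT 4) (by simp [map_mul, ha, hx, hy]) 8 (by norm_num)
      (by decide +kernel) (by decide +kernel)
  have hxy : x * y = y * x := hφ (by rw [map_mul, map_mul, hx, hy]; decide +kernel)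
  have hconj : x * a * x⁻¹ = a ^ 4 := hφ (by
    rw [map_mul, map_mul, map_inv, map_pow, ha, hx, conj_xP])
  have hxN : x ∈ nz a := mem_nz (by rw [hconj]; exact pow_mem (mem_zpowers a) 4)
  have hd : Nat.card ↥(K ⊓ nz a) = 55 := by
    rcases inf_nz_cases h hao haK with e | e
    · have := Subgroup.orderOf_dvd_natCard _ (show x ∈ K ⊓ nz a from ⟨hxK, hxN⟩)
      rw [e, hxo] at this
      norm_num at this
    · exact e
  obtain ⟨m, hm, hm11, hdvd, -⟩ := inf_normalizer_data h hao haK hd
  have hm0 : m ∣ 1728 := Nat.dvd_of_mul_dvd_mul_left (show 0 < 55 by norm_num)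
    (show 55 * m ∣ 55 * 1728 by norm_num; exact hdvd)
  have h8K : 8 ∣ 55 * m := by
    rw [hm, ← h8]
    exact Subgroup.orderOf_dvd_natCard _ (mul_mem (mul_mem (mul_mem haK hxK) hxK) hyK)
  have h8m : 8 ∣ m := (by norm_num : Nat.Coprime 8 55).dvd_of_dvd_mul_left h8K
  have hcases : ∀ u < 42, ∀ r < 42, 1728 % (42 * u + r) ≠ 0 ∨ (42 * u + r) % 11 ≠ 1 ∨
      (42 * u + r) % 8 ≠ 0 ∨ 42 * u + r = 144 ∨ 42 * u + r = 1728 := by decide +kernel
  have hc := hcases (m / 42) (by have := Nat.le_of_dvd (by norm_num) hm0; omega) (m % 42) (by omega)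
  rw [Nat.div_add_mod] at hc
  rcases hc with e | e | e | rfl | rfl
  · exact absurd (Nat.mod_eq_zero_of_dvd hm0) e
  · exact absurd hm11 e
  · exact absurd (Nat.mod_eq_zero_of_dvd h8m) e
  · exfalso
    have : Fact (Nat.Prime 3) := ⟨Nat.prime_three⟩
    have hK : Nat.card K = 7920 := by omega
    have := isSimpleGroup_7920 h hK
    have hC := Order7920.card_centralizer_five (G := K) hK (a := ⟨a, haK⟩) (x := ⟨x, hxK⟩)
      (by rw [Subgroup.orderOf_mk, hao]) (by rw [Subgroup.orderOf_mk, hxo])
    have h2 := SmallOrders.orderOf_dvd_of_centralizer hC (g := (⟨y, hyK⟩ : K)) (Subtype.ext hxy.symm)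
    rw [Subgroup.orderOf_mk, hyo] at h2
    norm_num at h2
  · exact Subgroup.eq_top_of_card_eq K (by omega)

/-- From the good candidate to the isomorphism. -/
theorem nonempty_equiv_of_good (h : Nat.card G = 95040) {φ : G →* Equiv.Perm (Fin 12)}
    (hφ : Function.Injective φ) {a x y : G} (ha : φ a = aP) (hx : φ x = xP) (hy : φ y = tT 4) :
    Nonempty (G ≃* ↥Spor.M12) := by
  have hle : φ.range ≤ rM.range := by
    rw [MonoidHom.range_eq_map, ← closure_eq_top h hφ ha hx hy, MonoidHom.map_closure, Subgroup.closure_le]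
    rintro _ ⟨z, (rfl | rfl | rfl), rfl⟩
    · rw [ha]; exact aP_mem_range
    · rw [hx]; exact xP_mem_range
    · rw [hy]; exact tT_mem_range
  have hc1 : Nat.card φ.range = 95040 := by
    rw [← Nat.card_congr (MonoidHom.ofInjective hφ).toEquiv, h]
  have hc2 : Nat.card rM.range ≤ 95040 := by
    rw [← natCard_m12]
    exact Nat.card_le_card_of_surjective rM.rangeRestrict rM.rangeRestrict_surjective
  have heq : φ.range = rM.range := Subgroup.eq_of_le_of_card_ge hle (by omega)
  have hbij : Function.Bijective rM.rangeRestrict :=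
    (Nat.bijective_iff_surjective_and_card _).mpr
      ⟨rM.rangeRestrict_surjective, by rw [natCard_m12, ← heq, hc1]⟩
  exact ⟨((MonoidHom.ofInjective hφ).trans (MulEquiv.subgroupCongr heq)).trans
    (MulEquiv.ofBijective rM.rangeRestrict hbij).symm⟩

/-- **Uniqueness of the simple group of order 95040.** -/
theorem nonempty_mulEquiv_m12 (h : Nat.card G = 95040) : Nonempty (G ≃* ↥Spor.M12) := by
  obtain ⟨S⟩ := exists_setting h
  obtain ⟨φ, x, y, k, hφ, ha, hx, hy⟩ := exists_embedding S
  have bad : ∀ (w : G) (P : Equiv.Perm (Fin 12)) (n : ℕ), φ w = P → P ^ n = 1 →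
      (∀ m : Fin n, 0 < m.val → P ^ m.val ≠ 1) → 0 < n → 5 ∣ n → ¬ n ∣ 10 → False := by
    intro w P n hw h1 h2 hn h5 hb
    have ho := orderOf_cert hφ hw n hn h1 h2
    exact hb (ho ▸ order_exclusion S (ho.symm ▸ h5))
  have w1 : φ (S.a * x * y) = aP * xP * tT k := by rw [map_mul, map_mul, ha, hx, hy]
  have w2 : φ (S.a * S.a * y * S.a * y * S.a * y) = aP * aP * tT k * aP * tT k * aP * tT k := by
    simp only [map_mul, ha, hy]
  have w5 : φ (S.a * S.a * x * y * S.a * y) = aP * aP * xP * tT k * aP * tT k := by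
    simp only [map_mul, ha, hx, hy]
  fin_cases k
  · exact (bad _ _ 30 w1 (by decide +kernel) (by decide +kernel) (by norm_num) (by norm_num) (by norm_num)).elim
  · exact (bad _ _ 20 w2 (by decide +kernel) (by decide +kernel) (by norm_num) (by norm_num) (by norm_num)).elim
  · exact (bad _ _ 20 w2 (by decide +kernel) (by decide +kernel) (by norm_num) (by norm_num) (by norm_num)).elim
  · refine nonempty_equiv_of_good h (φ := (MulAut.conj sP).toMonoidHom.comp φ)
      ((MulAut.conj sP).injective.comp hφ) (a := S.a ^ 6) (x := x) (y := y) ?_ ?_ ?_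
    · show sP * φ (S.a ^ 6) * sP⁻¹ = aP
      rw [map_pow, ha, scale_a]
    · show sP * φ x * sP⁻¹ = xP
      rw [hx, scale_x]
    · show sP * φ y * sP⁻¹ = tT 4
      rw [hy]; exact scale_three
  · exact nonempty_equiv_of_good h hφ ha hx hy
  · exact (bad _ _ 15 w5 (by decide +kernel) (by decide +kernel) (by norm_num) (by norm_num) (by norm_num)).elim

end Cfsg.Agent.Order95040
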